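import Cfsg.Agent.Lib.Leech.GolayWt

/-! The Leech lattice: membership tests, closure, evenness, minimal norm, monomial invariance. -/

set_option autoImplicit false

namespace Cfsg.Lib.Leech

open Finset
open scoped Pointwise symmDiff

/-- integer indicator of a set of points -/
def ind (c : Finset GolayPt) : GolayPt → ℤ := fun i => if i ∈ c then 1 else 0

/-- sign pattern of a set of points -/
def sgn (c : Finset GolayPt) : GolayPt → ℤ := fun i => if i ∈ c then -1 else 1

theorem sum_ind (c : Finset GolayPt) : ∑ i, ind c i = c.card := by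
  simp [ind]

theorem sgn_eq (c : Finset GolayPt) (i : GolayPt) : sgn c i = 1 - 2 * ind c i := by
  unfold sgn ind; split_ifs <;> norm_num

theorem sgn_mul_self (c : Finset GolayPt) (i : GolayPt) : sgn c i * sgn c i = 1 := by
  unfold sgn; split_ifs <;> norm_num

theorem sum_const_pt (m : ℤ) : ∑ _i : GolayPt, m = 24 * m := by
  simp [card_pt]

theorem gc_four_dvd {c : Finset GolayPt} (hc : c ∈ GC) : 4 ∣ c.card := by
  rcases gc_card hc with h | h | h | h | h <;> rw [h] <;> norm_num

theorem gc_inter_even {c d : Finset GolayPt} (hc : c ∈ GC) (hd : d ∈ GC) : 2 ∣ (c ∩ d).card := by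
  have h1 := gc_four_dvd hc
  have h2 := gc_four_dvd hd
  have h3 := gc_four_dvd (symmDiff_mem_GC hc hd)
  have h4 := card_symmDiff_add c d
  omega

theorem gc_eq_empty_of_lt {c : Finset GolayPt} (hc : c ∈ GC) (h : c.card < 8) : c = ∅ := by
  rcases gc_card hc with h1 | h1 | h1 | h1 | h1
  · exact Finset.card_eq_zero.mp h1
  all_goals omega

/-- Linear description of the Leech lattice. -/
def IsL (x : GolayPt → ℤ) : Prop :=
  ∃ (m : ℤ) (y : GolayPt → ℤ), (∀ i, x i = m + 2 * y i) ∧ (∑ i, y i) % 4 = (2 * m) % 4 ∧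
    (fun i => (y i : ZMod 2)) ∈ golayCode

theorem intCast_zmod2_ne_zero (a : ℤ) : (a : ZMod 2) ≠ 0 ↔ a % 2 = 1 := by
  rw [Ne, ZMod.intCast_zmod_eq_zero_iff_dvd]
  omega

theorem mem_leechSet_iff (x : GolayPt → ℤ) : x ∈ leechSet ↔ IsL x := by
  constructor
  · rintro ⟨m, h1, h2, h3⟩
    refine ⟨m, fun i => (x i - m) / 2, fun i => ?_, ?_, ?_⟩
    · have := h1 i
      unfold Int.ModEq at this
      beta_reduce
      omega
    · have h : ∑ i, x i = 24 * m + 2 * ∑ i, (x i - m) / 2 := by
        rw [← sum_const_pt, Finset.mul_sum, ← Finset.sum_add_distrib]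
        refine Finset.sum_congr rfl fun i _ => ?_
        have := h1 i
        unfold Int.ModEq at this
        omega
      unfold Int.ModEq at h2
      beta_reduce
      omega
    · rw [← support_mem_GC_iff]
      convert h3 (m + 2) using 1
      ext i
      simp only [support₂, Finset.mem_filter, Finset.mem_univ, true_and, intCast_zmod2_ne_zero]
      have := h1 i
      unfold Int.ModEq at *
      omega
  · rintro ⟨m, y, h1, h2, h3⟩
    refine ⟨m, fun i => ?_, ?_, fun k => ?_⟩
    · rw [h1 i]; unfold Int.ModEq; omega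
    · have h : ∑ i, x i = 24 * m + 2 * ∑ i, y i := by
        rw [← sum_const_pt, Finset.mul_sum, ← Finset.sum_add_distrib]
        exact Finset.sum_congr rfl fun i _ => h1 i
      unfold Int.ModEq
      omega
    · have h4 := support_mem_GC_iff.mpr h3
      by_cases hk : k % 4 = (m + 2) % 4
      · convert h4 using 1
        ext i
        simp only [support₂, Finset.mem_filter, Finset.mem_univ, true_and, intCast_zmod2_ne_zero,
          h1 i]
        unfold Int.ModEq
        omega
      · by_cases hk' : k % 4 = m % 4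
        · convert compl_mem_GC h4 using 1
          ext i
          simp only [support₂, Finset.mem_filter, Finset.mem_univ, true_and, Finset.mem_compl,
            intCast_zmod2_ne_zero, h1 i]
          unfold Int.ModEq
          omega
        · convert empty_mem_GC using 1
          ext i
          simp only [Finset.mem_filter, Finset.mem_univ, true_and, h1 i, Finset.notMem_empty,
            iff_false]
          unfold Int.ModEq
          omega

/-- `leechSet` as an additive subgroup. -/
def leechSub : AddSubgroup (GolayPt → ℤ) where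
  carrier := {x | IsL x}
  zero_mem' := ⟨0, 0, by simp, by simp, by
    convert golayCode.zero_mem using 1; funext i; simp⟩
  add_mem' := by
    rintro x x' ⟨m, y, h1, h2, h3⟩ ⟨m', y', h1', h2', h3'⟩
    refine ⟨m + m', y + y', fun i => ?_, ?_, ?_⟩
    · simp only [Pi.add_apply, h1 i, h1' i]; ring
    · simp only [Pi.add_apply, Finset.sum_add_distrib]; omega
    · convert golayCode.add_mem h3 h3' using 1; funext i; simp
  neg_mem' := by
    rintro x ⟨m, y, h1, h2, h3⟩
    refine ⟨-m, -y, fun i => ?_, ?_, ?_⟩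
    · simp only [Pi.neg_apply, h1 i]; ring
    · simp only [Pi.neg_apply, Finset.sum_neg_distrib]; omega
    · convert golayCode.neg_mem h3 using 1; funext i; simp

theorem coe_leechSub : (leechSub : Set (GolayPt → ℤ)) = leechSet := by
  ext x; rw [mem_leechSet_iff]; rfl

theorem leechLattice_eq : leechLattice = leechSub := by
  unfold leechLattice
  rw [← coe_leechSub, AddSubgroup.closure_eq]

theorem mem_leech_iff_isL {x : GolayPt → ℤ} : x ∈ leechLattice ↔ IsL x := by
  rw [leechLattice_eq]; rfl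

theorem mem_leech_iff_set {x : GolayPt → ℤ} : x ∈ leechLattice ↔ x ∈ leechSet := by
  rw [mem_leech_iff_isL, mem_leechSet_iff]

theorem filter_mem_GC {x : GolayPt → ℤ} (hx : x ∈ leechLattice) (k : ℤ) :
    (univ.filter fun i => x i % 4 = k % 4) ∈ GC := by
  obtain ⟨m, -, -, h⟩ := mem_leech_iff_set.mp hx
  exact h k

theorem cast_ind (c : Finset GolayPt) : (fun i => ((ind c i : ℤ) : ZMod 2)) = wordOf c := by
  funext i; unfold ind wordOf; split_ifs <;> simp

/-- even vectors -/
theorem even_mem {c : Finset GolayPt} (hc : c ∈ GC) (z : GolayPt → ℤ) (hz : (∑ i, z i) % 2 = 0)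
    {x : GolayPt → ℤ} (hx : ∀ i, x i = 2 * ind c i + 4 * z i) : x ∈ leechLattice := by
  rw [mem_leech_iff_isL]
  refine ⟨0, fun i => ind c i + 2 * z i, fun i => by rw [hx i]; ring, ?_, ?_⟩
  · rw [Finset.sum_add_distrib, sum_ind, ← Finset.mul_sum]
    have := gc_four_dvd hc
    omega
  · convert mem_GC_iff.mp hc using 1
    rw [← cast_ind]
    funext i
    push_cast
    rw [show (2 : ZMod 2) = 0 from rfl]; simp

/-- odd vectors -/
theorem odd_mem {c : Finset GolayPt} (hc : c ∈ GC) (z : GolayPt → ℤ) (hz : (∑ i, z i) % 2 = 1)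
    {x : GolayPt → ℤ} (hx : ∀ i, x i = sgn c i + 4 * z i) : x ∈ leechLattice := by
  rw [mem_leech_iff_isL]
  refine ⟨1, fun i => - ind c i + 2 * z i, fun i => by rw [hx i, sgn_eq]; ring, ?_, ?_⟩
  · rw [Finset.sum_add_distrib, Finset.sum_neg_distrib, sum_ind, ← Finset.mul_sum]
    have := gc_four_dvd hc
    omega
  · convert mem_GC_iff.mp hc using 1
    rw [← cast_ind]
    funext i
    push_cast
    rw [show (2 : ZMod 2) = 0 from rfl]; simp

/-- The two kinds of lattice vectors. -/
theorem leech_cases {x : GolayPt → ℤ} (hx : x ∈ leechLattice) :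
    (∃ c ∈ GC, ∃ z : GolayPt → ℤ, (∀ i, x i = 2 * ind c i + 4 * z i) ∧ (∑ i, z i) % 2 = 0) ∨
    (∃ c ∈ GC, ∃ z : GolayPt → ℤ, (∀ i, x i = sgn c i + 4 * z i) ∧ (∑ i, z i) % 2 = 1) := by
  obtain ⟨m, h1, h2, -⟩ := mem_leech_iff_set.mp hx
  unfold Int.ModEq at h1 h2
  rcases Int.emod_two_eq_zero_or_one m with hm | hm
  · left
    have hc := filter_mem_GC hx 2
    set c := univ.filter fun i => x i % 4 = 2 % 4 with hcdef
    have key : ∀ i, x i = 2 * ind c i + 4 * ((x i - 2 * ind c i) / 4) := by
      intro i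
      have := h1 i
      have h5 : i ∈ c ↔ x i % 4 = 2 := by simp [hcdef]
      unfold ind
      split_ifs with h <;> rw [h5] at h <;> omega
    refine ⟨c, hc, _, key, ?_⟩
    have h : ∑ i, x i = 2 * c.card + 4 * ∑ i, (x i - 2 * ind c i) / 4 := by
      rw [← sum_ind, Finset.mul_sum, Finset.mul_sum, ← Finset.sum_add_distrib]
      exact Finset.sum_congr rfl fun i _ => key i
    have := gc_four_dvd hc
    omega
  · right
    have hc := filter_mem_GC hx 3
    set c := univ.filter fun i => x i % 4 = 3 % 4 with hcdef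
    have key : ∀ i, x i = sgn c i + 4 * ((x i - sgn c i) / 4) := by
      intro i
      have := h1 i
      have h5 : i ∈ c ↔ x i % 4 = 3 := by simp [hcdef]
      unfold sgn
      split_ifs with h <;> rw [h5] at h <;> omega
    refine ⟨c, hc, _, key, ?_⟩
    have h : ∑ i, x i = 24 - 2 * c.card + 4 * ∑ i, (x i - sgn c i) / 4 := by
      have h6 : ∑ i, sgn c i = 24 - 2 * c.card := by
        simp only [sgn_eq, Finset.sum_sub_distrib, ← Finset.mul_sum, sum_ind, sum_const_pt]
        ring
      rw [← h6, Finset.mul_sum, ← Finset.sum_add_distrib]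
      exact Finset.sum_congr rfl fun i _ => key i
    have := gc_four_dvd hc
    omega

theorem parity_eq {x : GolayPt → ℤ} (hx : x ∈ leechLattice) (i j : GolayPt) :
    x i % 2 = x j % 2 := by
  obtain ⟨m, h1, -, -⟩ := mem_leech_iff_set.mp hx
  exact (h1 i).trans (h1 j).symm

theorem sum_mod_eight {x : GolayPt → ℤ} (hx : x ∈ leechLattice) (i : GolayPt) :
    (∑ j, x j) % 8 = (4 * x i) % 8 := by
  obtain ⟨m, h1, h2, -⟩ := mem_leech_iff_set.mp hx
  have := h1 i
  unfold Int.ModEq at *
  omega

theorem sq_mod_two (z : ℤ) : ∃ t : ℤ, z ^ 2 = z + 2 * t := by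
  obtain ⟨t, ht⟩ := Int.even_mul_pred_self z
  exact ⟨t, by linarith⟩

theorem leech_sixteen_dvd {x : GolayPt → ℤ} (hx : x ∈ leechLattice) : (16 : ℤ) ∣ sqNorm x := by
  rcases leech_cases hx with ⟨c, hc, z, h1, h2⟩ | ⟨c, hc, z, h1, h2⟩
  · have h : sqNorm x = 4 * c.card + 16 * ∑ i, (ind c i * z i + z i ^ 2) := by
      rw [← sum_ind, Finset.mul_sum, Finset.mul_sum, ← Finset.sum_add_distrib]
      refine Finset.sum_congr rfl fun i _ => ?_
      rw [h1 i]; unfold ind; split_ifs <;> ring
    have := gc_four_dvd hc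
    omega
  · have h : sqNorm x = 24 * 1 + 8 * ∑ i, z i + 16 * ∑ i, (z i ^ 2 - ind c i * z i) := by
      rw [← sum_const_pt, Finset.mul_sum, Finset.mul_sum, ← Finset.sum_add_distrib,
        ← Finset.sum_add_distrib]
      refine Finset.sum_congr rfl fun i _ => ?_
      rw [h1 i]; unfold ind sgn; split_ifs <;> ring
    omega

theorem sqNorm_nonneg {α : Type*} [Fintype α] (x : α → ℤ) : 0 ≤ sqNorm x :=
  Finset.sum_nonneg fun _ _ => sq_nonneg _

theorem sqNorm_eq_zero {α : Type*} [Fintype α] {x : α → ℤ} (h : sqNorm x = 0) : x = 0 := by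
  funext i
  have := (Finset.sum_eq_zero_iff_of_nonneg (fun j _ => sq_nonneg (x j))).mp h i (mem_univ i)
  simpa using this

theorem sq_le_sqNorm {α : Type*} [Fintype α] (x : α → ℤ) (i : α) : x i ^ 2 ≤ sqNorm x :=
  Finset.single_le_sum (f := fun j => x j ^ 2) (fun _ _ => sq_nonneg _) (mem_univ i)

/-- an odd vector has norm at least 24 -/
theorem odd_norm_ge {x : GolayPt → ℤ} (h : ∀ i, x i % 2 = 1) : 24 ≤ sqNorm x := by
  have : ∑ _i : GolayPt, (1 : ℤ) ≤ sqNorm x := by
    refine Finset.sum_le_sum fun i _ => ?_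
    have := h i
    have h0 : x i ≠ 0 := by omega
    exact (one_le_sq_iff_one_le_abs _).mpr (Int.one_le_abs h0)
  rw [sum_const_pt] at this
  omega

theorem four_card_le {x : GolayPt → ℤ} {c : Finset GolayPt} {z : GolayPt → ℤ}
    (h1 : ∀ i, x i = 2 * ind c i + 4 * z i) : 4 * (c.card : ℤ) ≤ sqNorm x := by
  rw [← sum_ind, Finset.mul_sum]
  refine Finset.sum_le_sum fun i _ => ?_
  rw [h1 i]; unfold ind
  split_ifs
  · nlinarith [Int.le_self_sq (z i), Int.le_self_sq (-z i), sq_nonneg (z i)]
  · nlinarith [sq_nonneg (z i)]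

theorem leech_min {x : GolayPt → ℤ} (hx : x ∈ leechLattice) (h0 : x ≠ 0) : 32 ≤ sqNorm x := by
  have h16 := leech_sixteen_dvd hx
  have hpos : sqNorm x ≠ 0 := fun h => h0 (sqNorm_eq_zero h)
  have hnn := sqNorm_nonneg x
  by_contra hlt
  have h : sqNorm x = 16 := by omega
  rcases leech_cases hx with ⟨c, hc, z, h1, h2⟩ | ⟨c, hc, z, h1, h2⟩
  · have h4 := four_card_le h1
    have hc0 : c = ∅ := gc_eq_empty_of_lt hc (by omega)
    subst hc0
    choose t ht using fun i => sq_mod_two (z i)
    have h5 : sqNorm x = 16 * ∑ i, z i + 32 * ∑ i, t i := by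
      rw [Finset.mul_sum, Finset.mul_sum, ← Finset.sum_add_distrib]
      refine Finset.sum_congr rfl fun i _ => ?_
      rw [h1 i]; simp only [ind, Finset.notMem_empty, if_false]
      linear_combination 16 * ht i
    omega
  · have := odd_norm_ge (x := x) fun i => by
      rw [h1 i]; unfold sgn; split_ifs <;> omega
    omega

theorem perm_mem {σ : Equiv.Perm GolayPt} (hσ : σ ∈ M24) {x : GolayPt → ℤ}
    (hx : x ∈ leechLattice) : (fun i => x (σ i)) ∈ leechLattice := by
  have hs : ∀ z : GolayPt → ℤ, ∑ i, z (σ i) = ∑ i, z i := fun z => Equiv.sum_comp σ z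
  rcases leech_cases hx with ⟨c, hc, z, h1, h2⟩ | ⟨c, hc, z, h1, h2⟩
  · refine even_mem (smul_mem_GC (inv_mem hσ) hc) (fun i => z (σ i)) (by rw [hs, h2]) fun i => ?_
    rw [h1]; simp [ind, mem_smul_iff]
  · refine odd_mem (smul_mem_GC (inv_mem hσ) hc) (fun i => z (σ i)) (by rw [hs, h2]) fun i => ?_
    rw [h1]; simp [sgn, mem_smul_iff]

theorem sum_sgn_mul_mod (d : Finset GolayPt) (z : GolayPt → ℤ) :
    (∑ i, sgn d i * z i) % 2 = (∑ i, z i) % 2 := by
  have : ∑ i, sgn d i * z i = ∑ i, z i - 2 * ∑ i, ind d i * z i := by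
    rw [Finset.mul_sum, ← Finset.sum_sub_distrib]
    exact Finset.sum_congr rfl fun i _ => by rw [sgn_eq]; ring
  omega

theorem sgn_mem {d : Finset GolayPt} (hd : d ∈ GC) {x : GolayPt → ℤ}
    (hx : x ∈ leechLattice) : (fun i => sgn d i * x i) ∈ leechLattice := by
  rcases leech_cases hx with ⟨c, hc, z, h1, h2⟩ | ⟨c, hc, z, h1, h2⟩
  · refine even_mem hc (fun i => sgn d i * z i - ind (c ∩ d) i) ?_ fun i => ?_
    · rw [Finset.sum_sub_distrib, sum_ind]
      have := sum_sgn_mul_mod d z
      have := gc_inter_even hc hd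
      omega
    · rw [h1]; simp only [ind, sgn, Finset.mem_inter]
      by_cases h : i ∈ c <;> by_cases h' : i ∈ d <;> simp [h, h'] <;> ring
  · refine odd_mem (symmDiff_mem_GC hc hd) (fun i => sgn d i * z i) ?_ fun i => ?_
    · rw [sum_sgn_mul_mod, h2]
    · rw [h1]; simp only [sgn, Finset.mem_symmDiff]
      by_cases h : i ∈ c <;> by_cases h' : i ∈ d <;> simp [h, h'] <;> ring

end Cfsg.Lib.Leech
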