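import Mathlib
import Cfsg.Prelude.Def_Spor_Conway

/-! Elementary facts on the family of supports of the Golay code words (no weights used). -/

set_option autoImplicit false

namespace Cfsg.Lib.Leech

open Finset
open scoped Pointwise symmDiff

/-- The code words as subsets of the 24 points. -/
abbrev GC : Set (Finset GolayPt) := supports (golayCode : Set (GolayPt → ZMod 2))

/-- The characteristic word of a set of points. -/
def wordOf (c : Finset GolayPt) : GolayPt → ZMod 2 := fun i => if i ∈ c then 1 else 0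

theorem card_pt : Fintype.card GolayPt = 24 := by decide

theorem zmod2_cases (a : ZMod 2) : a = 0 ∨ a = 1 := by revert a; decide

theorem wordOf_support (w : GolayPt → ZMod 2) : wordOf (support₂ w) = w := by
  funext i
  rcases zmod2_cases (w i) with h | h <;> simp [wordOf, support₂, h]

theorem support_wordOf (c : Finset GolayPt) : support₂ (wordOf c) = c := by
  ext i
  simp [wordOf, support₂]

theorem mem_GC_iff {c : Finset GolayPt} : c ∈ GC ↔ wordOf c ∈ golayCode := by
  constructor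
  · rintro ⟨w, hw, rfl⟩
    rw [wordOf_support]; exact hw
  · intro h
    exact ⟨_, h, support_wordOf c⟩

theorem support_mem_GC_iff {w : GolayPt → ZMod 2} : support₂ w ∈ GC ↔ w ∈ golayCode := by
  rw [mem_GC_iff, wordOf_support]

theorem univ_mem_GC : (univ : Finset GolayPt) ∈ GC := Spor.univ_mem_supports_golayCode

theorem empty_mem_GC : (∅ : Finset GolayPt) ∈ GC := Spor.empty_mem_supports_golayCode

theorem one_mem_golay : (1 : GolayPt → ZMod 2) ∈ golayCode :=
  Submodule.subset_span (Set.mem_union_right _ rfl)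

theorem wordOf_symmDiff (c d : Finset GolayPt) : wordOf (c ∆ d) = wordOf c + wordOf d := by
  funext i
  by_cases h1 : i ∈ c <;> by_cases h2 : i ∈ d <;> simp [wordOf, Finset.mem_symmDiff, h1, h2]
  decide

theorem symmDiff_mem_GC {c d : Finset GolayPt} (hc : c ∈ GC) (hd : d ∈ GC) : c ∆ d ∈ GC := by
  rw [mem_GC_iff] at *
  rw [wordOf_symmDiff]
  exact add_mem hc hd

theorem compl_eq_symmDiff (c : Finset GolayPt) : cᶜ = c ∆ univ := by
  ext i
  simp [Finset.mem_symmDiff]

theorem compl_mem_GC {c : Finset GolayPt} (hc : c ∈ GC) : cᶜ ∈ GC := by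
  rw [compl_eq_symmDiff]
  exact symmDiff_mem_GC hc univ_mem_GC

theorem GC_finite : GC.Finite := Set.toFinite _

theorem smul_mem_GC {σ : Equiv.Perm GolayPt} (hσ : σ ∈ M24) {c : Finset GolayPt} (hc : c ∈ GC) :
    σ • c ∈ GC := by
  have h : σ • GC = GC := hσ
  rw [← h]
  exact Set.smul_mem_smul_set hc

theorem mem_M24_of_smul {σ : Equiv.Perm GolayPt} (h : ∀ c ∈ GC, σ • c ∈ GC) : σ ∈ M24 := by
  show σ • GC = GC
  apply Set.eq_of_subset_of_ncard_le
  · rintro _ ⟨c, hc, rfl⟩
    exact h c hc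
  · rw [Set.ncard_smul_set]
  · exact GC_finite

theorem mem_smul_iff (σ : Equiv.Perm GolayPt) (c : Finset GolayPt) (i : GolayPt) :
    i ∈ σ • c ↔ σ⁻¹ i ∈ c := by
  rw [← Finset.inv_smul_mem_iff]; rfl

theorem apply_mem_smul_iff (σ : Equiv.Perm GolayPt) (c : Finset GolayPt) (i : GolayPt) :
    σ i ∈ σ • c ↔ i ∈ c := by
  rw [mem_smul_iff]; simp

theorem card_symmDiff_add (c d : Finset GolayPt) :
    (c ∆ d).card + 2 * (c ∩ d).card = c.card + d.card := by
  have h1 : (c ∆ d) = (c ∪ d) \ (c ∩ d) := by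
    ext i; simp [Finset.mem_symmDiff]; tauto
  have h2 : c ∩ d ⊆ c ∪ d := Finset.inter_subset_left.trans Finset.subset_union_left
  have h3 := Finset.card_union_add_card_inter c d
  have h4 := Finset.card_sdiff_add_card_eq_card h2
  rw [h1]; omega

/-- Halving: a family closed under symmetric difference with a set containing `a` is split in
halves by `a`. -/
theorem ncard_half (F : Set (Finset GolayPt)) (d : Finset GolayPt) (a : GolayPt) (ha : a ∈ d)
    (hF : ∀ c ∈ F, c ∆ d ∈ F) : 2 * {c | c ∈ F ∧ a ∉ c}.ncard = F.ncard := by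
  have h1 : {c | c ∈ F ∧ a ∈ c} = (fun c => c ∆ d) '' {c | c ∈ F ∧ a ∉ c} := by
    ext c
    constructor
    · rintro ⟨hc, hac⟩
      refine ⟨c ∆ d, ⟨hF c hc, by simp [Finset.mem_symmDiff, hac, ha]⟩, ?_⟩
      simp
    · rintro ⟨c', ⟨hc, hac⟩, rfl⟩
      exact ⟨hF c' hc, by simp [Finset.mem_symmDiff, hac, ha]⟩
  have h2 : F = {c | c ∈ F ∧ a ∉ c} ∪ {c | c ∈ F ∧ a ∈ c} := by
    ext c; simp; tauto
  have h3 : Disjoint {c | c ∈ F ∧ a ∉ c} {c | c ∈ F ∧ a ∈ c} := by
    rw [Set.disjoint_left]; rintro c ⟨_, h⟩ ⟨_, h'⟩; exact h h'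
  have h4 : {c | c ∈ F ∧ a ∈ c}.ncard = {c | c ∈ F ∧ a ∉ c}.ncard := by
    rw [h1, Set.ncard_image_of_injective]
    exact symmDiff_left_injective d
  conv_rhs => rw [h2, Set.ncard_union_eq h3 (Set.toFinite _) (Set.toFinite _), h4]
  omega

end Cfsg.Lib.Leech
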