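import Cfsg.Agent.Lib.Leech.Code
import Cfsg.Agent.Lib.Golay.Code

/-! Interface: the weight facts on the Golay code used for the Leech lattice. -/

set_option autoImplicit false

namespace Cfsg.Lib.Leech

open Finset
open scoped Pointwise symmDiff

theorem gc_card {c : Finset GolayPt} (hc : c ∈ GC) :
    c.card = 0 ∨ c.card = 8 ∨ c.card = 12 ∨ c.card = 16 ∨ c.card = 24 :=
  Golay.card_of_mem_cwords hc

theorem ncard_octads : octads.ncard = 759 := Golay.ncard_octads

theorem ncard_dodecads : dodecads.ncard = 2576 := Golay.ncard_dodecads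

/-- the standard dot product on binary words -/
def dot2 (ι : Type*) [Fintype ι] : LinearMap.BilinForm (ZMod 2) (ι → ZMod 2) :=
  dotProductBilin (ZMod 2) (ZMod 2)

theorem dot2_apply {ι : Type*} [Fintype ι] (v w : ι → ZMod 2) :
    dot2 ι v w = ∑ i, v i * w i := rfl

theorem finrank_dot2_orth {ι : Type*} [Fintype ι] (W : Submodule (ZMod 2) (ι → ZMod 2)) :
    Module.finrank (ZMod 2) W + Module.finrank (ZMod 2) ((dot2 ι).orthogonal W) =
      Fintype.card ι := by
  classical
  have h := LinearMap.BilinForm.finrank_add_finrank_orthogonal' (B := dot2 ι) W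
  have hk : LinearMap.ker (dot2 ι) = ⊥ := by
    rw [eq_bot_iff]
    intro v hv
    rw [Submodule.mem_bot]
    funext i
    have h1 : dot2 ι v (Pi.single i 1) = 0 := by rw [LinearMap.mem_ker.mp hv]; rfl
    rw [dot2_apply, Finset.sum_eq_single i] at h1
    · simpa using h1
    · intro j _ hj; simp [hj]
    · simp
  rw [hk, inf_bot_eq, finrank_bot, add_zero, Module.finrank_fintype_fun_eq_card] at h
  exact h

theorem golay_orth_eq : (dot2 GolayPt).orthogonal golayCode = golayCode := by
  symm
  apply Submodule.eq_of_le_of_finrank_eq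
  · intro w hw
    exact fun v hv => Golay.golay_dot_eq_zero hv hw
  · have h := finrank_dot2_orth golayCode
    rw [Golay.finrank_golayCode, card_pt] at h
    rw [Golay.finrank_golayCode]
    omega

theorem gc_self_dual {d : Finset GolayPt} (h : ∀ c ∈ GC, Even (c ∩ d).card) : d ∈ GC := by
  rw [mem_GC_iff, ← golay_orth_eq]
  intro v hv
  show dot2 GolayPt v (wordOf d) = 0
  rw [dot2_apply, Golay.dot_eq_card, support_wordOf, ZMod.natCast_eq_zero_iff_even]
  exact h _ (support_mem_GC_iff.mpr hv)

end Cfsg.Lib.Leech
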