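import Cfsg.Agent.Lib.Leech.Basic

/-! Weight enumerator sums and the index of the Leech lattice in `ℤ^24`. -/

set_option autoImplicit false

namespace Cfsg.Lib.Leech

open Finset
open scoped Pointwise symmDiff

/-- The code words as a finite set. -/
noncomputable def GCf : Finset (Finset GolayPt) := GC_finite.toFinset

theorem mem_GCf {c : Finset GolayPt} : c ∈ GCf ↔ c ∈ GC := by
  simp [GCf]

theorem card_GCf_filter (k : ℕ) :
    (GCf.filter fun c => c.card = k).card = {c | c ∈ GC ∧ c.card = k}.ncard := by
  rw [← Set.ncard_coe_finset]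
  congr 1
  ext c
  simp [mem_GCf]

theorem card_compl_pt (c : Finset GolayPt) : cᶜ.card = 24 - c.card := by
  rw [Finset.card_compl, card_pt]

theorem ncard_wt16 : {c | c ∈ GC ∧ c.card = 16}.ncard = 759 := by
  have h : {c | c ∈ GC ∧ c.card = 16} = (fun c => cᶜ) '' octads := by
    ext c
    constructor
    · rintro ⟨h1, h2⟩
      exact ⟨cᶜ, ⟨compl_mem_GC h1, by rw [card_compl_pt, h2]⟩, by simp⟩
    · rintro ⟨d, ⟨h1, h2⟩, rfl⟩
      exact ⟨compl_mem_GC h1, by rw [card_compl_pt, h2]⟩
  rw [h, Set.ncard_image_of_injective _ compl_injective, ncard_octads]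

theorem sum_GCf {M : Type*} [CommRing M] (f : ℕ → M) :
    ∑ c ∈ GCf, f c.card = f 0 + 759 * f 8 + 2576 * f 12 + 759 * f 16 + f 24 := by
  have h := Finset.sum_fiberwise_of_maps_to (s := GCf) (t := ({0, 8, 12, 16, 24} : Finset ℕ))
    (g := fun c => c.card) (by
      intro c hc
      have := gc_card (mem_GCf.mp hc)
      simpa using this) (fun c => f c.card)
  have h2 : ∀ k, ∑ c ∈ GCf with c.card = k, f c.card =
      ({c | c ∈ GC ∧ c.card = k}.ncard : M) * f k := by
    intro k
    rw [← card_GCf_filter, ← nsmul_eq_mul, ← Finset.sum_const]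
    exact Finset.sum_congr rfl fun c hc => by rw [(Finset.mem_filter.mp hc).2]
  have h0 : {c | c ∈ GC ∧ c.card = 0} = {∅} := by
    ext c
    simp only [Set.mem_setOf_eq, Finset.card_eq_zero, Set.mem_singleton_iff]
    exact ⟨fun h => h.2, fun h => ⟨h ▸ empty_mem_GC, h⟩⟩
  have h24 : {c | c ∈ GC ∧ c.card = 24} = {univ} := by
    ext c
    simp only [Set.mem_setOf_eq, Set.mem_singleton_iff]
    rw [← card_pt, Finset.card_eq_iff_eq_univ]
    exact ⟨fun h => h.2, fun h => ⟨h ▸ univ_mem_GC, h⟩⟩
  have h8 : {c | c ∈ GC ∧ c.card = 8}.ncard = 759 := ncard_octads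
  have h12 : {c | c ∈ GC ∧ c.card = 12}.ncard = 2576 := ncard_dodecads
  rw [← h]
  simp only [h2]
  rw [Finset.sum_insert (by decide), Finset.sum_insert (by decide), Finset.sum_insert (by decide),
    Finset.sum_insert (by decide), Finset.sum_singleton, h0, h24, h8, h12, ncard_wt16]
  simp only [Set.ncard_singleton]
  push_cast
  ring

theorem card_GCf : GCf.card = 4096 := by
  have := sum_GCf (M := ℤ) (fun _ => 1)
  simp at this
  exact_mod_cast this

theorem ncard_GC : GC.ncard = 4096 := by
  rw [← card_GCf, GCf, Set.ncard_eq_toFinset_card _ GC_finite]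

theorem card_golayCode : Nat.card golayCode = 4096 := by
  rw [← ncard_GC, GC, supports, Set.ncard_image_of_injective]
  · rfl
  · intro a b h
    rw [← wordOf_support a, h, wordOf_support]

/-- reduction modulo 2 -/
def cast2 : (GolayPt → ℤ) →+ (GolayPt → ZMod 2) where
  toFun y := fun i => (y i : ZMod 2)
  map_zero' := by funext i; simp
  map_add' := by intro a b; funext i; simp

theorem cast2_surj : Function.Surjective cast2 := by
  intro w
  refine ⟨fun i => ((w i).val : ℤ), ?_⟩
  funext i
  simp [cast2]

theorem card_words : Nat.card (GolayPt → ZMod 2) = 2 ^ 24 := by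
  rw [Nat.card_fun, Nat.card_zmod, Nat.card_eq_fintype_card, card_pt]

theorem leech_index : leechLattice.index = 2 ^ 36 := by
  let A : AddSubgroup (GolayPt → ℤ) := golayCode.toAddSubgroup.comap cast2
  have hA : A.index = 2 ^ 12 := by
    rw [AddSubgroup.index_comap_of_surjective _ cast2_surj]
    have h := golayCode.toAddSubgroup.card_mul_index
    rw [card_words] at h
    have h2 : Nat.card golayCode.toAddSubgroup = 4096 := card_golayCode
    rw [h2] at h
    omega
  let s : (GolayPt → ℤ) →+ ZMod 4 :=
    { toFun := fun y => ((∑ i, y i : ℤ) : ZMod 4)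
      map_zero' := by simp
      map_add' := by intro a b; simp [Finset.sum_add_distrib] }
  have hAs : Nat.card (A.map s) = 2 := by
    have : ((A.map s : AddSubgroup (ZMod 4)) : Set (ZMod 4)) = {0, 2} := by
      ext a
      constructor
      · rintro ⟨y, hy, rfl⟩
        have h1 : support₂ (cast2 y) ∈ GC := support_mem_GC_iff.mpr hy
        have h2 := gc_four_dvd h1
        have h3 : ∑ i, y i = ∑ i, ind (support₂ (cast2 y)) i +
            2 * ∑ i, (y i - ind (support₂ (cast2 y)) i) / 2 := by
          rw [Finset.mul_sum, ← Finset.sum_add_distrib]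
          refine Finset.sum_congr rfl fun i _ => ?_
          have h5 : i ∈ support₂ (cast2 y) ↔ y i % 2 = 1 := by
            rw [← intCast_zmod2_ne_zero]
            simp only [support₂, Finset.mem_filter, Finset.mem_univ, true_and]
            rfl
          unfold ind
          split_ifs with h <;> rw [h5] at h <;> omega
        rw [sum_ind] at h3
        have h4 : (∑ i, y i) % 4 = 0 % 4 ∨ (∑ i, y i) % 4 = 2 % 4 := by omega
        rcases h4 with h4 | h4
        · left
          exact (ZMod.intCast_eq_intCast_iff' _ _ 4).mpr h4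
        · right
          exact (ZMod.intCast_eq_intCast_iff' _ _ 4).mpr h4
      · rintro (rfl | rfl)
        · exact zero_mem _
        · refine ⟨Pi.single none 2, ?_, ?_⟩
          · show cast2 _ ∈ golayCode
            convert golayCode.zero_mem using 1
            funext i
            by_cases h : i = none
            · subst h; simp [cast2]; rfl
            · simp [cast2, h]
          · simp [s]
    have h2 : Nat.card (A.map s) = ({0, 2} : Set (ZMod 4)).ncard := by
      rw [← this]; rfl
    rw [h2, Set.ncard_pair (by decide)]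
  have hB : (A ⊓ s.ker).index = 2 ^ 13 := by
    rw [← AddSubgroup.relIndex_mul_index (inf_le_left : A ⊓ s.ker ≤ A),
      AddSubgroup.inf_relIndex_left, AddSubgroup.relIndex_ker, hAs, hA]
    norm_num
  let two : (GolayPt → ℤ) →+ (GolayPt → ℤ) :=
    { toFun := fun y i => 2 * y i
      map_zero' := by funext i; simp
      map_add' := by intro a b; funext i; simp [mul_add] }
  have htwo : Function.Injective two := by
    intro a b h
    funext i
    have := congrFun h i
    simp only [two, AddMonoidHom.coe_mk, ZeroHom.coe_mk] at this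
    omega
  have hrange : two.range = cast2.ker := by
    ext x
    constructor
    · rintro ⟨y, rfl⟩
      funext i
      simp [two, cast2]
      left; rfl
    · intro hx
      refine ⟨fun i => x i / 2, ?_⟩
      funext i
      have h1 : (x i : ZMod 2) = 0 := congrFun hx i
      rw [ZMod.intCast_zmod_eq_zero_iff_dvd] at h1
      simp only [two, AddMonoidHom.coe_mk, ZeroHom.coe_mk]
      omega
  have hL0 : ((A ⊓ s.ker).map two).index = 2 ^ 37 := by
    rw [AddSubgroup.index_map_of_injective _ htwo, hB, hrange, AddSubgroup.index_ker,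
      AddMonoidHom.range_eq_top.mpr cast2_surj, AddSubgroup.card_top, card_words]
    norm_num
  let p : (GolayPt → ℤ) →+ ZMod 2 :=
    { toFun := fun y => (y none : ZMod 2)
      map_zero' := by simp
      map_add' := by intro a b; simp }
  have hL0' : (A ⊓ s.ker).map two = leechLattice ⊓ p.ker := by
    ext x
    constructor
    · rintro ⟨y, ⟨hy1, hy2⟩, rfl⟩
      refine ⟨mem_leech_iff_isL.mpr ⟨0, y, fun i => by simp [two], ?_, hy1⟩, ?_⟩
      · have h1 : ((∑ i, y i : ℤ) : ZMod 4) = 0 := hy2
        rw [ZMod.intCast_zmod_eq_zero_iff_dvd] at h1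
        omega
      · show ((2 * y none : ℤ) : ZMod 2) = 0
        push_cast
        rw [show (2 : ZMod 2) = 0 from rfl]; simp
    · rintro ⟨hx1, hx2⟩
      have h1 : (x none : ZMod 2) = 0 := hx2
      rw [ZMod.intCast_zmod_eq_zero_iff_dvd] at h1
      rcases leech_cases hx1 with ⟨c, hc, z, h2, h3⟩ | ⟨c, hc, z, h2, h3⟩
      · refine ⟨fun i => ind c i + 2 * z i, ⟨?_, ?_⟩, ?_⟩
        · show cast2 _ ∈ golayCode
          convert mem_GC_iff.mp hc using 1
          rw [← cast_ind]
          funext i
          simp only [cast2, AddMonoidHom.coe_mk, ZeroHom.coe_mk]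
          push_cast
          rw [show (2 : ZMod 2) = 0 from rfl]; simp
        · show ((∑ i, (ind c i + 2 * z i) : ℤ) : ZMod 4) = 0
          rw [ZMod.intCast_zmod_eq_zero_iff_dvd, Finset.sum_add_distrib, sum_ind, ← Finset.mul_sum]
          have := gc_four_dvd hc
          omega
        · funext i
          simp only [two, AddMonoidHom.coe_mk, ZeroHom.coe_mk, h2 i]
          ring
      · exfalso
        have := h2 none
        unfold sgn at this
        split_ifs at this <;> omega
  have hp : Nat.card (leechLattice.map p) = 2 := by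
    have : leechLattice.map p = ⊤ := by
      rw [eq_top_iff]
      intro a _
      rcases zmod2_cases a with rfl | rfl
      · exact zero_mem _
      · exact ⟨Spor.vecV, Spor.leechV.2, by simp [p, Spor.vecV]; rfl⟩
    rw [this, AddSubgroup.card_top, Nat.card_zmod]
  have h := AddSubgroup.relIndex_mul_index (inf_le_left : leechLattice ⊓ p.ker ≤ leechLattice)
  rw [AddSubgroup.inf_relIndex_left, AddSubgroup.relIndex_ker, hp, ← hL0', hL0] at h
  omega

end Cfsg.Lib.Leech
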