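import Cfsg.Agent.Lib.Leech.Basic

/-! The action of `Co0` on the Leech lattice, special vectors, and the monomial subgroup. -/

set_option autoImplicit false

namespace Cfsg.Lib.Leech

open Finset
open scoped Pointwise symmDiff

section forms
variable {α : Type*} [Fintype α]

theorem dot_comm (x y : α → ℤ) : dotInt x y = dotInt y x :=
  Finset.sum_congr rfl fun _ _ => mul_comm _ _

theorem dot_self (x : α → ℤ) : dotInt x x = sqNorm x :=
  Finset.sum_congr rfl fun _ _ => (sq _).symm

theorem dot_add_left (x y z : α → ℤ) : dotInt (x + y) z = dotInt x z + dotInt y z := by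
  simp only [dotInt, Pi.add_apply, add_mul, Finset.sum_add_distrib]

theorem dot_add_right (x y z : α → ℤ) : dotInt x (y + z) = dotInt x y + dotInt x z := by
  simp only [dotInt, Pi.add_apply, mul_add, Finset.sum_add_distrib]

theorem dot_sub_left (x y z : α → ℤ) : dotInt (x - y) z = dotInt x z - dotInt y z := by
  simp only [dotInt, Pi.sub_apply, sub_mul, Finset.sum_sub_distrib]

theorem dot_sub_right (x y z : α → ℤ) : dotInt x (y - z) = dotInt x y - dotInt x z := by
  simp only [dotInt, Pi.sub_apply, mul_sub, Finset.sum_sub_distrib]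

theorem dot_neg_left (x y : α → ℤ) : dotInt (-x) y = -dotInt x y := by
  simp only [dotInt, Pi.neg_apply, neg_mul, Finset.sum_neg_distrib]

theorem dot_neg_right (x y : α → ℤ) : dotInt x (-y) = -dotInt x y := by
  simp only [dotInt, Pi.neg_apply, mul_neg, Finset.sum_neg_distrib]

theorem sqNorm_add (x y : α → ℤ) : sqNorm (x + y) = sqNorm x + 2 * dotInt x y + sqNorm y := by
  rw [← dot_self, dot_add_left, dot_add_right, dot_add_right, dot_self, dot_self, dot_comm y x]
  ring

theorem sqNorm_sub (x y : α → ℤ) : sqNorm (x - y) = sqNorm x - 2 * dotInt x y + sqNorm y := by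
  rw [← dot_self, dot_sub_left, dot_sub_right, dot_sub_right, dot_self, dot_self, dot_comm y x]
  ring

theorem sqNorm_neg (x : α → ℤ) : sqNorm (-x) = sqNorm x := by
  simp [sqNorm]

theorem sqNorm_two (x : α → ℤ) : sqNorm (x + x) = 4 * sqNorm x := by
  rw [sqNorm_add, dot_self]; ring

end forms

/-- norm of a lattice vector -/
abbrev nrm (x : leechLattice) : ℤ := sqNorm (x : GolayPt → ℤ)

/-- inner product of lattice vectors -/
abbrev dt (x y : leechLattice) : ℤ := dotInt (x : GolayPt → ℤ) (y : GolayPt → ℤ)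

theorem dt_comm (x y : leechLattice) : dt x y = dt y x := dot_comm _ _
theorem dt_self (x : leechLattice) : dt x x = nrm x := dot_self _
theorem dt_add_left (x y z : leechLattice) : dt (x + y) z = dt x z + dt y z := dot_add_left _ _ _
theorem dt_add_right (x y z : leechLattice) : dt x (y + z) = dt x y + dt x z := dot_add_right _ _ _
theorem dt_sub_left (x y z : leechLattice) : dt (x - y) z = dt x z - dt y z := dot_sub_left _ _ _
theorem dt_sub_right (x y z : leechLattice) : dt x (y - z) = dt x y - dt x z := dot_sub_right _ _ _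
theorem dt_neg_left (x y : leechLattice) : dt (-x) y = -dt x y := dot_neg_left _ _
theorem dt_neg_right (x y : leechLattice) : dt x (-y) = -dt x y := dot_neg_right _ _
theorem nrm_add (x y : leechLattice) : nrm (x + y) = nrm x + 2 * dt x y + nrm y := sqNorm_add _ _
theorem nrm_sub (x y : leechLattice) : nrm (x - y) = nrm x - 2 * dt x y + nrm y := sqNorm_sub _ _
theorem nrm_neg (x : leechLattice) : nrm (-x) = nrm x := sqNorm_neg _

theorem eight_dvd_dt (x y : leechLattice) : (8 : ℤ) ∣ dt x y := by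
  have h1 := leech_sixteen_dvd x.2
  have h2 := leech_sixteen_dvd y.2
  have h3 := leech_sixteen_dvd (x + y).2
  have h4 := nrm_add x y
  unfold nrm at h4
  omega

theorem nrm_min {x : leechLattice} (h : x ≠ 0) : 32 ≤ nrm x :=
  leech_min x.2 fun h' => h (Subtype.ext h')

theorem co_add (g : Co0) (x y : leechLattice) : g • (x + y) = g • x + g • y := g.2.1 x y

theorem nrm_smul (g : Co0) (x : leechLattice) : nrm (g • x) = nrm x := g.2.2 x

/-- an element of `Co0` as an additive map -/
def coHom (g : Co0) : leechLattice →+ leechLattice := AddMonoidHom.mk' (fun x => g • x) (co_add g)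

theorem co_zero (g : Co0) : g • (0 : leechLattice) = 0 := (coHom g).map_zero
theorem co_neg (g : Co0) (x : leechLattice) : g • (-x) = -(g • x) := (coHom g).map_neg x
theorem co_sub (g : Co0) (x y : leechLattice) : g • (x - y) = g • x - g • y := (coHom g).map_sub x y

theorem dt_smul (g : Co0) (x y : leechLattice) : dt (g • x) (g • y) = dt x y := by
  have h1 := nrm_add (g • x) (g • y)
  rw [← co_add, nrm_smul, nrm_smul, nrm_smul, nrm_add] at h1
  omega

theorem co_ext {g h : Co0} (H : ∀ x : leechLattice, g • x = h • x) : g = h :=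
  Subtype.ext (Equiv.ext H)

/-- unit vectors -/
def del (i : GolayPt) : GolayPt → ℤ := fun j => if j = i then 1 else 0

theorem sum_del (i : GolayPt) : ∑ j, del i j = 1 := by simp [del]

theorem sum_mul_del (x : GolayPt → ℤ) (i : GolayPt) : ∑ j, x j * del i j = x i := by simp [del]

theorem del_self (i : GolayPt) : del i i = 1 := by simp [del]

theorem del_ne {i j : GolayPt} (h : j ≠ i) : del i j = 0 := by simp [del, h]

/-- the vector `4 e_i + 4 e_j` -/
def v44 (i j : GolayPt) : leechLattice :=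
  ⟨fun k => 4 * del i k + 4 * del j k, even_mem empty_mem_GC (fun k => del i k + del j k)
    (by rw [Finset.sum_add_distrib, sum_del, sum_del]; rfl) fun k => by simp [ind]; ring⟩

/-- the vector `4 e_i - 4 e_j` -/
def v4m (i j : GolayPt) : leechLattice :=
  ⟨fun k => 4 * del i k - 4 * del j k, even_mem empty_mem_GC (fun k => del i k - del j k)
    (by rw [Finset.sum_sub_distrib, sum_del, sum_del]; rfl) fun k => by simp [ind]; ring⟩

/-- the vector `8 e_i` -/
def e8 (i : GolayPt) : leechLattice :=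
  ⟨fun k => 8 * del i k, even_mem empty_mem_GC (fun k => 2 * del i k)
    (by rw [← Finset.mul_sum, sum_del]; rfl) fun k => by simp [ind]; ring⟩

/-- twice the indicator of a code word -/
def oct2 (c : Finset GolayPt) (hc : c ∈ GC) : leechLattice :=
  ⟨fun k => 2 * ind c k, even_mem hc 0 (by simp) fun k => by simp⟩

/-- the vector with `5` at `i` and `1` elsewhere -/
def s5 (i : GolayPt) : leechLattice :=
  ⟨fun k => 1 + 4 * del i k, odd_mem empty_mem_GC (del i) (by rw [sum_del]; rfl)
    fun k => by simp [sgn]⟩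

/-- the vector with `-3` at `i` and `1` elsewhere -/
def m3 (i : GolayPt) : leechLattice :=
  ⟨fun k => 1 - 4 * del i k, odd_mem empty_mem_GC (fun k => - del i k)
    (by rw [Finset.sum_neg_distrib, sum_del]; rfl) fun k => by simp [sgn]; ring⟩

theorem v44_apply (i j k : GolayPt) : (v44 i j).1 k = 4 * del i k + 4 * del j k := rfl
theorem v4m_apply (i j k : GolayPt) : (v4m i j).1 k = 4 * del i k - 4 * del j k := rfl
theorem e8_apply (i k : GolayPt) : (e8 i).1 k = 8 * del i k := rfl
theorem oct2_apply (c : Finset GolayPt) (hc : c ∈ GC) (k : GolayPt) :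
    (oct2 c hc).1 k = 2 * ind c k := rfl
theorem s5_apply (i k : GolayPt) : (s5 i).1 k = 1 + 4 * del i k := rfl
theorem m3_apply (i k : GolayPt) : (m3 i).1 k = 1 - 4 * del i k := rfl

theorem dt_v44 (x : leechLattice) (i j : GolayPt) : dt x (v44 i j) = 4 * x.1 i + 4 * x.1 j := by
  rw [← sum_mul_del x.1 i, ← sum_mul_del x.1 j, Finset.mul_sum, Finset.mul_sum,
    ← Finset.sum_add_distrib]
  exact Finset.sum_congr rfl fun k _ => by rw [v44_apply]; ring

theorem dt_v4m (x : leechLattice) (i j : GolayPt) : dt x (v4m i j) = 4 * x.1 i - 4 * x.1 j := by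
  rw [← sum_mul_del x.1 i, ← sum_mul_del x.1 j, Finset.mul_sum, Finset.mul_sum,
    ← Finset.sum_sub_distrib]
  exact Finset.sum_congr rfl fun k _ => by rw [v4m_apply]; ring

theorem dt_e8 (x : leechLattice) (i : GolayPt) : dt x (e8 i) = 8 * x.1 i := by
  rw [← sum_mul_del x.1 i, Finset.mul_sum]
  exact Finset.sum_congr rfl fun k _ => by rw [e8_apply]; ring

theorem dt_s5 (x : leechLattice) (i : GolayPt) : dt x (s5 i) = ∑ k, x.1 k + 4 * x.1 i := by
  rw [← sum_mul_del x.1 i, Finset.mul_sum, ← Finset.sum_add_distrib]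
  exact Finset.sum_congr rfl fun k _ => by rw [s5_apply]; ring

theorem dt_m3 (x : leechLattice) (i : GolayPt) : dt x (m3 i) = ∑ k, x.1 k - 4 * x.1 i := by
  rw [← sum_mul_del x.1 i, Finset.mul_sum, ← Finset.sum_sub_distrib]
  exact Finset.sum_congr rfl fun k _ => by rw [m3_apply]; ring

theorem dt_oct2 (x : leechLattice) (c : Finset GolayPt) (hc : c ∈ GC) :
    dt x (oct2 c hc) = 2 * ∑ k ∈ c, x.1 k := by
  rw [Finset.mul_sum, ← Finset.sum_subset (Finset.subset_univ c) (f := fun k => 2 * x.1 k * ind c k)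
    (fun k _ hk => by simp [ind, hk]) |>.symm.trans (Finset.sum_congr rfl
      fun k hk => by simp [ind, hk] : ∑ k ∈ c, 2 * x.1 k * ind c k = ∑ k ∈ c, 2 * x.1 k)]
  exact Finset.sum_congr rfl fun k _ => by rw [oct2_apply]; ring

theorem sum_v44 (i j : GolayPt) : ∑ k, (v44 i j).1 k = 8 := by
  simp only [v44_apply, Finset.sum_add_distrib, ← Finset.mul_sum, sum_del]; rfl

theorem sum_v4m (i j : GolayPt) : ∑ k, (v4m i j).1 k = 0 := by
  simp only [v4m_apply, Finset.sum_sub_distrib, ← Finset.mul_sum, sum_del]; rfl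

theorem sum_e8 (i : GolayPt) : ∑ k, (e8 i).1 k = 8 := by
  simp only [e8_apply, ← Finset.mul_sum, sum_del]; rfl

theorem sum_s5 (i : GolayPt) : ∑ k, (s5 i).1 k = 28 := by
  simp only [s5_apply, Finset.sum_add_distrib, ← Finset.mul_sum, sum_del, sum_const_pt]; rfl

theorem sum_m3 (i : GolayPt) : ∑ k, (m3 i).1 k = 20 := by
  simp only [m3_apply, Finset.sum_sub_distrib, ← Finset.mul_sum, sum_del, sum_const_pt]; rfl

theorem sum_oct2 (c : Finset GolayPt) (hc : c ∈ GC) : ∑ k, (oct2 c hc).1 k = 2 * c.card := by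
  simp only [oct2_apply, ← Finset.mul_sum, sum_ind]

theorem nrm_v44 {i j : GolayPt} (h : i ≠ j) : nrm (v44 i j) = 32 := by
  rw [← dt_self, dt_v44, v44_apply, v44_apply, del_self, del_self, del_ne h, del_ne h.symm]; rfl

theorem nrm_v4m {i j : GolayPt} (h : i ≠ j) : nrm (v4m i j) = 32 := by
  rw [← dt_self, dt_v4m, v4m_apply, v4m_apply, del_self, del_self, del_ne h, del_ne h.symm]; rfl

theorem nrm_e8 (i : GolayPt) : nrm (e8 i) = 64 := by
  rw [← dt_self, dt_e8, e8_apply, del_self]; rfl

theorem nrm_s5 (i : GolayPt) : nrm (s5 i) = 48 := by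
  rw [← dt_self, dt_s5, sum_s5, s5_apply, del_self]; rfl

theorem nrm_m3 (i : GolayPt) : nrm (m3 i) = 32 := by
  rw [← dt_self, dt_m3, sum_m3, m3_apply, del_self]; rfl

theorem nrm_oct2 (c : Finset GolayPt) (hc : c ∈ GC) : nrm (oct2 c hc) = 4 * c.card := by
  rw [← dt_self, dt_oct2, Finset.sum_congr rfl (g := fun _ => (2 : ℤ))
    fun k hk => by simp [oct2_apply, ind, hk]]
  simp; ring

theorem e8_inj {i j : GolayPt} (h : e8 i = e8 j) : i = j := by
  by_contra hij
  have := congrArg (fun x : leechLattice => x.1 i) h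
  simp only [e8_apply, del_self, del_ne hij] at this
  omega

theorem sgn_mul_sgn_mul (c : Finset GolayPt) (i : GolayPt) (a : ℤ) :
    sgn c i * (sgn c i * a) = a := by rw [← mul_assoc, sgn_mul_self, one_mul]

/-- sign change on a code word -/
def sgnEl (c : Finset GolayPt) (hc : c ∈ GC) : Co0 :=
  ⟨{ toFun := fun x => ⟨fun i => sgn c i * x.1 i, sgn_mem hc x.2⟩
     invFun := fun x => ⟨fun i => sgn c i * x.1 i, sgn_mem hc x.2⟩
     left_inv := fun x => Subtype.ext (funext fun i => sgn_mul_sgn_mul c i _)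
     right_inv := fun x => Subtype.ext (funext fun i => sgn_mul_sgn_mul c i _) },
   fun v w => Subtype.ext (funext fun i => mul_add _ _ _),
   fun v => Finset.sum_congr rfl fun i _ => by
     show (sgn c i * v.1 i) ^ 2 = _
     rw [mul_pow, sq (sgn c i), sgn_mul_self, one_mul]⟩

theorem sgnEl_apply (c : Finset GolayPt) (hc : c ∈ GC) (x : leechLattice) (i : GolayPt) :
    (sgnEl c hc • x).1 i = sgn c i * x.1 i := rfl

/-- coordinate permutation by an element of `M24` -/
def permEl (σ : Equiv.Perm GolayPt) (hσ : σ ∈ M24) : Co0 :=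
  ⟨{ toFun := fun x => ⟨fun i => x.1 (σ⁻¹ i), perm_mem (inv_mem hσ) x.2⟩
     invFun := fun x => ⟨fun i => x.1 (σ i), perm_mem hσ x.2⟩
     left_inv := fun x => Subtype.ext (funext fun i => by simp)
     right_inv := fun x => Subtype.ext (funext fun i => by simp) },
   fun v w => rfl,
   fun v => Equiv.sum_comp σ⁻¹ fun i => v.1 i ^ 2⟩

theorem permEl_apply (σ : Equiv.Perm GolayPt) (hσ : σ ∈ M24) (x : leechLattice) (i : GolayPt) :
    (permEl σ hσ • x).1 i = x.1 (σ⁻¹ i) := rfl

theorem permEl_apply' (σ : Equiv.Perm GolayPt) (hσ : σ ∈ M24) (x : leechLattice) (i : GolayPt) :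
    (permEl σ hσ • x).1 (σ i) = x.1 i := by rw [permEl_apply]; simp

/-- `M24` inside `Co0` -/
def permHom : M24 →* Co0 where
  toFun σ := permEl σ.1 σ.2
  map_one' := co_ext fun _ => rfl
  map_mul' _ _ := co_ext fun _ => rfl

theorem del_inv (σ : Equiv.Perm GolayPt) (i k : GolayPt) : del i (σ⁻¹ k) = del (σ i) k := by
  unfold del
  simp only [Equiv.Perm.inv_eq_iff_eq]

theorem permEl_e8 (σ : Equiv.Perm GolayPt) (hσ : σ ∈ M24) (i : GolayPt) :
    permEl σ hσ • e8 i = e8 (σ i) :=
  Subtype.ext (funext fun k => by rw [permEl_apply, e8_apply, e8_apply, del_inv])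

theorem permEl_v44 (σ : Equiv.Perm GolayPt) (hσ : σ ∈ M24) (i j : GolayPt) :
    permEl σ hσ • v44 i j = v44 (σ i) (σ j) :=
  Subtype.ext (funext fun k => by rw [permEl_apply, v44_apply, v44_apply, del_inv, del_inv])

theorem permEl_v4m (σ : Equiv.Perm GolayPt) (hσ : σ ∈ M24) (i j : GolayPt) :
    permEl σ hσ • v4m i j = v4m (σ i) (σ j) :=
  Subtype.ext (funext fun k => by rw [permEl_apply, v4m_apply, v4m_apply, del_inv, del_inv])

theorem permEl_s5 (σ : Equiv.Perm GolayPt) (hσ : σ ∈ M24) (i : GolayPt) :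
    permEl σ hσ • s5 i = s5 (σ i) :=
  Subtype.ext (funext fun k => by rw [permEl_apply, s5_apply, s5_apply, del_inv])

theorem permEl_m3 (σ : Equiv.Perm GolayPt) (hσ : σ ∈ M24) (i : GolayPt) :
    permEl σ hσ • m3 i = m3 (σ i) :=
  Subtype.ext (funext fun k => by rw [permEl_apply, m3_apply, m3_apply, del_inv])

theorem permEl_oct2 (σ : Equiv.Perm GolayPt) (hσ : σ ∈ M24) (c : Finset GolayPt) (hc : c ∈ GC) :
    permEl σ hσ • oct2 c hc = oct2 (σ • c) (smul_mem_GC hσ hc) :=
  Subtype.ext (funext fun k => by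
    rw [permEl_apply, oct2_apply, oct2_apply]; simp [ind, mem_smul_iff])

theorem permHom_injective : Function.Injective permHom := by
  intro σ τ h
  refine Subtype.ext (Equiv.ext fun i => e8_inj ?_)
  rw [← permEl_e8 σ.1 σ.2, ← permEl_e8 τ.1 τ.2]
  exact congrArg (fun g : Co0 => g • e8 i) h

theorem sgnEl_e8 (c : Finset GolayPt) (hc : c ∈ GC) {i : GolayPt} (hi : i ∉ c) :
    sgnEl c hc • e8 i = e8 i :=
  Subtype.ext (funext fun k => by
    rw [sgnEl_apply, e8_apply]
    by_cases h : k = i
    · subst h; simp [sgn, hi]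
    · simp [del_ne h])

theorem sgnEl_e8' (c : Finset GolayPt) (hc : c ∈ GC) {i : GolayPt} (hi : i ∈ c) :
    sgnEl c hc • e8 i = -e8 i :=
  Subtype.ext (funext fun k => by
    rw [sgnEl_apply]
    show _ = -((e8 i).1 k)
    rw [e8_apply]
    by_cases h : k = i
    · subst h; simp [sgn, hi]
    · simp [del_ne h])

theorem sgnEl_fix (c : Finset GolayPt) (hc : c ∈ GC) {x : leechLattice}
    (h : ∀ i ∈ c, x.1 i = 0) : sgnEl c hc • x = x :=
  Subtype.ext (funext fun k => by
    rw [sgnEl_apply]
    by_cases hk : k ∈ c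
    · rw [h k hk, mul_zero]
    · simp [sgn, hk])

theorem sgnEl_mul (c d : Finset GolayPt) (hc : c ∈ GC) (hd : d ∈ GC) :
    sgnEl c hc * sgnEl d hd = sgnEl (c ∆ d) (symmDiff_mem_GC hc hd) :=
  co_ext fun x => Subtype.ext (funext fun k => by
    rw [mul_smul, sgnEl_apply, sgnEl_apply, sgnEl_apply]
    simp only [sgn, Finset.mem_symmDiff]
    by_cases h : k ∈ c <;> by_cases h' : k ∈ d <;> simp [h, h'])

theorem sgnEl_empty : sgnEl ∅ empty_mem_GC = 1 :=
  co_ext fun x => Subtype.ext (funext fun k => by rw [sgnEl_apply]; simp [sgn])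

theorem sgnEl_univ (x : leechLattice) : sgnEl univ univ_mem_GC • x = -x :=
  Subtype.ext (funext fun k => by rw [sgnEl_apply]; simp [sgn])

theorem permEl_sgnEl (σ : Equiv.Perm GolayPt) (hσ : σ ∈ M24) (c : Finset GolayPt) (hc : c ∈ GC) :
    permEl σ hσ * sgnEl c hc = sgnEl (σ • c) (smul_mem_GC hσ hc) * permEl σ hσ :=
  co_ext fun x => Subtype.ext (funext fun k => by
    rw [mul_smul, mul_smul, permEl_apply, sgnEl_apply, sgnEl_apply, permEl_apply]
    simp [sgn, mem_smul_iff])

/-- A vector of norm 64 congruent to `8 e_i` modulo `2Λ` is some `± 8 e_j`. -/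
theorem frame_lemma {u w : leechLattice} {i : GolayPt} (hu : nrm u = 64) (hw : u - e8 i = w + w) :
    ∃ j, u = e8 j ∨ u = -e8 j := by
  by_contra hcon
  push Not at hcon
  have h0 : ∀ j, u.1 j = 0 := by
    intro j
    have h1 : u - e8 j = (w + v4m i j) + (w + v4m i j) := by
      have : e8 i - e8 j = v4m i j + v4m i j := Subtype.ext (funext fun k => by
        show (e8 i).1 k - (e8 j).1 k = (v4m i j).1 k + (v4m i j).1 k
        rw [e8_apply, e8_apply, v4m_apply]; ring)
      linear_combination (norm := abel) hw + this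
    have h2 : u + e8 j = (w + v44 i j) + (w + v44 i j) := by
      have : e8 i + e8 j = v44 i j + v44 i j := Subtype.ext (funext fun k => by
        show (e8 i).1 k + (e8 j).1 k = (v44 i j).1 k + (v44 i j).1 k
        rw [e8_apply, e8_apply, v44_apply]; ring)
      linear_combination (norm := abel) hw + this
    have h3 : w + v4m i j ≠ 0 := fun h => (hcon j).1 (by rw [h, add_zero, sub_eq_zero] at h1; exact h1)
    have h4 : w + v44 i j ≠ 0 := fun h => (hcon j).2 (by
      rw [h, add_zero, add_eq_zero_iff_eq_neg] at h2; exact h2)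
    have h5 := nrm_min h3
    have h6 := nrm_min h4
    have h7 := nrm_sub u (e8 j)
    have h8 := nrm_add u (e8 j)
    rw [h1, hu, nrm_e8, dt_e8, nrm_add, dt_self] at h7
    rw [h2, hu, nrm_e8, dt_e8, nrm_add, dt_self] at h8
    omega
  have : nrm u = 0 := Finset.sum_eq_zero fun j _ => by rw [h0 j]; rfl
  omega

/-- An element of `Co0` that maps a frame vector to a frame vector is monomial. -/
theorem monomial {g : Co0} {a b : GolayPt} (h : g • e8 a = e8 b ∨ g • e8 a = -e8 b) :
    ∃ c, ∃ hc : c ∈ GC, ∃ σ, ∃ hσ : σ ∈ M24, g = sgnEl c hc * permEl σ hσ := by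
  have h1 : ∀ i, ∃ j, g • e8 i = e8 j ∨ g • e8 i = -e8 j := by
    intro i
    have h2 : e8 i - e8 a = v4m i a + v4m i a := Subtype.ext (funext fun k => by
      show (e8 i).1 k - (e8 a).1 k = (v4m i a).1 k + (v4m i a).1 k
      rw [e8_apply, e8_apply, v4m_apply]; ring)
    have h3 : g • e8 i - g • e8 a = g • v4m i a + g • v4m i a := by
      rw [← co_sub, h2, co_add]
    rcases h with h | h
    · exact frame_lemma (by rw [nrm_smul, nrm_e8]) (by rw [← h, h3])
    · refine frame_lemma (w := g • v4m i a - e8 b) (i := b) (by rw [nrm_smul, nrm_e8]) ?_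
      rw [h] at h3
      linear_combination (norm := abel) h3
  choose f hf using h1
  have h4 : ∀ i, ∃ ε : ℤ, (ε = 1 ∨ ε = -1) ∧ ∀ x : leechLattice, (g • x).1 (f i) = ε * x.1 i := by
    intro i
    rcases hf i with h5 | h5
    · refine ⟨1, Or.inl rfl, fun x => ?_⟩
      have := dt_smul g x (e8 i)
      rw [h5, dt_e8, dt_e8] at this
      omega
    · refine ⟨-1, Or.inr rfl, fun x => ?_⟩
      have := dt_smul g x (e8 i)
      rw [h5, dt_neg_right, dt_e8, dt_e8] at this
      omega
  choose ε hε hg using h4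
  have hinj : Function.Injective f := by
    intro i j hij
    by_contra hne
    have h5 := hg i (e8 i)
    have h6 := hg j (e8 i)
    rw [← hij, h5, e8_apply, e8_apply, del_self, del_ne (Ne.symm hne)] at h6
    rcases hε i with h7 | h7 <;> rw [h7] at h6 <;> omega
  let σ : Equiv.Perm GolayPt := Equiv.ofBijective f (Finite.injective_iff_bijective.mp hinj)
  have hg' : ∀ (x : leechLattice) (k : GolayPt), (g • x).1 k = ε (σ⁻¹ k) * x.1 (σ⁻¹ k) := by
    intro x k
    rw [← hg]
    exact congrArg _ (σ.apply_symm_apply k).symm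
  have hσ : σ ∈ M24 := by
    refine mem_M24_of_smul fun c hc => ?_
    convert filter_mem_GC (g • oct2 c hc).2 2 using 1
    ext k
    rw [mem_smul_iff, Finset.mem_filter, hg', oct2_apply]
    unfold ind
    generalize σ⁻¹ k = l
    rcases hε l with h7 | h7 <;> rw [h7] <;> split_ifs with h8 <;> simp [h8]
  have hc := filter_mem_GC (g • m3 a).2 3
  refine ⟨_, hc, σ, hσ, co_ext fun x => Subtype.ext (funext fun k => ?_)⟩
  rw [mul_smul, sgnEl_apply, permEl_apply, hg']
  congr 1
  simp only [sgn, Finset.mem_filter, hg', m3_apply, del, mem_univ, true_and]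
  generalize σ⁻¹ k = l
  rcases hε l with h7 | h7 <;> rw [h7] <;> by_cases h8 : l = a <;> simp [h8]

end Cfsg.Lib.Leech
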