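import Mathlib

/-! General tools for proving simplicity from simple subgroups and orbit lengths. -/

set_option autoImplicit false

namespace Cfsg.Lib.Leech

open scoped Pointwise

theorem card_modEq_fixed {K : Type*} [Group K] [Finite K] {α : MulAut K} {q : ℕ} [Fact q.Prime]
    (hq : α ^ q = 1) {H : Subgroup K} (hαH : ∀ x ∈ H, α x ∈ H) :
    Nat.card H ≡ Nat.card ↥(H ⊓ α.toMonoidHom.eqLocus (MonoidHom.id K)) [MOD q] := by
  let f : Function.End H := fun x => ⟨α x, hαH x x.2⟩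
  have hf : ∀ (n : ℕ) (x : H), ((f ^ n) x : K) = (α ^ n) x := by
    intro n
    induction n with
    | zero => intro x; rfl
    | succ n ih =>
      intro x
      rw [pow_succ, pow_succ, MulAut.mul_apply]
      exact ih (f x)
  have hfq : f ^ q ^ 1 = 1 := by
    funext x
    apply Subtype.ext
    rw [hf, pow_one, hq]; rfl
  classical
  have := Fintype.ofFinite H
  have h1 := Equiv.Perm.card_fixedPoints_modEq hfq
  rw [Nat.card_eq_fintype_card]
  convert h1 using 1
  rw [← Nat.card_eq_fintype_card]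
  refine Nat.card_congr ⟨fun x => ⟨⟨x, x.2.1⟩, Subtype.ext x.2.2⟩,
    fun x => ⟨x.1, x.1.2, congrArg Subtype.val x.2⟩, fun _ => rfl, fun _ => rfl⟩

theorem aut_eq_one_of_prime {K : Type*} [Group K] [Finite K] (α : MulAut K) {r : ℕ} (hr : r.Prime)
    (hα : α ^ r = 1) (hK : ¬ r ∣ Nat.card K)
    (h : ∀ d, IsPrimePow d → d ∣ Nat.card K → d % r ≠ 1) : α = 1 := by
  have : Fact r.Prime := ⟨hr⟩
  let F := α.toMonoidHom.eqLocus (MonoidHom.id K)
  have hA : IsPGroup r (Subgroup.zpowers α) := by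
    intro x
    refine ⟨1, Subtype.ext ?_⟩
    obtain ⟨x, k, rfl⟩ := x
    show (α ^ k) ^ r ^ 1 = 1
    rw [pow_one, ← zpow_natCast, ← zpow_mul, mul_comm, zpow_mul, zpow_natCast, hα, one_zpow]
  have hF : Nat.card K ∣ Nat.card F := by
    refine (Nat.dvd_iff_prime_pow_dvd_dvd _ _).mpr fun q k hq hk => ?_
    have : Fact q.Prime := ⟨hq⟩
    obtain ⟨P, hP⟩ := hA.nonempty_fixed_point_of_prime_not_dvd_card (Sylow q K) (fun h1 => hK
      (h1.trans ((Sylow.card_dvd_index default).trans (Subgroup.index_dvd_card _))))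
    have hP1 : α • P = P := hP ⟨α, Subgroup.mem_zpowers α⟩
    have hP2 : ∀ x ∈ (P : Subgroup K), α x ∈ (P : Subgroup K) := by
      intro x hx
      have : α • x ∈ α • (P : Subgroup K) := Subgroup.smul_mem_pointwise_smul _ _ _ hx
      have h6 : α • (P : Subgroup K) = P := congrArg Sylow.toSubgroup hP1
      rwa [h6] at this
    have h1 := card_modEq_fixed hα hP2
    obtain ⟨a, ha⟩ := IsPGroup.iff_card.mp P.isPGroup'
    have h2 : Nat.card ↥((P : Subgroup K) ⊓ F) ∣ q ^ a := ha ▸ Subgroup.card_dvd_of_le inf_le_left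
    obtain ⟨j, hj, h3⟩ := (Nat.dvd_prime_pow hq).mp h2
    have h4 : a = j := by
      by_contra hne
      obtain ⟨i, rfl⟩ := Nat.exists_eq_add_of_le hj
      have hi : 0 < i := by omega
      have hqK : q ^ (j + i) ∣ Nat.card K := ha ▸ Subgroup.card_subgroup_dvd_card _
      have hqr : Nat.Coprime r (q ^ j) := by
        refine Nat.Coprime.pow_right _ ((Nat.coprime_primes hr hq).mpr fun h5 => hK ?_)
        exact h5 ▸ (dvd_pow_self q (by omega)).trans hqK
      rw [ha, h3, pow_add] at h1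
      have h5 : q ^ i ≡ 1 [MOD r] := Nat.ModEq.cancel_left_of_coprime hqr (by rwa [mul_one])
      refine h (q ^ i) (hq.isPrimePow.pow hi.ne') ((Dvd.intro_left _ (pow_add _ _ _).symm).trans hqK) ?_
      rw [h5, Nat.mod_eq_of_lt hr.one_lt]
    refine (P.pow_dvd_card_of_pow_dvd_card hk).trans ?_
    rw [ha, h4, ← h3]
    exact Subgroup.card_dvd_of_le inf_le_right
  have hF' : F = ⊤ := Subgroup.eq_top_of_le_card _ (Nat.le_of_dvd Nat.card_pos hF)
  ext x
  have : x ∈ F := hF' ▸ Subgroup.mem_top x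
  exact this

theorem primePow_check (p : ℕ) (l : List ℕ) (hl : l.Pairwise Nat.Coprime)
    (h : ∀ a ∈ l, ∀ d ∈ a.divisors, d % p = 1 → d = 1) (h0 : ∀ a ∈ l, a ≠ 0) :
    ∀ d, IsPrimePow d → d ∣ l.prod → d % p ≠ 1 := by
  intro d hd hdl h1
  induction l with
  | nil => exact hd.ne_one (by simpa using hdl)
  | cons a l ih =>
    rw [List.pairwise_cons] at hl
    rw [List.prod_cons, Nat.Coprime.isPrimePow_dvd_mul (Nat.coprime_list_prod_right_iff.mpr hl.1) hd]
      at hdl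
    rcases hdl with h2 | h2
    · exact hd.ne_one (h a List.mem_cons_self d
        (Nat.mem_divisors.mpr ⟨h2, h0 a List.mem_cons_self⟩) h1)
    · exact ih hl.2 (fun b hb => h b (List.mem_cons_of_mem _ hb))
        (fun b hb => h0 b (List.mem_cons_of_mem _ hb)) h2

theorem normal_top_or_central {G : Type*} [Group G] [Finite G] {p n : ℕ} (hp : p.Prime)
    (hpG : p ∣ Nat.card G) (hA : ∀ K : Subgroup G, K.Normal → p ∣ Nat.card K → K = ⊤)
    (hB : ∀ K : Subgroup G, K.Normal → ¬ p ∣ Nat.card K → Nat.card K ∣ n)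
    (hn : ∀ d, IsPrimePow d → d ∣ n → d % p ≠ 1) (K : Subgroup G) (hK : K.Normal) :
    K = ⊤ ∨ K ≤ Subgroup.center G := by
  by_cases h : p ∣ Nat.card K
  · exact Or.inl (hA K hK h)
  right
  have : Fact p.Prime := ⟨hp⟩
  obtain ⟨g, hg⟩ := exists_prime_orderOf_dvd_card' p hpG
  have h1 : MulAut.conjNormal (H := K) g = 1 := aut_eq_one_of_prime _ hp
    (by rw [← map_pow, ← hg, pow_orderOf_eq_one, map_one]) h
    fun d hd hdK => hn d hd (hdK.trans (hB K hK h))
  have h2 : g ∈ Subgroup.centralizer (K : Set G) := by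
    intro k hk
    have h3 : g * k * g⁻¹ = k := congrArg (fun f : MulAut K => (f ⟨k, hk⟩ : G)) h1
    rw [mul_inv_eq_iff_eq_mul] at h3
    exact h3.symm
  have h3 := hA (Subgroup.centralizer (K : Set G)) inferInstance
    (hg ▸ Subgroup.orderOf_dvd_natCard _ h2)
  intro k hk
  rw [Subgroup.mem_center_iff]
  intro x
  have : x ∈ Subgroup.centralizer (K : Set G) := h3 ▸ Subgroup.mem_top x
  exact (this k hk).symm

variable {Γ : Type*} [Group Γ]

/-- `K` is a normal subgroup of the subgroup `G` -/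
structure NrmIn (K G : Subgroup Γ) : Prop where
  le : K ≤ G
  conj : ∀ g ∈ G, ∀ k ∈ K, g * k * g⁻¹ ∈ K

theorem NrmIn.normal {K G H : Subgroup Γ} (h : NrmIn K G) (hH : H ≤ G) :
    (K.subgroupOf H).Normal :=
  ⟨fun k hk g => h.conj g (hH g.2) k hk⟩

theorem nrmIn_map {G : Subgroup Γ} (K : Subgroup G) (hK : K.Normal) : NrmIn (K.map G.subtype) G :=
  ⟨Subgroup.map_subtype_le K, by
    rintro g hg _ ⟨k, hk, rfl⟩
    exact ⟨_, hK.conj_mem k hk ⟨g, hg⟩, rfl⟩⟩

variable [Finite Γ]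

theorem simple_of_ambient (G : Subgroup Γ) {p n : ℕ} (hp : p.Prime) (hpG : p ∣ Nat.card G)
    (hA : ∀ K, NrmIn K G → p ∣ Nat.card K → G ≤ K)
    (hB : ∀ K, NrmIn K G → ¬ p ∣ Nat.card K → Nat.card K ∣ n)
    (hn : ∀ d, IsPrimePow d → d ∣ n → d % p ≠ 1)
    (hZ : ∀ z ∈ G, (∀ g ∈ G, g * z = z * g) → z = 1) : IsSimpleGroup G := by
  have hc : ∀ K : Subgroup G, Nat.card (K.map G.subtype) = Nat.card K := fun K =>
    Subgroup.card_map_of_injective G.subtype_injective
  have : Nontrivial G := Finite.one_lt_card_iff_nontrivial.mp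
    (lt_of_lt_of_le hp.one_lt (Nat.le_of_dvd Nat.card_pos hpG))
  refine ⟨fun K hK => ?_⟩
  rcases normal_top_or_central hp hpG (fun K hK h => by
      rw [eq_top_iff]
      intro g _
      obtain ⟨k, hk, e⟩ := hA _ (nrmIn_map K hK) (hc K ▸ h) g.2
      rwa [← Subtype.ext e])
    (fun K hK h => hc K ▸ hB _ (nrmIn_map K hK) (hc K ▸ h)) hn K hK with h | h
  · exact Or.inr h
  · left
    rw [eq_bot_iff]
    intro k hk
    exact Subgroup.mem_bot.mpr (Subtype.ext (hZ k k.2 fun g hg =>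
      congrArg Subtype.val (Subgroup.mem_center_iff.mp (h hk) ⟨g, hg⟩)))

theorem NrmIn.mem_of_pow {K G : Subgroup Γ} (h : NrmIn K G) {p : ℕ} (hp : p.Prime)
    (h1 : p ∣ Nat.card K) (h2 : ¬ p ^ 2 ∣ Nat.card G) {a : Γ} (haG : a ∈ G) (ha : a ^ p = 1) :
    a ∈ K := by
  have := h.normal le_rfl
  suffices (⟨a, haG⟩ : G) ∈ K.subgroupOf G from this
  rw [← QuotientGroup.eq_one_iff, ← orderOf_eq_one_iff]
  have h3 : orderOf ((⟨a, haG⟩ : G) : G ⧸ K.subgroupOf G) ∣ p := by
    rw [orderOf_dvd_iff_pow_eq_one, ← QuotientGroup.mk_pow]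
    rw [show (⟨a, haG⟩ : G) ^ p = 1 from Subtype.ext ha]; rfl
  rcases (Nat.dvd_prime hp).mp h3 with h4 | h4
  · exact h4
  · exfalso
    apply h2
    rw [Subgroup.card_eq_card_quotient_mul_card_subgroup (K.subgroupOf G), sq]
    refine Nat.mul_dvd_mul (h4 ▸ orderOf_dvd_natCard _) ?_
    rwa [Nat.card_congr (Subgroup.subgroupOfEquivOfLe h.le).toEquiv]

theorem NrmIn.simple_le {K G H : Subgroup Γ} (h : NrmIn K G) {p : ℕ} (hp : p.Prime)
    (h1 : p ∣ Nat.card K) (h2 : ¬ p ^ 2 ∣ Nat.card G) (hH : H ≤ G) (hs : IsSimpleGroup H)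
    (h3 : p ∣ Nat.card H) : H ≤ K := by
  have : Fact p.Prime := ⟨hp⟩
  obtain ⟨g, hg⟩ := exists_prime_orderOf_dvd_card' p h3
  have h4 : g ∈ K.subgroupOf H := h.mem_of_pow hp h1 h2 (hH g.2) (by
    rw [← map_pow, ← hg, pow_orderOf_eq_one]; rfl)
  rcases hs.eq_bot_or_eq_top_of_normal _ (h.normal hH) with h5 | h5
  · rw [h5, Subgroup.mem_bot] at h4
    rw [h4, orderOf_one] at hg
    exact absurd hg.symm hp.one_lt.ne'
  · exact Subgroup.subgroupOf_eq_top.mp h5

theorem NrmIn.card_mul_dvd {K G H : Subgroup Γ} (h : NrmIn K G) {p : ℕ}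
    (h1 : ¬ p ∣ Nat.card K) (hH : H ≤ G) (hs : IsSimpleGroup H) (h3 : p ∣ Nat.card H) :
    Nat.card H * Nat.card K ∣ Nat.card G := by
  have := h.normal le_rfl
  rcases hs.eq_bot_or_eq_top_of_normal _ (h.normal hH) with h5 | h5
  · rw [Subgroup.card_eq_card_quotient_mul_card_subgroup (K.subgroupOf G),
      Nat.card_congr (Subgroup.subgroupOfEquivOfLe h.le).toEquiv]
    refine Nat.mul_dvd_mul_right ?_ _
    refine Subgroup.card_dvd_of_injective
      ((QuotientGroup.mk' (K.subgroupOf G)).comp (Subgroup.inclusion hH)) ?_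
    rw [injective_iff_map_eq_one]
    intro a ha
    rw [MonoidHom.comp_apply, QuotientGroup.mk'_apply, QuotientGroup.eq_one_iff] at ha
    have : a ∈ K.subgroupOf H := ha
    rwa [h5, Subgroup.mem_bot] at this
  · exact absurd (h3.trans (Subgroup.card_dvd_of_le (Subgroup.subgroupOf_eq_top.mp h5))) h1

omit [Finite Γ] in
theorem card_orbit_set {X : Type*} [MulAction Γ X] (G : Subgroup Γ) (x : X) (S : Set X)
    (hS : ∀ y, y ∈ S ↔ ∃ g ∈ G, g • x = y) :
    Nat.card G = S.ncard * Nat.card ↥(G ⊓ MulAction.stabilizer Γ x) := by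
  have e1 : MulAction.orbit G x = S := by
    ext y
    rw [hS]
    exact ⟨fun ⟨g, hg⟩ => ⟨g, g.2, hg⟩, fun ⟨g, hg, e⟩ => ⟨⟨g, hg⟩, e⟩⟩
  have e2 : Nat.card (MulAction.stabilizer G x) = Nat.card ↥(G ⊓ MulAction.stabilizer Γ x) :=
    Nat.card_congr ⟨fun g => ⟨g.1.1, g.1.2, g.2⟩, fun g => ⟨⟨g.1, g.2.1⟩, g.2.2⟩,
      fun _ => rfl, fun _ => rfl⟩
  rw [← e2, ← e1, ← MulAction.index_stabilizer, Subgroup.index_mul_card]

theorem le_of_large_orbit {X : Type*} [MulAction Γ X] {K G : Subgroup Γ} (hle : K ≤ G) (x : X)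
    (hst : G ⊓ MulAction.stabilizer Γ x ≤ K) (T : Set X) (hT : ∀ y ∈ T, ∃ k ∈ K, k • x = y)
    (hc : Nat.card G < 2 * (T.ncard * Nat.card ↥(G ⊓ MulAction.stabilizer Γ x))) : G ≤ K := by
  have h1 := card_orbit_set K x {y | ∃ k ∈ K, k • x = y} fun _ => Iff.rfl
  have h2 : K ⊓ MulAction.stabilizer Γ x = G ⊓ MulAction.stabilizer Γ x :=
    le_antisymm (inf_le_inf_right _ hle) (le_inf hst inf_le_right)
  have h3 : T.ncard ≤ {y | ∃ k ∈ K, k • x = y}.ncard :=
    Set.ncard_le_ncard hT (Set.Finite.subset (Set.finite_range fun k : Γ => k • x)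
      fun _ ⟨k, _, e⟩ => ⟨k, e⟩)
  rw [h2] at h1
  obtain ⟨m, hm⟩ := Subgroup.card_dvd_of_le hle
  have h4 : 0 < Nat.card G := Nat.card_pos
  have h5 := Nat.mul_le_mul_right (Nat.card ↥(G ⊓ MulAction.stabilizer Γ x)) h3
  have h6 : m = 1 := by
    rw [← h1] at h5
    rcases m with _ | _ | m
    · omega
    · rfl
    · nlinarith
  exact (Subgroup.eq_of_le_of_card_ge hle (by rw [hm, h6, mul_one])).ge

theorem eq_one_of_central {H : Subgroup Γ} (hs : IsSimpleGroup H) (hc : ¬ (Nat.card H).Prime)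
    {z : Γ} (hz : z ∈ H) (h : ∀ g ∈ H, g * z = z * g) : z = 1 := by
  rcases hs.eq_bot_or_eq_top_of_normal (Subgroup.center H) inferInstance with h1 | h1
  · have : (⟨z, hz⟩ : H) ∈ Subgroup.center H :=
      Subgroup.mem_center_iff.mpr fun g => Subtype.ext (h g g.2)
    rw [h1, Subgroup.mem_bot] at this
    exact congrArg Subtype.val this
  · exfalso
    let : CommGroup H := Group.commGroupOfCenterEqTop h1
    exact hc IsSimpleGroup.prime_card

omit [Finite Γ] in
theorem stab_conj {X : Type*} [MulAction Γ X] (g : Γ) (x : X) :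
    (MulAction.stabilizer Γ x).map (MulAut.conj g).toMonoidHom = MulAction.stabilizer Γ (g • x) :=
  (MulAction.stabilizer_smul_eq_stabilizer_map_conj g x).symm

omit [Finite Γ] in
theorem stab_equiv {X : Type*} [MulAction Γ X] (g : Γ) (x : X) :
    Nonempty (MulAction.stabilizer Γ x ≃* MulAction.stabilizer Γ (g • x)) :=
  ⟨((MulAut.conj g).subgroupMap _).trans (MulEquiv.subgroupCongr (stab_conj g x))⟩

omit [Finite Γ] in
theorem stab2_equiv {X : Type*} [MulAction Γ X] (g : Γ) (x y : X) :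
    Nonempty (↥(MulAction.stabilizer Γ x ⊓ MulAction.stabilizer Γ y) ≃*
      ↥(MulAction.stabilizer Γ (g • x) ⊓ MulAction.stabilizer Γ (g • y))) :=
  ⟨((MulAut.conj g).subgroupMap _).trans (MulEquiv.subgroupCongr (by
    rw [← stab_conj, ← stab_conj, ← Subgroup.map_inf _ _ _ (MulAut.conj g).injective]; rfl))⟩

omit [Finite Γ] in
theorem stab3_equiv {X : Type*} [MulAction Γ X] (g : Γ) (x y z : X) :
    Nonempty (↥(MulAction.stabilizer Γ x ⊓ MulAction.stabilizer Γ y ⊓ MulAction.stabilizer Γ z) ≃*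
      ↥(MulAction.stabilizer Γ (g • x) ⊓ MulAction.stabilizer Γ (g • y) ⊓
        MulAction.stabilizer Γ (g • z))) :=
  ⟨((MulAut.conj g).subgroupMap _).trans (MulEquiv.subgroupCongr (by
    rw [← stab_conj, ← stab_conj, ← stab_conj, ← Subgroup.map_inf _ _ _ (MulAut.conj g).injective,
      ← Subgroup.map_inf _ _ _ (MulAut.conj g).injective]; rfl))⟩

end Cfsg.Lib.Leech
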