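import Cfsg.Agent.Lib.Leech.Trans
import Cfsg.Agent.Lib.Leech.SimpleTools
import Cfsg.Agent.Lib.Golay.More

/-! The orders of `Co0`, `Co2`, `Co3`, `McL`, `HS` and the centre of `Co0`. -/

set_option autoImplicit false

namespace Cfsg.Lib.Leech

open Finset MulAction
open scoped Pointwise symmDiff

/-- a subgroup of `M24` as a subgroup of `Co0` -/
def pm (H : Subgroup (Equiv.Perm GolayPt)) : Subgroup Co0 := (H.subgroupOf M24).map permHom

theorem mem_pm {H : Subgroup (Equiv.Perm GolayPt)} {g : Co0} :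
    g ∈ pm H ↔ ∃ σ, ∃ hσ : σ ∈ M24, σ ∈ H ∧ g = permEl σ hσ :=
  ⟨fun ⟨σ, h1, h2⟩ => ⟨σ.1, σ.2, h1, h2.symm⟩, fun ⟨σ, hσ, h1, h2⟩ => ⟨⟨σ, hσ⟩, h1, h2.symm⟩⟩

theorem permEl_mem_pm {H : Subgroup (Equiv.Perm GolayPt)} {σ : Equiv.Perm GolayPt} (hσ : σ ∈ M24)
    (h : σ ∈ H) : permEl σ hσ ∈ pm H := mem_pm.mpr ⟨σ, hσ, h, rfl⟩

theorem pm_equiv {H : Subgroup (Equiv.Perm GolayPt)} (h : H ≤ M24) : Nonempty (pm H ≃* H) :=
  ⟨((H.subgroupOf M24).equivMapOfInjective _ permHom_injective).symm.trans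
    (Subgroup.subgroupOfEquivOfLe h)⟩

theorem mem_M23 {σ : Equiv.Perm GolayPt} : σ ∈ Spor.M23 ↔ σ ∈ M24 ∧ σ none = none := Iff.rfl

theorem mem_M22 {σ : Equiv.Perm GolayPt} :
    σ ∈ Spor.M22 ↔ (σ ∈ M24 ∧ σ none = none) ∧ σ (some 0) = some 0 := Iff.rfl

theorem card_pm23 : Nat.card (pm Spor.M23) = 10200960 := by
  obtain ⟨e⟩ := pm_equiv (H := Spor.M23) inf_le_left
  rw [Nat.card_congr e.toEquiv, Golay.card_M23]

theorem card_pm22 : Nat.card (pm Spor.M22) = 443520 := by
  obtain ⟨e⟩ := pm_equiv (H := Spor.M22) (inf_le_left.trans inf_le_left)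
  rw [Nat.card_congr e.toEquiv, Golay.card_M22]

theorem simple_pm23 : IsSimpleGroup (pm Spor.M23) := by
  obtain ⟨e⟩ := pm_equiv (H := Spor.M23) inf_le_left
  have := Golay.simple_M23
  exact e.isSimpleGroup

theorem simple_pm22 : IsSimpleGroup (pm Spor.M22) := by
  obtain ⟨e⟩ := pm_equiv (H := Spor.M22) (inf_le_left.trans inf_le_left)
  have := Golay.simple_M22
  exact e.isSimpleGroup

theorem fix_e8 {g : Co0} {a : GolayPt} (h : g • e8 a = e8 a) :
    ∃ c, ∃ hc : c ∈ GC, ∃ σ, ∃ hσ : σ ∈ M24, a ∉ c ∧ σ a = a ∧ g = sgnEl c hc * permEl σ hσ := by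
  obtain ⟨c, hc, σ, hσ, rfl⟩ := monomial (Or.inl h)
  rw [mul_smul, permEl_e8] at h
  have h1 := congrArg (fun x : leechLattice => x.1 a) h
  simp only [sgnEl_apply, e8_apply, del_self] at h1
  have h2 : σ a = a := by
    by_contra h2
    rw [del_ne (Ne.symm h2)] at h1
    omega
  refine ⟨c, hc, σ, hσ, fun h3 => ?_, h2, rfl⟩
  simp [sgn, h3, h2, del_self] at h1

theorem sgnEl_fix_odd {c : Finset GolayPt} {hc : c ∈ GC} {x : leechLattice} (hx : ∀ i, x.1 i ≠ 0)
    (h : sgnEl c hc • x = x) : c = ∅ := by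
  rw [Finset.eq_empty_iff_forall_notMem]
  intro i hi
  have h1 := congrArg (fun x : leechLattice => x.1 i) h
  simp only [sgnEl_apply, sgn, hi, if_true] at h1
  have := hx i
  omega

theorem s5_ne_zero (a i : GolayPt) : (s5 a).1 i ≠ 0 := by rw [s5_apply]; omega

theorem m3_ne_zero (a i : GolayPt) : (m3 a).1 i ≠ 0 := by rw [m3_apply]; omega

theorem stab_e8_s5 : stabilizer Co0 (e8 none) ⊓ stabilizer Co0 (s5 none) = pm Spor.M23 := by
  ext g
  rw [mem_pm]
  constructor
  · rintro ⟨h1, h2⟩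
    obtain ⟨c, hc, σ, hσ, h3, h4, rfl⟩ := fix_e8 h1
    have h5 : (sgnEl c hc * permEl σ hσ) • s5 none = s5 none := h2
    rw [mul_smul, permEl_s5, h4] at h5
    obtain rfl := sgnEl_fix_odd (s5_ne_zero _) h5
    exact ⟨σ, hσ, ⟨hσ, h4⟩, by rw [sgnEl_empty, one_mul]⟩
  · rintro ⟨σ, hσ, h, rfl⟩
    exact ⟨mem_stabilizer_iff.mpr (by rw [permEl_e8, (mem_M23.mp h).2]),
      mem_stabilizer_iff.mpr (by rw [permEl_s5, (mem_M23.mp h).2])⟩

theorem stab_e8_m3 : stabilizer Co0 (e8 none) ⊓ stabilizer Co0 (m3 none) = pm Spor.M23 := by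
  ext g
  rw [mem_pm]
  constructor
  · rintro ⟨h1, h2⟩
    obtain ⟨c, hc, σ, hσ, h3, h4, rfl⟩ := fix_e8 h1
    have h5 : (sgnEl c hc * permEl σ hσ) • m3 none = m3 none := h2
    rw [mul_smul, permEl_m3, h4] at h5
    obtain rfl := sgnEl_fix_odd (m3_ne_zero _) h5
    exact ⟨σ, hσ, ⟨hσ, h4⟩, by rw [sgnEl_empty, one_mul]⟩
  · rintro ⟨σ, hσ, h, rfl⟩
    exact ⟨mem_stabilizer_iff.mpr (by rw [permEl_e8, (mem_M23.mp h).2]),
      mem_stabilizer_iff.mpr (by rw [permEl_m3, (mem_M23.mp h).2])⟩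

theorem v44_inj {i j k : GolayPt} (h : v44 i j = v44 i k) : j = k := by
  by_contra hjk
  have := congrArg (fun x : leechLattice => x.1 j) h
  simp only [v44_apply, del_self, del_ne hjk] at this
  omega

theorem m3_inj {j k : GolayPt} (h : m3 j = m3 k) : j = k := by
  by_contra hjk
  have := congrArg (fun x : leechLattice => x.1 j) h
  simp only [m3_apply, del_self, del_ne hjk] at this
  omega

theorem v44_add_v4m (i j : GolayPt) : v44 i j + v4m i j = e8 i :=
  Subtype.ext (funext fun k => by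
    show (v44 i j).1 k + (v4m i j).1 k = _
    rw [v44_apply, v4m_apply, e8_apply]; ring)

theorem mem_pm22_iff {g : Co0} : g ∈ pm Spor.M22 ↔ g • s5 none = s5 none ∧
    g • v44 none (some 0) = v44 none (some 0) ∧ g • v4m none (some 0) = v4m none (some 0) := by
  constructor
  · intro h
    obtain ⟨σ, hσ, h', rfl⟩ := mem_pm.mp h
    rw [permEl_s5, permEl_v44, permEl_v4m, (mem_M22.mp h').1.2, (mem_M22.mp h').2]
    exact ⟨rfl, rfl, rfl⟩
  · rintro ⟨h1, h2, h3⟩
    have h4 : g ∈ pm Spor.M23 := by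
      rw [← stab_e8_s5]
      exact ⟨mem_stabilizer_iff.mpr (by rw [← v44_add_v4m none (some 0), co_add, h2, h3]), h1⟩
    obtain ⟨σ, hσ, h, rfl⟩ := mem_pm.mp h4
    rw [permEl_v44, (mem_M23.mp h).2] at h2
    exact permEl_mem_pm hσ ⟨h, v44_inj h2⟩

open Classical in
/-- sign change, as a total function -/
noncomputable def sg (c : Finset GolayPt) : Co0 := if h : c ∈ GC then sgnEl c h else 1

theorem sg_eq {c : Finset GolayPt} (h : c ∈ GC) : sg c = sgnEl c h := dif_pos h

open Classical in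
/-- twice the indicator of a code word, as a total function -/
noncomputable def oc (c : Finset GolayPt) : leechLattice := if h : c ∈ GC then oct2 c h else 0

theorem oc_eq {c : Finset GolayPt} (h : c ∈ GC) : oc c = oct2 c h := dif_pos h

theorem oc_injOn : Set.InjOn oc GC := by
  intro c hc d hd h
  rw [oc_eq hc, oc_eq hd] at h
  ext i
  have := congrArg (fun x : leechLattice => x.1 i) h
  simp only [oct2_apply, ind] at this
  split_ifs at this <;> first | omega | tauto

theorem sg_smul_injOn {x : leechLattice} (hx : ∀ i, x.1 i ≠ 0) :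
    Set.InjOn (fun c => sg c • x) GC := by
  intro c hc d hd h
  simp only [sg_eq hc, sg_eq hd] at h
  have h1 : sgnEl d hd • sgnEl c hc • x = x := by
    rw [h, ← mul_smul, sgnEl_mul]
    simp only [symmDiff_self, Finset.bot_eq_empty, sgnEl_empty, one_smul]
  rw [← mul_smul, sgnEl_mul] at h1
  exact (symmDiff_eq_bot.mp (sgnEl_fix_odd hx h1)).symm

theorem ncard_GC_avoid (a : GolayPt) : {c | c ∈ GC ∧ a ∉ c}.ncard = 2048 := by
  have := ncard_half GC univ a (mem_univ a) fun c hc => symmDiff_mem_GC hc univ_mem_GC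
  rw [ncard_GC] at this
  omega

theorem ncard_GC_avoid2 {a b : GolayPt} (h : a ≠ b) :
    {c | (c ∈ GC ∧ a ∉ c) ∧ b ∉ c}.ncard = 1024 := by
  obtain ⟨d, hd, h1, h2⟩ := exists_sep h
  have := ncard_half {c | c ∈ GC ∧ a ∉ c} d b h2 fun c hc =>
    ⟨symmDiff_mem_GC hc.1 hd, by simp [Finset.mem_symmDiff, hc.2, h1]⟩
  rw [ncard_GC_avoid] at this
  have h3 : 2 * {c | (c ∈ GC ∧ a ∉ c) ∧ b ∉ c}.ncard = 2048 := this
  omega

theorem card_stab_e8 : Nat.card (stabilizer Co0 (e8 none)) = 2048 * 10200960 := by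
  rw [card_orbit_set (stabilizer Co0 (e8 none)) (s5 none)
    ((fun c => sg c • s5 none) '' {c | c ∈ GC ∧ none ∉ c}), stab_e8_s5, card_pm23,
    Set.ncard_image_of_injOn ((sg_smul_injOn (s5_ne_zero _)).mono fun _ h => h.1), ncard_GC_avoid]
  intro y
  constructor
  · rintro ⟨c, ⟨hc, h1⟩, rfl⟩
    exact ⟨sgnEl c hc, sgnEl_e8 c hc h1, by simp only [sg_eq hc]⟩
  · rintro ⟨g, hg, rfl⟩
    obtain ⟨c, hc, σ, hσ, h3, h4, rfl⟩ := fix_e8 hg
    exact ⟨c, ⟨hc, h3⟩, by simp only [sg_eq hc, mul_smul, permEl_s5, h4]⟩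

theorem card_of_trans {x : leechLattice} {N : ℤ} (hx : nrm x = N)
    (h : ∀ y, nrm y = N → ∃ g : Co0, g • y = x) :
    Nat.card Co0 = {y : leechLattice | nrm y = N}.ncard * Nat.card (stabilizer Co0 x) := by
  rw [← Subgroup.card_top, card_orbit_set ⊤ x {y : leechLattice | nrm y = N}, top_inf_eq]
  intro y
  constructor
  · intro hy
    obtain ⟨g, rfl⟩ := h y hy
    exact ⟨g⁻¹, trivial, inv_smul_smul _ _⟩
  · rintro ⟨g, -, rfl⟩
    exact (nrm_smul g x).trans hx

theorem card_co0 : Nat.card Co0 = 8315553613086720000 := by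
  rw [card_of_trans (nrm_e8 none) fun y hy => trans64 hy, ncard_nrm64, card_stab_e8]

instance co0Finite : Finite Co0 := Nat.finite_of_card_ne_zero (by rw [card_co0]; norm_num)

theorem card_co2 {x : leechLattice} (hx : nrm x = 32) :
    Nat.card (stabilizer Co0 x) = 42305421312000 := by
  have h := card_of_trans hx fun y hy => by
    obtain ⟨g, hg⟩ := trans32 hy
    obtain ⟨g', hg'⟩ := trans32 hx
    exact ⟨g'⁻¹ * g, by rw [mul_smul, hg, ← hg', inv_smul_smul]⟩
  rw [card_co0, ncard_nrm32] at h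
  omega

theorem card_co3 {x : leechLattice} (hx : nrm x = 48) :
    Nat.card (stabilizer Co0 x) = 495766656000 := by
  have h := card_of_trans hx fun y hy => by
    obtain ⟨g, hg⟩ := trans48 hy
    obtain ⟨g', hg'⟩ := trans48 hx
    exact ⟨g'⁻¹ * g, by rw [mul_smul, hg, ← hg', inv_smul_smul]⟩
  rw [card_co0, ncard_nrm48] at h
  omega

theorem center_co0 : (Subgroup.center Co0 : Set Co0) = {1, sgnEl univ univ_mem_GC} := by
  ext z
  constructor
  · intro hz
    have hz' : ∀ g : Co0, g * z = z * g := Subgroup.mem_center_iff.mp hz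
    have h1 : z • e8 none = e8 none ∨ z • e8 none = -e8 none := by
      have h2 : ∀ j, j ≠ none → (z • e8 none).1 j = 0 := by
        intro j hj
        obtain ⟨c, hc, h3, h4⟩ := exists_sep hj.symm
        have h5 : sgnEl c hc • z • e8 none = z • e8 none := by
          rw [← mul_smul, hz', mul_smul, sgnEl_e8 c hc h3]
        have h6 := congrArg (fun x : leechLattice => x.1 j) h5
        simp only [sgnEl_apply, sgn, h4, if_true] at h6
        omega
      have h3 : sqNorm (z • e8 none).1 = 64 := (nrm_smul z _).trans (nrm_e8 _)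
      rw [sqNorm_split _ none, Finset.sum_eq_zero fun j hj => by
        rw [h2 j (Finset.mem_erase.mp hj).1]; rfl] at h3
      rcases sq_eq_sq_cases (a := (z • e8 none).1 none) (b := 8) (by linarith) with h4 | h4
      · left
        refine Subtype.ext (funext fun k => ?_)
        rw [e8_apply]
        by_cases hk : k = none
        · rw [hk, h4, del_self]; rfl
        · rw [h2 k hk, del_ne hk]; rfl
      · right
        refine Subtype.ext (funext fun k => ?_)
        show _ = -(e8 none).1 k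
        rw [e8_apply]
        by_cases hk : k = none
        · rw [hk, h4, del_self]; rfl
        · rw [h2 k hk, del_ne hk]; rfl
    have h2 : ∀ i, ∃ τ : Co0, τ • e8 none = e8 i := fun i => by
      obtain ⟨σ, hσ, h⟩ := Golay.M24_trans_one none i
      exact ⟨permEl σ hσ, by rw [permEl_e8, h]⟩
    rcases h1 with h1 | h1
    · left
      refine co_ext fun x => Subtype.ext (funext fun i => ?_)
      obtain ⟨τ, hτ⟩ := h2 i
      have h3 : z • e8 i = e8 i := by rw [← hτ, ← mul_smul, ← hz', mul_smul, h1]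
      have h4 := dt_smul z x (e8 i)
      rw [h3, dt_e8, dt_e8] at h4
      rw [one_smul]; omega
    · right
      refine co_ext fun x => Subtype.ext (funext fun i => ?_)
      obtain ⟨τ, hτ⟩ := h2 i
      have h3 : z • e8 i = -e8 i := by rw [← hτ, ← mul_smul, ← hz', mul_smul, h1, co_neg]
      have h4 := dt_smul z x (e8 i)
      rw [h3, dt_neg_right, dt_e8, dt_e8] at h4
      rw [sgnEl_univ]
      show _ = -x.1 i
      omega
  · rintro (rfl | rfl)
    · exact one_mem _
    · exact Subgroup.mem_center_iff.mpr fun g => co_ext fun x => by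
        rw [mul_smul, mul_smul, sgnEl_univ, sgnEl_univ, co_neg]

theorem card_center_co0 : Nat.card (Subgroup.center Co0) = 2 := by
  have h : Nat.card (Subgroup.center Co0) = (Subgroup.center Co0 : Set Co0).ncard := rfl
  rw [h, center_co0, Set.ncard_pair]
  intro h1
  have h2 := sgnEl_univ (e8 none)
  rw [← h1, one_smul] at h2
  have h3 : (e8 none).1 none = -(e8 none).1 none := congrArg (fun x : leechLattice => x.1 none) h2
  rw [e8_apply, del_self] at h3
  omega

theorem dt_oct2_s5 {c : Finset GolayPt} (hc : c ∈ octads) (h : none ∈ c) :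
    dt (oct2 c hc.1) (s5 none) = 24 := by
  rw [dt_s5, sum_oct2, oct2_apply, hc.2]; simp [ind, h]

theorem nrm_octad {c : Finset GolayPt} (hc : c ∈ octads) : nrm (oct2 c hc.1) = 32 := by
  rw [nrm_oct2, hc.2]; rfl

theorem ncard_ne_one (a : GolayPt) : {j | j ≠ a}.ncard = 23 := by
  have : {j | j ≠ a} = ((univ.erase a : Finset GolayPt) : Set GolayPt) := by ext; simp
  rw [this, Set.ncard_coe_finset, Finset.card_erase_of_mem (mem_univ _), Finset.card_univ, card_pt]

theorem ncard_ne_two {a b : GolayPt} (h : a ≠ b) : {j | j ≠ a ∧ j ≠ b}.ncard = 22 := by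
  have : {j | j ≠ a ∧ j ≠ b} = (((univ.erase a).erase b : Finset GolayPt) : Set GolayPt) := by
    ext; simp [and_comm]
  rw [this, Set.ncard_coe_finset, Finset.card_erase_of_mem (by simp [h.symm]),
    Finset.card_erase_of_mem (mem_univ _), Finset.card_univ, card_pt]

theorem fin32 : {x : leechLattice | nrm x = 32}.Finite :=
  Set.finite_of_ncard_ne_zero (by rw [ncard_nrm32]; norm_num)

theorem ncard552 : {x : leechLattice | nrm x = 32 ∧ dt x (s5 none) = 24}.ncard = 552 := by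
  let E := {x : leechLattice | (nrm x = 32 ∧ dt x (s5 none) = 24) ∧ x.1 none % 2 = 0}
  have hE : E = v44 none '' {j | j ≠ none} ∪ oc '' {c | c ∈ octads ∧ none ∈ c} := by
    ext x
    constructor
    · rintro ⟨⟨h1, h2⟩, h3⟩
      rcases even552 h1 h2 h3 with ⟨j, hj, rfl⟩ | ⟨c, hc, h4, rfl⟩
      · exact Or.inl ⟨j, hj, rfl⟩
      · exact Or.inr ⟨c, ⟨hc, h4⟩, oc_eq hc.1⟩
    · rintro (⟨j, hj, rfl⟩ | ⟨c, ⟨hc, h4⟩, rfl⟩)
      · exact ⟨⟨nrm_v44 hj.symm, dt_v44_s5 hj⟩, by rw [v44_apply]; omega⟩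
      · rw [oc_eq hc.1]
        exact ⟨⟨nrm_octad hc, dt_oct2_s5 hc h4⟩, by rw [oct2_apply]; omega⟩
  have hEc : E.ncard = 276 := by
    rw [hE, Set.ncard_union_eq _ (Set.toFinite _) (Set.toFinite _),
      Set.ncard_image_of_injective _ fun _ _ => v44_inj, ncard_ne_one,
      Set.ncard_image_of_injOn (oc_injOn.mono fun c hc => hc.1.1), Golay.ncard_octads_mem]
    rw [Set.disjoint_left]
    rintro _ ⟨j, hj, rfl⟩ ⟨c, ⟨hc, h4⟩, h5⟩
    rw [oc_eq hc.1] at h5
    have := congrArg (fun x : leechLattice => x.1 none) h5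
    simp only [oct2_apply, v44_apply, ind, h4, if_true, del_self] at this
    omega
  have hf : E.Finite := fin32.subset fun x hx => hx.1.1
  have hS : {x : leechLattice | nrm x = 32 ∧ dt x (s5 none) = 24} =
      E ∪ (fun x => s5 none - x) '' E := by
    ext x
    constructor
    · rintro ⟨h1, h2⟩
      rcases Int.emod_two_eq_zero_or_one (x.1 none) with h3 | h3
      · exact Or.inl ⟨⟨h1, h2⟩, h3⟩
      · refine Or.inr ⟨s5 none - x, ⟨⟨by rw [nrm_sub, nrm_s5, dt_comm, h2, h1]; rfl,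
          by rw [dt_sub_left, dt_self, nrm_s5, h2]; rfl⟩, ?_⟩, by simp⟩
        show ((s5 none).1 none - x.1 none) % 2 = 0
        rw [s5_apply]; omega
    · rintro (h | ⟨y, ⟨⟨h1, h2⟩, -⟩, rfl⟩)
      · exact h.1
      · exact ⟨by rw [nrm_sub, nrm_s5, dt_comm, h2, h1]; rfl,
          by rw [dt_sub_left, dt_self, nrm_s5, h2]; rfl⟩
  rw [hS, Set.ncard_union_eq _ hf (hf.image _),
    Set.ncard_image_of_injective _ sub_right_injective, hEc]
  rw [Set.disjoint_left]
  rintro _ h ⟨y, hy, rfl⟩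
  have h1 : ((s5 none).1 none - y.1 none) % 2 = 0 := h.2
  have h2 := hy.2
  rw [s5_apply] at h1
  omega

theorem card_mcl0 :
    Nat.card ↥(stabilizer Co0 (s5 none) ⊓ stabilizer Co0 (v44 none (some 0))) = 898128000 := by
  have h := card_orbit_set (stabilizer Co0 (s5 none)) (v44 none (some 0))
    {x : leechLattice | nrm x = 32 ∧ dt x (s5 none) = 24} fun y => by
      constructor
      · rintro ⟨h1, h2⟩
        obtain ⟨g, e1, e2⟩ := trans64p (nrm_s5 _) h1 h2
        exact ⟨g⁻¹, inv_mem e1, by rw [← e2, inv_smul_smul]⟩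
      · rintro ⟨g, hg, rfl⟩
        refine ⟨by rw [nrm_smul, nrm_v44 none_ne_zero], ?_⟩
        conv_lhs => rw [← show g • s5 none = s5 none from hg]
        rw [dt_smul, dt_v44_s5 none_ne_zero.symm]
  rw [ncard552, card_co3 (nrm_s5 _)] at h
  omega

/-- the 100 vectors permuted by the Higman–Sims group -/
def hsSet : Set leechLattice :=
  {z | nrm z = 32 ∧ dt z (s5 none) = 24 ∧ dt z (v4m none (some 0)) = 0}

theorem hsSet_eq : hsSet = {v44 none (some 0)} ∪ m3 '' {j | j ≠ none ∧ j ≠ some 0} ∪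
    oc '' {c | c ∈ octads ∧ none ∈ c ∧ some 0 ∈ c} := by
  ext x
  constructor
  · rintro ⟨h1, h2, h3⟩
    rcases Int.emod_two_eq_zero_or_one (x.1 none) with h4 | h4
    · rcases even552 h1 h2 h4 with ⟨j, hj, rfl⟩ | ⟨c, hc, h5, rfl⟩
      · left; left
        rw [dt_v4m, v44_apply, v44_apply, del_self, del_ne hj.symm, del_ne none_ne_zero.symm] at h3
        have : some 0 = j := by
          by_contra h6
          rw [del_ne h6] at h3
          omega
        rw [← this]; rfl
      · right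
        refine ⟨c, ⟨hc, h5, ?_⟩, oc_eq hc.1⟩
        by_contra h6
        rw [dt_v4m, oct2_apply, oct2_apply] at h3
        simp [ind, h5, h6] at h3
    · have h5 : dt (s5 none - x) (v4m none (some 0)) = 16 := by
        rw [dt_sub_left, h3, dt_comm, dt_v4m_s5 none_ne_zero.symm]; rfl
      rcases even552 (x := s5 none - x) (by rw [nrm_sub, nrm_s5, dt_comm, h2, h1]; rfl)
        (by rw [dt_sub_left, dt_self, nrm_s5, h2]; rfl) (by
          show ((s5 none).1 none - x.1 none) % 2 = 0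
          rw [s5_apply]; omega) with ⟨j, hj, h6⟩ | ⟨c, hc, -, h6⟩
      · left; right
        refine ⟨j, ⟨hj, ?_⟩, ?_⟩
        · rintro rfl
          rw [h6, dt_v4m, v44_apply, v44_apply, del_self, del_self, del_ne hj.symm,
            del_ne hj] at h5
          omega
        · rw [← s5_sub_v44 none, ← h6]; simp
      · exfalso
        rw [h6, dt_v4m, oct2_apply, oct2_apply] at h5
        unfold ind at h5
        split_ifs at h5 <;> omega
  · rintro ((rfl | ⟨j, ⟨h1, h2⟩, rfl⟩) | ⟨c, ⟨hc, h1, h2⟩, rfl⟩)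
    · refine ⟨nrm_v44 none_ne_zero, dt_v44_s5 none_ne_zero.symm, ?_⟩
      rw [dt_v4m, v44_apply, v44_apply, del_self, del_self, del_ne none_ne_zero,
        del_ne none_ne_zero.symm]; rfl
    · refine ⟨nrm_m3 _, dt_m3_s5 h1, ?_⟩
      rw [dt_v4m, m3_apply, m3_apply, del_ne (Ne.symm h1), del_ne (Ne.symm h2)]; rfl
    · rw [oc_eq hc.1]
      refine ⟨nrm_octad hc, dt_oct2_s5 hc h1, ?_⟩
      rw [dt_v4m, oct2_apply, oct2_apply]; simp [ind, h1, h2]

theorem ncard_hsSet : hsSet.ncard = 100 := by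
  rw [hsSet_eq, Set.ncard_union_eq _ (Set.toFinite _) (Set.toFinite _),
    Set.ncard_union_eq _ (Set.toFinite _) (Set.toFinite _), Set.ncard_singleton,
    Set.ncard_image_of_injective _ fun _ _ => m3_inj, ncard_ne_two none_ne_zero,
    Set.ncard_image_of_injOn (oc_injOn.mono fun c hc => hc.1.1),
    Golay.ncard_octads_mem_mem none_ne_zero]
  · rw [Set.disjoint_left]
    rintro _ rfl ⟨j, -, h⟩
    have := congrArg (fun x : leechLattice => x.1 none) h
    simp only [m3_apply, v44_apply] at this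
    omega
  · rw [Set.disjoint_left]
    rintro _ (rfl | ⟨j, -, rfl⟩) ⟨c, ⟨hc, h1, -⟩, h⟩
    · rw [oc_eq hc.1] at h
      have := congrArg (fun x : leechLattice => x.1 none) h
      simp only [oct2_apply, v44_apply, ind, h1, if_true] at this
      omega
    · rw [oc_eq hc.1] at h
      have := congrArg (fun x : leechLattice => x.1 none) h
      simp only [oct2_apply, m3_apply] at this
      omega

/-- the standard copy of the Higman–Sims group in `Co0` -/
abbrev HS0 : Subgroup Co0 := stabilizer Co0 (s5 none) ⊓ stabilizer Co0 (v4m none (some 0))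

/-- the standard copy of the McLaughlin group in `Co0` -/
abbrev McL0 : Subgroup Co0 := stabilizer Co0 (s5 none) ⊓ stabilizer Co0 (v44 none (some 0))

theorem hs_inf_stab : HS0 ⊓ stabilizer Co0 (v44 none (some 0)) = pm Spor.M22 := by
  ext g
  rw [mem_pm22_iff]
  exact ⟨fun h => ⟨h.1.1, h.2, h.1.2⟩, fun h => ⟨⟨h.1, h.2.2⟩, h.2.1⟩⟩

theorem mcl_inf_stab : McL0 ⊓ stabilizer Co0 (v4m none (some 0)) = pm Spor.M22 := by
  ext g
  rw [mem_pm22_iff]
  exact ⟨fun h => ⟨h.1.1, h.1.2, h.2⟩, fun h => ⟨⟨h.1, h.2.1⟩, h.2.2⟩⟩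

theorem smul_mem_hsSet {g : Co0} (hg : g ∈ HS0) {z : leechLattice} (hz : z ∈ hsSet) :
    g • z ∈ hsSet := by
  refine ⟨by rw [nrm_smul, hz.1], ?_, ?_⟩
  · conv_lhs => rw [← show g • s5 none = s5 none from hg.1]
    rw [dt_smul, hz.2.1]
  · conv_lhs => rw [← show g • v4m none (some 0) = v4m none (some 0) from hg.2]
    rw [dt_smul, hz.2.2]

theorem hs_trans {z : leechLattice} (hz : z ∈ hsSet) : ∃ g ∈ HS0, g • z = v44 none (some 0) := by
  obtain ⟨h1, h2, h3⟩ := hz
  have h4 := nrm_v4m none_ne_zero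
  have h5 := dt_v4m_s5 none_ne_zero.symm
  obtain ⟨g, e1, e2, e3⟩ := trans864m (u := z + v4m none (some 0)) (s := s5 none)
    (x := v4m none (some 0)) (by rw [nrm_add, h1, h3, h4]; rfl) (nrm_s5 _)
    (by rw [dt_comm, dt_add_left, h2, h5]; rfl) h4
    (by rw [dt_add_right, dt_self, dt_comm, h3, h4]; rfl) h5
  refine ⟨g, ⟨e2, e3⟩, ?_⟩
  rw [co_add, e3, ← v44_add_v4m none (some 0)] at e1
  exact add_right_cancel e1

theorem card_hs0 : Nat.card HS0 = 44352000 := by
  rw [card_orbit_set HS0 (v44 none (some 0)) hsSet, ncard_hsSet, hs_inf_stab, card_pm22]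
  intro y
  constructor
  · intro hy
    obtain ⟨g, hg, e⟩ := hs_trans hy
    exact ⟨g⁻¹, inv_mem hg, by rw [← e, inv_smul_smul]⟩
  · rintro ⟨g, hg, rfl⟩
    exact smul_mem_hsSet hg (by rw [hsSet_eq]; exact Or.inl (Or.inl rfl))

end Cfsg.Lib.Leech
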