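import Cfsg.Agent.Lib.Leech.Orders

/-! Simplicity of the Higman–Sims and McLaughlin groups. -/

set_option autoImplicit false

namespace Cfsg.Lib.Leech

open Finset MulAction
open scoped Pointwise symmDiff

theorem octad_tuple {O : Finset GolayPt} (hO : O ∈ octads) {a b : GolayPt} (ha : a ∈ O)
    (hb : b ∈ O) (hab : a ≠ b) :
    ∃ x : Fin 5 → GolayPt, Function.Injective x ∧ x 0 = a ∧ x 1 = b ∧ ∀ i, x i ∈ O := by
  have h : 2 < ((O.erase a).erase b).card := by
    rw [Finset.card_erase_of_mem (by simp [hb, hab.symm]), Finset.card_erase_of_mem ha, hO.2]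
    norm_num
  obtain ⟨c, d, e, hc, hd, he, h1, h2, h3⟩ := Finset.two_lt_card_iff.mp h
  simp only [Finset.mem_erase] at hc hd he
  refine ⟨![a, b, c, d, e], ?_, rfl, rfl, fun i => ?_⟩
  · intro i j hij
    fin_cases i <;> fin_cases j <;> simp_all [eq_comm]
  · fin_cases i <;> simp_all

theorem octad_trans2 {O O' : Finset GolayPt} (hO : O ∈ octads) (hO' : O' ∈ octads)
    {a b a' b' : GolayPt} (ha : a ∈ O) (hb : b ∈ O) (hab : a ≠ b) (ha' : a' ∈ O') (hb' : b' ∈ O')
    (hab' : a' ≠ b') : ∃ σ ∈ M24, σ a = a' ∧ σ b = b' ∧ σ • O = O' := by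
  obtain ⟨x, hx, rfl, rfl, h1⟩ := octad_tuple hO ha hb hab
  obtain ⟨y, hy, rfl, rfl, h2⟩ := octad_tuple hO' ha' hb' hab'
  obtain ⟨σ, hσ, h⟩ := Golay.M24_tuple_trans le_rfl x y hx hy
  refine ⟨σ, hσ, h 0, h 1, Golay.octad_eq_of_five_le (Golay.smul_mem_octads hσ hO) hO' ?_⟩
  have h3 : (univ.image y).card = 5 := by rw [Finset.card_image_of_injective _ hy]; simp
  rw [← h3]
  refine Finset.card_le_card fun p hp => ?_
  obtain ⟨i, -, rfl⟩ := Finset.mem_image.mp hp
  exact Finset.mem_inter.mpr ⟨by rw [← h i, apply_mem_smul_iff]; exact h1 i, h2 i⟩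

theorem octad_trans_flag {O O' : Finset GolayPt} (hO : O ∈ octads) (hO' : O' ∈ octads)
    {a b a' b' p : GolayPt} (ha : a ∈ O) (hb : b ∈ O) (hab : a ≠ b) (ha' : a' ∈ O') (hb' : b' ∈ O')
    (hab' : a' ≠ b') (hp : p ∉ O) (hp' : p ∉ O') :
    ∃ σ ∈ M24, σ a = a' ∧ σ b = b' ∧ σ • O = O' ∧ σ p = p := by
  obtain ⟨σ, hσ, h1, h2, h3⟩ := octad_trans2 hO hO' ha hb hab ha' hb' hab'
  obtain ⟨τ, hτ, h4, h5⟩ := Golay.octad_fix_trans hO' (p := σ p)
    (by rw [← h3, apply_mem_smul_iff]; exact hp) hp'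
  refine ⟨τ * σ, mul_mem hτ hσ, by rw [Equiv.Perm.mul_apply, h1, h4 _ ha'],
    by rw [Equiv.Perm.mul_apply, h2, h4 _ hb'], ?_, h5⟩
  rw [mul_smul, h3]
  refine Finset.eq_of_subset_of_card_le (fun q hq => ?_) (by rw [Golay.card_perm_smul])
  obtain ⟨r, hr, rfl⟩ := Finset.mem_smul_finset.mp hq
  show τ r ∈ O'
  rwa [h4 r hr]

theorem eq_e8 {u : leechLattice} {i : GolayPt} (hu : nrm u = 64) (hi : u.1 i = 8) : u = e8 i := by
  have h := nrm_sub u (e8 i)
  rw [hu, dt_e8, hi, nrm_e8] at h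
  exact sub_eq_zero.mp (Subtype.ext (sqNorm_eq_zero h))

theorem fixed22 {u : leechLattice} (h : ∀ g ∈ pm Spor.M22, g • u = u) :
    ∃ c, ∑ k, u.1 k = u.1 none + u.1 (some 0) + 22 * c ∧
      nrm u = u.1 none ^ 2 + u.1 (some 0) ^ 2 + 22 * c ^ 2 ∧ u.1 (some 1) = c := by
  have h1 : ∀ j ∈ (univ.erase none).erase (some 0), u.1 j = u.1 (some 1) := by
    intro j hj
    simp only [Finset.mem_erase, mem_univ, and_true] at hj
    obtain ⟨σ, hσ, e1, e2, e3⟩ := Golay.M24_trans_three (p := none) (q := some 0) (r := j)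
      (p' := none) (q' := some 0) (r' := some 1) none_ne_zero hj.2.symm hj.1.symm none_ne_zero
      (by simp) (by decide)
    rw [← e3, ← permEl_apply' σ hσ u j, h _ (permEl_mem_pm hσ ⟨⟨hσ, e1⟩, e2⟩)]
  have h2 : ∀ f : GolayPt → ℤ, ∑ k, f k = f none + f (some 0) +
      ∑ k ∈ (univ.erase none).erase (some 0), f k := by
    intro f
    rw [← Finset.add_sum_erase univ f (mem_univ none), ← Finset.add_sum_erase _ f
      (a := some 0) (by simp), add_assoc]
  have h3 : ((univ.erase none).erase (some 0) : Finset GolayPt).card = 22 := by decide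
  refine ⟨u.1 (some 1), ?_, ?_, rfl⟩
  · rw [h2, Finset.sum_congr rfl h1, Finset.sum_const, h3]; simp
  · show ∑ k, u.1 k ^ 2 = _
    rw [h2, Finset.sum_congr rfl fun j hj => by rw [h1 j hj], Finset.sum_const, h3]; simp

theorem central_fixed {G : Subgroup Co0} {z : Co0} (h : ∀ g ∈ G, g * z = z * g) {x : leechLattice}
    {g : Co0} (hg : g ∈ G) (hx : g • x = x) : g • z • x = z • x := by
  rw [← mul_smul, h g hg, mul_smul, hx]

theorem pm22_fix_e8 {g : Co0} (hg : g ∈ pm Spor.M22) : g • e8 none = e8 none := by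
  obtain ⟨-, h1, h2⟩ := mem_pm22_iff.mp hg
  rw [← v44_add_v4m none (some 0), co_add, h1, h2]

theorem sq_small {a b c : ℤ} (h : 64 = a ^ 2 + b ^ 2 + 22 * c ^ 2) : -1 ≤ c ∧ c ≤ 1 := by
  constructor <;> nlinarith [sq_nonneg a, sq_nonneg b]

theorem dt_e8_s5 : dt (e8 none) (s5 none) = 40 := by
  rw [dt_s5, sum_e8, e8_apply, del_self]; rfl

theorem dt_fixed {z : Co0} {x y : leechLattice} (h : z • y = y) : dt (z • x) y = dt x y := by
  conv_lhs => rw [← h]
  rw [dt_smul]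

theorem stab3_simple {g : Co0} {x y z : leechLattice} {H : Subgroup Co0}
    (h : stabilizer Co0 (g • x) ⊓ stabilizer Co0 (g • y) ⊓ stabilizer Co0 (g • z) = H)
    (hs : IsSimpleGroup H) :
    IsSimpleGroup ↥(stabilizer Co0 x ⊓ stabilizer Co0 y ⊓ stabilizer Co0 z) ∧
      Nat.card ↥(stabilizer Co0 x ⊓ stabilizer Co0 y ⊓ stabilizer Co0 z) = Nat.card H := by
  obtain ⟨e⟩ := stab3_equiv g x y z
  subst h
  exact ⟨e.isSimpleGroup, Nat.card_congr e.toEquiv⟩

theorem stab2_simple {g : Co0} {x y : leechLattice} {H : Subgroup Co0}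
    (h : stabilizer Co0 (g • x) ⊓ stabilizer Co0 (g • y) = H) (hs : IsSimpleGroup H) :
    IsSimpleGroup ↥(stabilizer Co0 x ⊓ stabilizer Co0 y) ∧
      Nat.card ↥(stabilizer Co0 x ⊓ stabilizer Co0 y) = Nat.card H := by
  obtain ⟨e⟩ := stab2_equiv g x y
  subst h
  exact ⟨e.isSimpleGroup, Nat.card_congr e.toEquiv⟩

theorem hs_point {z : leechLattice} (hz : z ∈ hsSet) :
    IsSimpleGroup ↥(HS0 ⊓ stabilizer Co0 z) ∧ Nat.card ↥(HS0 ⊓ stabilizer Co0 z) = 443520 := by
  obtain ⟨g, hg, e⟩ := hs_trans hz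
  rw [← card_pm22]
  refine stab3_simple (g := g) ?_ simple_pm22
  rw [e, show g • s5 none = s5 none from hg.1,
    show g • v4m none (some 0) = v4m none (some 0) from hg.2, hs_inf_stab]

theorem pm22_le_hs : pm Spor.M22 ≤ HS0 := hs_inf_stab ▸ inf_le_left

theorem pm22_le_mcl : pm Spor.M22 ≤ McL0 := mcl_inf_stab ▸ inf_le_left

theorem simple_hs0 : IsSimpleGroup HS0 := by
  refine simple_of_ambient HS0 (p := 11) (n := [4, 25].prod) (by norm_num)
    (by rw [card_hs0]; norm_num) ?_ ?_ (primePow_check 11 _ (by decide) (by decide) (by decide)) ?_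
  · intro K hK h11
    have hsq : ¬ 11 ^ 2 ∣ Nat.card HS0 := by rw [card_hs0]; norm_num
    have h22 := hK.simple_le (by norm_num) h11 hsq pm22_le_hs simple_pm22
      (by rw [card_pm22]; norm_num)
    obtain ⟨O, hO⟩ := Set.nonempty_of_ncard_ne_zero
      (s := {c | c ∈ octads ∧ none ∈ c ∧ some 0 ∈ c})
      (by rw [Golay.ncard_octads_mem_mem none_ne_zero]; norm_num)
    obtain ⟨h1, h2⟩ := hs_point (z := oc O) (by rw [hsSet_eq]; exact Or.inr ⟨O, hO, rfl⟩)
    refine le_of_large_orbit hK.le (oc O)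
      (hK.simple_le (by norm_num) h11 hsq inf_le_left h1 (by rw [h2]; norm_num))
      (oc '' {c | c ∈ octads ∧ none ∈ c ∧ some 0 ∈ c}) ?_ ?_
    · rintro _ ⟨O', hO', rfl⟩
      obtain ⟨σ, hσ, e1, e2, e3⟩ := octad_trans2 hO.1 hO'.1 hO.2.1 hO.2.2 none_ne_zero
        hO'.2.1 hO'.2.2 none_ne_zero
      refine ⟨permEl σ hσ, h22 (permEl_mem_pm hσ ⟨⟨hσ, e1⟩, e2⟩), ?_⟩
      subst e3
      rw [oc_eq hO.1.1, permEl_oct2, oc_eq]
    · rw [h2, card_hs0, Set.ncard_image_of_injOn (oc_injOn.mono fun c hc => hc.1.1),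
        Golay.ncard_octads_mem_mem none_ne_zero]
      norm_num
  · intro K hK h11
    have h := hK.card_mul_dvd h11 pm22_le_hs simple_pm22 (by rw [card_pm22]; norm_num)
    rw [card_pm22, card_hs0] at h
    exact Nat.dvd_of_mul_dvd_mul_left (by norm_num : 0 < 443520) h
  · intro z hz hc
    obtain ⟨c, h1, h2, -⟩ := fixed22 (u := z • e8 none) fun g hg =>
      central_fixed hc (pm22_le_hs hg) (pm22_fix_e8 hg)
    have h3 := dt_fixed (x := e8 none) (show z • s5 none = s5 none from hz.1)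
    have h4 := dt_fixed (x := e8 none) (show z • v4m none (some 0) = _ from hz.2)
    rw [dt_e8_s5, dt_s5] at h3
    rw [dt_v4m, dt_v4m, e8_apply, e8_apply, del_self, del_ne none_ne_zero.symm] at h4
    rw [nrm_smul, nrm_e8] at h2
    have h5 := sq_small h2
    have h6 : z • e8 none = e8 none := eq_e8 (by rw [nrm_smul, nrm_e8]) (by omega)
    refine eq_one_of_central simple_pm22 (by rw [card_pm22]; norm_num) ?_
      fun g hg => hc g (pm22_le_hs hg)
    refine mem_pm22_iff.mpr ⟨hz.1, ?_, hz.2⟩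
    rw [← v44_add_v4m none (some 0), co_add, show z • v4m none (some 0) = _ from hz.2] at h6
    exact add_right_cancel h6

theorem mcl_point {z : leechLattice} (h1 : nrm z = 32) (h2 : dt z (s5 none) = 16)
    (h3 : dt z (v44 none (some 0)) = 0) :
    IsSimpleGroup ↥(McL0 ⊓ stabilizer Co0 z) ∧ Nat.card ↥(McL0 ⊓ stabilizer Co0 z) = 443520 := by
  have h4 := nrm_v44 none_ne_zero
  have h5 := dt_v44_s5 none_ne_zero.symm
  obtain ⟨g, e1, e2, e3⟩ := trans864p (u := v44 none (some 0) + z) (s := s5 none)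
    (x := v44 none (some 0)) (by rw [nrm_add, h1, dt_comm, h3, h4]; rfl) (nrm_s5 _)
    (by rw [dt_comm, dt_add_left, h2, h5]; rfl) h4
    (by rw [dt_add_right, dt_self, dt_comm, h3, h4]; rfl) h5
  rw [co_add, e3, ← v44_add_v4m none (some 0)] at e1
  rw [← card_pm22]
  refine stab3_simple (g := g) ?_ simple_pm22
  rw [add_left_cancel e1, e2, e3, mcl_inf_stab]

theorem ncard_octads_176 : {c | c ∈ octads ∧ none ∉ c ∧ some 0 ∈ c}.ncard = 176 := by
  have h1 := Golay.ncard_octads_mem (some 0)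
  have h2 : {c | c ∈ octads ∧ some 0 ∈ c} = {c | c ∈ octads ∧ none ∈ c ∧ some 0 ∈ c} ∪
      {c | c ∈ octads ∧ none ∉ c ∧ some 0 ∈ c} := by
    ext c; simp only [Set.mem_ofPred_eq, Set.mem_union]; tauto
  rw [h2, Set.ncard_union_eq _ (Set.toFinite _) (Set.toFinite _),
    Golay.ncard_octads_mem_mem none_ne_zero] at h1
  · omega
  · rw [Set.disjoint_left]
    rintro c ⟨-, h3, -⟩ ⟨-, h4, -⟩
    exact h4 h3

theorem sg_m3_inj {c d : Finset GolayPt} (hc : c ∈ GC) (hd : d ∈ GC) {j k : GolayPt}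
    (h : sg c • m3 j = sg d • m3 k) : c = d ∧ j = k := by
  have h1 : j = k := by
    by_contra hjk
    have := congrArg (fun x : leechLattice => x.1 j) h
    simp only [sg_eq hc, sg_eq hd, sgnEl_apply, m3_apply, del_self, del_ne hjk, sgn] at this
    split_ifs at this <;> omega
  subst h1
  exact ⟨sg_smul_injOn (m3_ne_zero j) hc hd h, rfl⟩

theorem sum_sgn_m3 {c : Finset GolayPt} (hc : c ∈ GC) (j : GolayPt) :
    ∑ k, (sgnEl c hc • m3 j).1 k = 24 - 2 * c.card - 4 * sgn c j := by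
  simp only [sgnEl_apply, m3_apply, mul_sub, mul_one, Finset.sum_sub_distrib]
  have h1 : ∑ i, sgn c i = 24 - 2 * c.card := by
    simp only [sgn_eq, Finset.sum_sub_distrib, ← Finset.mul_sum, sum_ind, sum_const_pt]
    ring
  have h2 : ∑ i, sgn c i * (4 * del j i) = 4 * sgn c j := by
    rw [← sum_mul_del (sgn c) j, Finset.mul_sum]
    exact Finset.sum_congr rfl fun i _ => by ring
  rw [h1, h2]

theorem simple_mcl0 : IsSimpleGroup McL0 := by
  classical
  refine simple_of_ambient McL0 (p := 11) (n := [81, 25].prod) (by norm_num)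
    (by rw [card_mcl0]; norm_num) ?_ ?_
    (primePow_check 11 _ (by decide) (by decide +kernel) (by decide)) ?_
  · intro K hK h11
    have hsq : ¬ 11 ^ 2 ∣ Nat.card McL0 := by rw [card_mcl0]; norm_num
    have h22 := hK.simple_le (by norm_num) h11 hsq pm22_le_mcl simple_pm22
      (by rw [card_pm22]; norm_num)
    let A : Finset (Finset GolayPt) := univ.filter fun c => c ∈ octads ∧ none ∉ c ∧ some 0 ∈ c
    have hA : A.card = 176 := by
      rw [← ncard_octads_176, ← Set.ncard_coe_finset]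
      congr 1
      ext c; simp [A]
    let P := A.sigma fun c => c.erase (some 0)
    have hP : P.card = 176 * 7 := by
      rw [Finset.card_sigma, Finset.sum_congr rfl (g := fun _ => 7) fun c hc => by
        have h := (Finset.mem_filter.mp hc).2
        rw [Finset.card_erase_of_mem h.2.2, h.1.2]]
      rw [Finset.sum_const, hA]; rfl
    have hmem : ∀ q ∈ P, (q.1 ∈ octads ∧ none ∉ q.1 ∧ some 0 ∈ q.1) ∧ q.2 ≠ some 0 ∧ q.2 ∈ q.1 := by
      intro q hq
      simpa [P, A] using hq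
    obtain ⟨⟨O, j⟩, hq⟩ := Finset.card_pos.mp (show 0 < P.card by rw [hP]; norm_num)
    obtain ⟨⟨hO, hO1, hO2⟩, hj1, hj2⟩ := hmem _ hq
    simp only at hO hO1 hO2 hj1 hj2
    have hjn : (none : GolayPt) ≠ j := fun h => hO1 (h ▸ hj2)
    obtain ⟨h1, h2⟩ := mcl_point (z := sg O • m3 j) (by rw [nrm_smul, nrm_m3])
      (by
        rw [sg_eq hO.1, dt_s5, sum_sgn_m3, sgnEl_apply, m3_apply, del_ne hjn, hO.2]
        simp [sgn, hO1, hj2])
      (by
        rw [sg_eq hO.1, dt_v44, sgnEl_apply, sgnEl_apply, m3_apply, m3_apply, del_ne hjn,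
          del_ne hj1.symm]
        simp [sgn, hO1, hO2])
    refine le_of_large_orbit hK.le (sg O • m3 j)
      (hK.simple_le (by norm_num) h11 hsq inf_le_left h1 (by rw [h2]; norm_num))
      ((fun q : Σ _ : Finset GolayPt, GolayPt => sg q.1 • m3 q.2) '' (P : Set _)) ?_ ?_
    · rintro _ ⟨⟨O', j'⟩, hq', rfl⟩
      obtain ⟨⟨hO', hO1', hO2'⟩, hj1', hj2'⟩ := hmem _ hq'
      simp only at hO' hO1' hO2' hj1' hj2'
      obtain ⟨σ, hσ, e1, e2, e3, e4⟩ := octad_trans_flag hO hO' hO2 hj2 hj1.symm hO2' hj2'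
        hj1'.symm hO1 hO1'
      refine ⟨permEl σ hσ, h22 (permEl_mem_pm hσ ⟨⟨hσ, e4⟩, e1⟩), ?_⟩
      subst e3
      simp only
      rw [sg_eq hO.1, sg_eq hO'.1, ← mul_smul, permEl_sgnEl, mul_smul, permEl_m3, e2]
    · rw [h2, card_mcl0, Set.ncard_image_of_injOn, Set.ncard_coe_finset, hP]
      · norm_num
      · rintro ⟨c, k⟩ hc ⟨d, l⟩ hd h
        obtain ⟨rfl, rfl⟩ := sg_m3_inj (hmem _ hc).1.1.1 (hmem _ hd).1.1.1 h
        rfl
  · intro K hK h11
    have h := hK.card_mul_dvd h11 pm22_le_mcl simple_pm22 (by rw [card_pm22]; norm_num)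
    rw [card_pm22, card_mcl0] at h
    exact Nat.dvd_of_mul_dvd_mul_left (by norm_num : 0 < 443520) h
  · intro z hz hc
    obtain ⟨c, h1, h2, -⟩ := fixed22 (u := z • e8 none) fun g hg =>
      central_fixed hc (pm22_le_mcl hg) (pm22_fix_e8 hg)
    have h3 := dt_fixed (x := e8 none) (show z • s5 none = s5 none from hz.1)
    have h4 := dt_fixed (x := e8 none) (show z • v44 none (some 0) = _ from hz.2)
    rw [dt_e8_s5, dt_s5] at h3
    rw [dt_v44, dt_v44, e8_apply, e8_apply, del_self, del_ne none_ne_zero.symm] at h4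
    rw [nrm_smul, nrm_e8] at h2
    have h5 := sq_small h2
    have h6 : z • e8 none = e8 none := eq_e8 (by rw [nrm_smul, nrm_e8]) (by omega)
    refine eq_one_of_central simple_pm22 (by rw [card_pm22]; norm_num) ?_
      fun g hg => hc g (pm22_le_mcl hg)
    refine mem_pm22_iff.mpr ⟨hz.1, hz.2, ?_⟩
    rw [← v44_add_v4m none (some 0), co_add, show z • v44 none (some 0) = _ from hz.2] at h6
    exact add_left_cancel h6

theorem mcl_general {s x : leechLattice} (hs : nrm s = 48) (hx : nrm x = 32) (h : dt x s = 24) :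
    IsSimpleGroup ↥(stabilizer Co0 s ⊓ stabilizer Co0 x) ∧
      Nat.card ↥(stabilizer Co0 s ⊓ stabilizer Co0 x) = 898128000 := by
  obtain ⟨g, e1, e2⟩ := trans64p hs hx h
  rw [← card_mcl0]
  exact stab2_simple (g := g) (by rw [e1, e2]) simple_mcl0

theorem hs_general {s x : leechLattice} (hs : nrm s = 48) (hx : nrm x = 32) (h : dt x s = 16) :
    IsSimpleGroup ↥(stabilizer Co0 s ⊓ stabilizer Co0 x) ∧
      Nat.card ↥(stabilizer Co0 s ⊓ stabilizer Co0 x) = 44352000 := by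
  obtain ⟨g, e1, e2⟩ := trans64m hs hx h
  rw [← card_hs0]
  exact stab2_simple (g := g) (by rw [e1, e2]) simple_hs0

theorem stab_inf_add (v w : leechLattice) :
    stabilizer Co0 v ⊓ stabilizer Co0 w = stabilizer Co0 v ⊓ stabilizer Co0 (v + w) := by
  ext g
  simp only [Subgroup.mem_inf, mem_stabilizer_iff, co_add]
  constructor
  · rintro ⟨h1, h2⟩; exact ⟨h1, by rw [h1, h2]⟩
  · rintro ⟨h1, h2⟩; rw [h1] at h2; exact ⟨h1, add_left_cancel h2⟩

end Cfsg.Lib.Leech
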