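import Cfsg.Agent.Lib.Leech.SimpleA

/-! Simplicity of the Conway groups. -/

set_option autoImplicit false

namespace Cfsg.Lib.Leech

open Finset MulAction
open scoped Pointwise symmDiff

theorem dvd_of_mul_dvd' {a b c n : ℕ} (ha : 0 < a) (h : a * n ∣ c) (hc : c = a * b) : n ∣ b :=
  Nat.dvd_of_mul_dvd_mul_left ha (hc ▸ h)

theorem dvd_of_gcd3 {a b c d n : ℕ} (h1 : n ∣ a) (h2 : n ∣ b) (h3 : n ∣ c)
    (h : Nat.gcd a (Nat.gcd b c) = d) : n ∣ d :=
  h ▸ Nat.dvd_gcd h1 (Nat.dvd_gcd h2 h3)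

theorem dvd_of_lcm3 {a b c d n : ℕ} (h1 : a ∣ n) (h2 : b ∣ n) (h3 : c ∣ n)
    (h : Nat.lcm a (Nat.lcm b c) = d) : d ∣ n :=
  h ▸ Nat.lcm_dvd h1 (Nat.lcm_dvd h2 h3)

theorem exists_two_pts : ∀ j : GolayPt, ∃ a b : GolayPt, a ≠ b ∧ a ≠ none ∧ b ≠ none ∧ a ≠ j ∧
    b ≠ j := by decide +kernel

theorem le_of_large_orbit' {Γ X : Type*} [Group Γ] [Finite Γ] [MulAction Γ X] {K G : Subgroup Γ}
    (hle : K ≤ G) (x : X)
    (hst : G ⊓ MulAction.stabilizer Γ x ≤ K) (T : Set X) (hT : ∀ y ∈ T, ∃ k ∈ K, k • x = y)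
    {a b c : ℕ} (ha : T.ncard = a) (hb : Nat.card ↥(G ⊓ MulAction.stabilizer Γ x) = b)
    (hc : Nat.card G = c) (h : c < 2 * (a * b)) : G ≤ K :=
  le_of_large_orbit hle x hst T hT (by rw [ha, hb, hc]; exact h)

theorem pm_mono {H K : Subgroup (Equiv.Perm GolayPt)} (h : H ≤ K) : pm H ≤ pm K := by
  intro g hg
  obtain ⟨σ, hσ, h1, rfl⟩ := mem_pm.mp hg
  exact permEl_mem_pm hσ (h h1)

theorem fixed23 {u : leechLattice} (h : ∀ g ∈ pm Spor.M23, g • u = u) :
    ∃ c, ∑ k, u.1 k = u.1 none + 23 * c ∧ nrm u = u.1 none ^ 2 + c ^ 2 + 22 * c ^ 2 := by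
  obtain ⟨c, h1, h2, h3⟩ := fixed22 (u := u) fun g hg => h g (pm_mono inf_le_left hg)
  obtain ⟨σ, hσ, e1, e2⟩ := Golay.M24_trans_two (p := none) (q := some 0) (p' := none)
    (q' := some 1) none_ne_zero (by simp)
  have h4 : u.1 (some 0) = c := by
    rw [← h3, ← e2, ← permEl_apply' σ hσ u (some 0), h _ (permEl_mem_pm hσ ⟨hσ, e1⟩)]
  exact ⟨c, by omega, by rw [h2, h4]⟩

theorem pm23_le_co3 : pm Spor.M23 ≤ stabilizer Co0 (s5 none) := stab_e8_s5 ▸ inf_le_right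

theorem pm23_le_co2 : pm Spor.M23 ≤ stabilizer Co0 (m3 none) := stab_e8_m3 ▸ inf_le_right

theorem pm23_le_e8 : pm Spor.M23 ≤ stabilizer Co0 (e8 none) := stab_e8_m3 ▸ inf_le_left

/-- An element of a Higman–Sims subgroup of `Co3` interchanging `x` and `s - x`. -/
theorem exists_swap {x : leechLattice} (hx : nrm x = 32) (h : dt x (s5 none) = 24) :
    ∃ (k : Co0) (w : leechLattice), nrm w = 32 ∧ dt w (s5 none) = 16 ∧ k • s5 none = s5 none ∧
      k • w = w ∧ k • x = s5 none - x := by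
  obtain ⟨D, hD⟩ := Set.nonempty_of_ncard_ne_zero (s := dodecads)
    (by rw [ncard_dodecads]; norm_num)
  obtain ⟨a, ha, b, hb, hab⟩ := Finset.one_lt_card.mp (show 1 < D.card by rw [hD.2]; norm_num)
  obtain ⟨j, hj⟩ := Finset.card_pos.mp (show 0 < Dᶜ.card by rw [card_compl_pt, hD.2]; norm_num)
  have hj' : j ∉ D := Finset.mem_compl.mp hj
  have h1 : nrm (oct2 D hD.1) = 48 := by rw [nrm_oct2, hD.2]; rfl
  have h2 : dt (m3 j) (oct2 D hD.1) = 24 := by
    rw [dt_comm, dt_m3, sum_oct2, oct2_apply, hD.2]; simp [ind, hj']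
  obtain ⟨g, e1, e2⟩ := trans64p h1 (nrm_m3 j) h2
  obtain ⟨g', e3, e4⟩ := trans64p (nrm_s5 none) hx h
  have e5 : (g'⁻¹ * g) • oct2 D hD.1 = s5 none := by
    rw [mul_smul, e1, inv_smul_eq_iff, e3]
  have e6 : (g'⁻¹ * g) • m3 j = x := by rw [mul_smul, e2, inv_smul_eq_iff, e4]
  generalize g'⁻¹ * g = t at e5 e6
  have f1 : sgnEl Dᶜ (compl_mem_GC hD.1) • oct2 D hD.1 = oct2 D hD.1 :=
    sgnEl_fix _ _ fun i hi => by simp [oct2_apply, ind, Finset.mem_compl.mp hi]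
  have f2 : sgnEl Dᶜ (compl_mem_GC hD.1) • v44 a b = v44 a b :=
    sgnEl_fix _ _ fun i hi => by
      have hi' := Finset.mem_compl.mp hi
      rw [v44_apply, del_ne (ne_of_mem_of_not_mem ha hi').symm,
        del_ne (ne_of_mem_of_not_mem hb hi').symm]; rfl
  have f3 : sgnEl Dᶜ (compl_mem_GC hD.1) • m3 j = oct2 D hD.1 - m3 j :=
    Subtype.ext (funext fun i => by
      show _ = (oct2 D hD.1).1 i - (m3 j).1 i
      rw [sgnEl_apply, oct2_apply, m3_apply]
      by_cases hi : i ∈ D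
      · rw [del_ne (ne_of_mem_of_not_mem hi hj')]; simp [sgn, ind, hi]
      · simp [sgn, ind, hi])
  refine ⟨t * sgnEl Dᶜ (compl_mem_GC hD.1) * t⁻¹, t • v44 a b, by rw [nrm_smul, nrm_v44 hab], ?_,
    ?_, ?_, ?_⟩
  · rw [← e5, dt_smul, dt_comm, dt_v44, oct2_apply, oct2_apply]; simp [ind, ha, hb]
  · rw [← e5, mul_smul, inv_smul_smul, mul_smul, f1]
  · rw [mul_smul, inv_smul_smul, mul_smul, f2]
  · rw [← e6, mul_smul, inv_smul_smul, mul_smul, f3, co_sub, e5]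

theorem simple_co3_0 : IsSimpleGroup (stabilizer Co0 (s5 none)) := by
  have hc := card_co3 (nrm_s5 none)
  refine simple_of_ambient _ (p := 11) (n := [2, 3].prod) (by norm_num)
    (by rw [hc]; norm_num) ?_ ?_ (primePow_check 11 _ (by decide) (by decide) (by decide)) ?_
  · intro K hK h11
    have hsq : ¬ 11 ^ 2 ∣ Nat.card (stabilizer Co0 (s5 none)) := by rw [hc]; norm_num
    have h23 := hK.simple_le (by norm_num) h11 hsq pm23_le_co3 simple_pm23
      (by rw [card_pm23]; norm_num)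
    obtain ⟨O, hO⟩ := Set.nonempty_of_ncard_ne_zero (s := {c | c ∈ octads ∧ none ∈ c})
      (by rw [Golay.ncard_octads_mem]; norm_num)
    obtain ⟨h1, h2⟩ := mcl_general (nrm_s5 none) (nrm_octad hO.1) (dt_oct2_s5 hO.1 hO.2)
    obtain ⟨k, w, k1, k2, k3, k4, k5⟩ := exists_swap (nrm_octad hO.1) (dt_oct2_s5 hO.1 hO.2)
    obtain ⟨h3, h4⟩ := hs_general (nrm_s5 none) k1 k2
    have hk : k ∈ K := hK.simple_le (by norm_num) h11 hsq inf_le_left h3
      (by rw [h4]; norm_num) ⟨k3, k4⟩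
    have key : ∀ O' ∈ {c | c ∈ octads ∧ none ∈ c}, ∃ g ∈ K, g • s5 none = s5 none ∧
        g • oct2 O hO.1.1 = oc O' := by
      intro O' hO'
      obtain ⟨a, ha, ha'⟩ := Finset.exists_mem_ne (s := O) (by rw [hO.1.2]; norm_num) none
      obtain ⟨b, hb, hb'⟩ := Finset.exists_mem_ne (s := O') (by rw [hO'.1.2]; norm_num) none
      obtain ⟨σ, hσ, e1, -, e3⟩ := octad_trans2 hO.1 hO'.1 hO.2 ha ha'.symm hO'.2 hb hb'.symm
      refine ⟨permEl σ hσ, h23 (permEl_mem_pm hσ ⟨hσ, e1⟩), by rw [permEl_s5, e1], ?_⟩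
      subst e3
      rw [permEl_oct2, oc_eq]
    refine le_of_large_orbit' hK.le (oct2 O hO.1.1)
      (hK.simple_le (by norm_num) h11 hsq inf_le_left h1 (by rw [h2]; norm_num))
      (oc '' {c | c ∈ octads ∧ none ∈ c} ∪
        (fun y => s5 none - y) '' (oc '' {c | c ∈ octads ∧ none ∈ c})) ?_ (a := 253 + 253) ?_ h2 hc
      (by norm_num)
    · rintro _ (⟨O', hO', rfl⟩ | ⟨_, ⟨O', hO', rfl⟩, rfl⟩)
      · obtain ⟨g, hg, -, e⟩ := key O' hO'
        exact ⟨g, hg, e⟩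
      · obtain ⟨g, hg, e', e⟩ := key O' hO'
        exact ⟨g * k, mul_mem hg hk, by rw [mul_smul, k5, co_sub, e', e]⟩
    · rw [Set.ncard_union_eq _ (Set.toFinite _) (Set.toFinite _),
        Set.ncard_image_of_injective _ sub_right_injective,
        Set.ncard_image_of_injOn (oc_injOn.mono fun c hc => hc.1.1), Golay.ncard_octads_mem]
      · rw [Set.disjoint_left]
        rintro _ ⟨c, hc, rfl⟩ ⟨_, ⟨d, hd, rfl⟩, h⟩
        have h5 : (s5 none).1 none - (oc d).1 none = (oc c).1 none :=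
          congrArg (fun x : leechLattice => x.1 none) h
        rw [oc_eq hc.1.1, oc_eq hd.1.1, oct2_apply, oct2_apply, s5_apply] at h5
        omega
  · intro K hK h11
    have h1 := hK.card_mul_dvd h11 pm23_le_co3 simple_pm23 (by rw [card_pm23]; norm_num)
    have h2 := hK.card_mul_dvd h11 inf_le_left simple_mcl0 (by rw [card_mcl0]; norm_num)
    have h3 := hK.card_mul_dvd h11 inf_le_left simple_hs0 (by rw [card_hs0]; norm_num)
    rw [card_pm23, hc] at h1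
    rw [card_mcl0, hc] at h2
    rw [card_hs0, hc] at h3
    have h4 : Nat.card K ∣ 48600 := dvd_of_mul_dvd' (by norm_num) h1 (by norm_num)
    have h5 : Nat.card K ∣ 552 := dvd_of_mul_dvd' (by norm_num) h2 (by norm_num)
    have h6 : Nat.card K ∣ 11178 := dvd_of_mul_dvd' (by norm_num) h3 (by norm_num)
    exact dvd_of_gcd3 h4 h5 h6 (by decide +kernel)
  · intro z hz hc
    obtain ⟨c, h1, h2⟩ := fixed23 (u := z • e8 none) fun g hg =>
      central_fixed hc (pm23_le_co3 hg) (pm23_le_e8 hg)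
    have h3 := dt_fixed (x := e8 none) (show z • s5 none = s5 none from hz)
    rw [dt_e8_s5, dt_s5] at h3
    rw [nrm_smul, nrm_e8] at h2
    have h5 := sq_small h2
    have h6 : z • e8 none = e8 none := eq_e8 (by rw [nrm_smul, nrm_e8]) (by omega)
    exact eq_one_of_central simple_pm23 (by rw [card_pm23]; norm_num)
      (stab_e8_s5 ▸ ⟨h6, hz⟩) fun g hg => hc g (pm23_le_co3 hg)

theorem simple_co3 {x : leechLattice} (hx : nrm x = 48) : IsSimpleGroup (stabilizer Co0 x) := by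
  obtain ⟨g, hg⟩ := trans48 hx
  obtain ⟨e⟩ := stab_equiv g x
  rw [hg] at e
  have := simple_co3_0
  exact e.isSimpleGroup

end Cfsg.Lib.Leech
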