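import Cfsg.Agent.Lib.Leech.SimpleB

/-! Simplicity of Co2. -/

set_option autoImplicit false

namespace Cfsg.Lib.Leech

open Finset MulAction
open scoped Pointwise symmDiff

theorem exists_order11 : ∃ σ ∈ Spor.M22, ∀ c ∈ GC, none ∉ c → some 0 ∉ c → σ • c = c → c = ∅ := by
  obtain ⟨σ, hσ, hr⟩ := Golay.I_stabG (inv := []) (F := 8388609)
    (Golay.I_M24 (p := 983435072843990828779021698901151808) (by decide +kernel))
    (by decide +kernel)
  refine ⟨σ⁻¹, inv_mem (Golay.M22_eq ▸ hσ), ?_⟩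
  refine Golay.forall_cwords (fun c => none ∉ c → some 0 ∉ c → σ⁻¹ • c = c → c = ∅)
    (fun m => PC.tb m 23 || PC.tb m 0 ||
      Bool.not (Nat.beq (PC.pre 5 24 983435072843990828779021698901151808 m) m) || Nat.beq m 0)
    ?_ (by decide +kernel)
  intro n _ h h1 h2 h3
  rw [Golay.mem_fs, ← PC.tb_eq] at h1 h2
  rw [← Golay.R.fs_pre hr] at h3
  have h4 := Golay.eq_of_fs_eq (PC.pre_lt _ _ _ _) (Golay.cw_lt n) h3
  rw [h4] at h
  have h5 : PC.tb (Golay.cw n) 23 = false := Bool.eq_false_iff.mpr h1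
  have h6 : PC.tb (Golay.cw n) 0 = false := Bool.eq_false_iff.mpr h2
  rw [h5, h6, Nat.beq_refl] at h
  simp only [Bool.or_self, Bool.not_true, Bool.false_or] at h
  rw [Nat.eq_of_beq_eq_true h, Golay.fs_zero]

theorem sgnEl_inv (c : Finset GolayPt) (hc : c ∈ GC) : (sgnEl c hc)⁻¹ = sgnEl c hc := by
  rw [inv_eq_iff_mul_eq_one, sgnEl_mul]
  simp only [symmDiff_self, Finset.bot_eq_empty, sgnEl_empty]

theorem sgnEl_v44 {c : Finset GolayPt} (hc : c ∈ GC) {a b : GolayPt} (ha : a ∉ c) (hb : b ∉ c) :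
    sgnEl c hc • v44 a b = v44 a b :=
  sgnEl_fix _ _ fun i hi => by
    rw [v44_apply, del_ne (ne_of_mem_of_not_mem hi ha), del_ne (ne_of_mem_of_not_mem hi hb)]; rfl

theorem sgn_mem_of_nrmIn {K : Subgroup Co0} (hK : NrmIn K (stabilizer Co0 (v44 none (some 0))))
    (h22 : pm Spor.M22 ≤ K) {c : Finset GolayPt} (hc : c ∈ GC) (h1 : none ∉ c) (h2 : some 0 ∉ c) :
    sgnEl c hc ∈ K := by
  obtain ⟨σ, hσ, hfix⟩ := exists_order11
  obtain ⟨⟨hσ1, hσ2⟩, hσ3⟩ := mem_M22.mp hσ
  let E := {d : Finset GolayPt // d ∈ GC ∧ none ∉ d ∧ some 0 ∉ d}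
  let φ : E → E := fun d => ⟨d.1 ∆ (σ • d.1), symmDiff_mem_GC d.2.1 (smul_mem_GC hσ1 d.2.1), by
      have := apply_mem_smul_iff σ d.1 none
      rw [hσ2] at this
      simp [Finset.mem_symmDiff, this, d.2.2.1], by
      have := apply_mem_smul_iff σ d.1 (some 0)
      rw [hσ3] at this
      simp [Finset.mem_symmDiff, this, d.2.2.2]⟩
  have hinj : Function.Injective φ := by
    intro d e h
    have h3 : d.1 ∆ (σ • d.1) = e.1 ∆ (σ • e.1) := congrArg Subtype.val h
    have h4 := hfix (d.1 ∆ e.1) (symmDiff_mem_GC d.2.1 e.2.1)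
      (by simp [Finset.mem_symmDiff, d.2.2.1, e.2.2.1])
      (by simp [Finset.mem_symmDiff, d.2.2.2, e.2.2.2]) (by
        rw [Golay.smul_symmDiff_perm]
        ext i
        have : i ∈ d.1 ∆ (σ • d.1) ↔ i ∈ e.1 ∆ (σ • e.1) := by rw [h3]
        simp only [Finset.mem_symmDiff] at this ⊢
        tauto)
    exact Subtype.ext (symmDiff_eq_bot.mp h4)
  obtain ⟨d, hd⟩ := Finite.surjective_of_injective hinj ⟨c, hc, h1, h2⟩
  have h3 : d.1 ∆ (σ • d.1) = c := congrArg Subtype.val hd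
  subst h3
  have h4 := mul_mem (hK.conj (sgnEl d.1 d.2.1) (sgnEl_v44 d.2.1 d.2.2.1 d.2.2.2) _
    (h22 (permEl_mem_pm hσ1 hσ))) (inv_mem (h22 (permEl_mem_pm hσ1 hσ)))
  rwa [sgnEl_inv, mul_assoc (sgnEl _ _), permEl_sgnEl, ← mul_assoc, mul_inv_cancel_right,
    sgnEl_mul] at h4

theorem fix_e8_v44 {g : Co0} (h1 : g • v44 none (some 0) = v44 none (some 0))
    (h2 : g • e8 none = e8 none) : ∃ c, ∃ hc : c ∈ GC, ∃ σ, ∃ hσ : σ ∈ M24, none ∉ c ∧ some 0 ∉ c ∧
      σ ∈ Spor.M22 ∧ g = sgnEl c hc * permEl σ hσ := by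
  obtain ⟨c, hc, σ, hσ, h3, h4, rfl⟩ := fix_e8 h2
  rw [mul_smul, permEl_v44, h4] at h1
  have h5 := congrArg (fun x : leechLattice => x.1 (some 0)) h1
  simp only [sgnEl_apply, v44_apply, del_self, del_ne none_ne_zero.symm] at h5
  have h6 : σ (some 0) = some 0 := by
    by_contra h6
    rw [del_ne (Ne.symm h6)] at h5
    omega
  refine ⟨c, hc, σ, hσ, h3, fun h7 => ?_, ⟨⟨hσ, h4⟩, h6⟩, rfl⟩
  simp [sgn, h7, h6, del_self] at h5

theorem card_stab_v44_e8 : Nat.card ↥(stabilizer Co0 (v44 none (some 0)) ⊓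
    stabilizer Co0 (e8 none)) = 1024 * 443520 := by
  have h : stabilizer Co0 (v44 none (some 0)) ⊓ stabilizer Co0 (e8 none) ⊓
      stabilizer Co0 (s5 none) = pm Spor.M22 := by
    ext g
    rw [mem_pm22_iff]
    constructor
    · rintro ⟨⟨h1, h2⟩, h3⟩
      refine ⟨h3, h1, ?_⟩
      have h4 : g • e8 none = e8 none := h2
      rw [← v44_add_v4m none (some 0), co_add, show g • v44 none (some 0) = _ from h1] at h4
      exact add_left_cancel h4
    · intro h
      exact ⟨⟨h.2.1, pm22_fix_e8 (mem_pm22_iff.mpr h)⟩, h.1⟩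
  rw [card_orbit_set _ (s5 none)
    ((fun c => sg c • s5 none) '' {c | (c ∈ GC ∧ none ∉ c) ∧ some 0 ∉ c}), h, card_pm22,
    Set.ncard_image_of_injOn ((sg_smul_injOn (s5_ne_zero _)).mono fun _ h => h.1.1),
    ncard_GC_avoid2 none_ne_zero]
  intro y
  constructor
  · rintro ⟨c, ⟨⟨hc, h1⟩, h2⟩, rfl⟩
    exact ⟨sgnEl c hc, ⟨sgnEl_v44 hc h1 h2, sgnEl_e8 c hc h1⟩, by simp only [sg_eq hc]⟩
  · rintro ⟨g, hg, rfl⟩
    obtain ⟨c, hc, σ, hσ, h3, h4, h5, rfl⟩ := fix_e8_v44 hg.1 hg.2
    exact ⟨c, ⟨⟨hc, h3⟩, h4⟩, by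
      simp only [sg_eq hc, mul_smul, permEl_s5, (mem_M22.mp h5).1.2]⟩

theorem simple_co2_0 : IsSimpleGroup (stabilizer Co0 (v44 none (some 0))) := by
  have hx := nrm_v44 none_ne_zero
  have hc := card_co2 hx
  obtain ⟨g0, hg0⟩ := trans32 (nrm_m3 none)
  obtain ⟨s23, c23⟩ := stab2_simple (g := g0⁻¹) (x := g0 • e8 none) (y := v44 none (some 0))
    (H := pm Spor.M23) (by rw [inv_smul_smul, ← hg0, inv_smul_smul, stab_e8_m3]) simple_pm23
  rw [card_pm23] at c23
  refine simple_of_ambient _ (p := 11) (n := [512].prod) (by norm_num)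
    (by rw [hc]; norm_num) ?_ ?_
    (primePow_check 11 _ (by decide) (by decide +kernel) (by decide)) ?_
  · intro K hK h11
    have hsq : ¬ 11 ^ 2 ∣ Nat.card (stabilizer Co0 (v44 none (some 0))) := by rw [hc]; norm_num
    have hmcl := hK.simple_le (by norm_num) h11 hsq inf_le_right simple_mcl0
      (by rw [card_mcl0]; norm_num)
    have h23 := hK.simple_le (by norm_num) h11 hsq inf_le_right s23 (by rw [c23]; norm_num)
    have h22 : pm Spor.M22 ≤ K := pm22_le_mcl.trans hmcl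
    have hS : stabilizer Co0 (v44 none (some 0)) ⊓ stabilizer Co0 (e8 none) ≤ K := by
      intro g hg
      obtain ⟨c, hc, σ, hσ, h3, h4, h5, rfl⟩ := fix_e8_v44 hg.1 hg.2
      exact mul_mem (sgn_mem_of_nrmIn hK h22 hc h3 h4) (h22 (permEl_mem_pm hσ h5))
    obtain ⟨τ, hτ, t1, t2, t3⟩ := Golay.M24_trans_three (p := none) (q := some 0) (r := some 1)
      (p' := some 0) (q' := none) (r' := some 1) none_ne_zero (by simp) (by decide)
      none_ne_zero.symm (by decide) (by simp)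
    have hv : v44 (some 0) none = v44 none (some 0) :=
      Subtype.ext (funext fun k => by rw [v44_apply, v44_apply, add_comm])
    have hτ1 : permEl τ hτ • v44 none (some 0) = v44 none (some 0) := by
      rw [permEl_v44, t1, t2, hv]
    have hτK : permEl τ hτ ∈ K := by
      have h8 : dt (v44 none (some 0)) (m3 (some 1)) = 8 := by
        rw [dt_comm, dt_v44, m3_apply, m3_apply, del_ne (by simp), del_ne (by decide)]; rfl
      obtain ⟨h1, h2⟩ := mcl_general (s := v44 none (some 0) - m3 (some 1)) (x := v44 none (some 0))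
        (by rw [nrm_sub, hx, nrm_m3, h8]; rfl) hx (by rw [dt_sub_right, dt_self, hx, h8]; rfl)
      refine hK.simple_le (by norm_num) h11 hsq inf_le_right h1 (by rw [h2]; norm_num) ⟨?_, hτ1⟩
      show permEl τ hτ • _ = _
      rw [co_sub, hτ1, permEl_m3, t3]
    let F : Set leechLattice := {e8 none, e8 (some 0)}
    have he : e8 none + e8 (some 0) = v44 none (some 0) + v44 none (some 0) :=
      Subtype.ext (funext fun k => by
        show (e8 none).1 k + (e8 (some 0)).1 k = (v44 none (some 0)).1 k + (v44 none (some 0)).1 k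
        rw [e8_apply, e8_apply, v44_apply]; ring)
    have h1 := card_orbit_set (K ⊓ stabilizer Co0 F) (e8 none) F fun y => by
      constructor
      · rintro (rfl | rfl)
        · exact ⟨1, one_mem _, one_smul _ _⟩
        · refine ⟨permEl τ hτ, ⟨hτK, ?_⟩, by rw [permEl_e8, t1]⟩
          show permEl τ hτ • F = F
          simp only [F, Set.smul_set_insert, Set.smul_set_singleton, permEl_e8, t1, t2]
          exact Set.pair_comm _ _
      · rintro ⟨g, hg, rfl⟩
        have h2 : g • F = F := hg.2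
        rw [← h2]
        exact Set.smul_mem_smul_set (Or.inl rfl)
    have h2 : K ⊓ stabilizer Co0 F ⊓ stabilizer Co0 (e8 none) =
        stabilizer Co0 (v44 none (some 0)) ⊓ stabilizer Co0 (e8 none) := by
      refine le_antisymm (inf_le_inf_right _ (inf_le_left.trans hK.le))
        (le_inf (le_inf hS fun g hg => ?_) inf_le_right)
      have h3 : g • e8 none = e8 none := hg.2
      have h4 : g • e8 (some 0) = e8 (some 0) := by
        have h5 := congrArg (fun x => g • x) he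
        simp only [co_add, h3, show g • v44 none (some 0) = _ from hg.1] at h5
        rw [← he] at h5
        exact add_left_cancel h5
      show g • F = F
      simp only [F, Set.smul_set_insert, Set.smul_set_singleton, h3, h4]
    rw [h2, card_stab_v44_e8, Set.ncard_pair fun h => none_ne_zero (e8_inj h)] at h1
    have d1 := Subgroup.card_dvd_of_le hmcl
    have d2 := Subgroup.card_dvd_of_le h23
    have d3 := Subgroup.card_dvd_of_le (inf_le_left : K ⊓ stabilizer Co0 F ≤ K)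
    rw [card_mcl0] at d1
    rw [c23] at d2
    rw [h1] at d3
    have d4 : 42305421312000 ∣ Nat.card K := dvd_of_lcm3 d1 d2 d3 (by decide +kernel)
    exact (Subgroup.eq_of_le_of_card_ge hK.le
      (by rw [hc]; exact Nat.le_of_dvd Nat.card_pos d4)).ge
  · intro K hK h11
    obtain ⟨g1, hg1⟩ := trans32 (nrm_v4m none_ne_zero)
    obtain ⟨s1, c1⟩ := hs_general (s := g1 • s5 none) (x := v44 none (some 0))
      (by rw [nrm_smul, nrm_s5]) hx (by rw [← hg1, dt_smul, dt_v4m_s5 none_ne_zero.symm])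
    have h1 := hK.card_mul_dvd h11 inf_le_right s23 (by rw [c23]; norm_num)
    have h2 := hK.card_mul_dvd h11 inf_le_right simple_mcl0 (by rw [card_mcl0]; norm_num)
    have h3 := hK.card_mul_dvd h11 inf_le_right s1 (by rw [c1]; norm_num)
    rw [c23, hc] at h1
    rw [card_mcl0, hc] at h2
    rw [c1, hc] at h3
    have h4 : Nat.card K ∣ 4147200 := dvd_of_mul_dvd' (by norm_num) h1 (by norm_num)
    have h5 : Nat.card K ∣ 47104 := dvd_of_mul_dvd' (by norm_num) h2 (by norm_num)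
    have h6 : Nat.card K ∣ 953856 := dvd_of_mul_dvd' (by norm_num) h3 (by norm_num)
    exact dvd_of_gcd3 h4 h5 h6 (by decide +kernel)
  · intro z hz hc
    have hz' : (g0⁻¹ * z * g0) • m3 none = m3 none := by
      rw [mul_smul, mul_smul, hg0, show z • v44 none (some 0) = _ from hz, ← hg0, inv_smul_smul]
    have hc' : ∀ g ∈ stabilizer Co0 (m3 none), g * (g0⁻¹ * z * g0) = (g0⁻¹ * z * g0) * g := by
      intro g hg
      have h1 := hc (g0 * g * g0⁻¹) (by
        show _ • _ = _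
        rw [← hg0, mul_smul, inv_smul_smul, mul_smul, show g • m3 none = _ from hg])
      calc g * (g0⁻¹ * z * g0) = g0⁻¹ * (g0 * g * g0⁻¹ * z) * g0 := by group
        _ = _ := by rw [h1]; group
    suffices g0⁻¹ * z * g0 = 1 by
      calc z = g0 * (g0⁻¹ * z * g0) * g0⁻¹ := by group
        _ = 1 := by rw [this]; group
    generalize g0⁻¹ * z * g0 = y at hz' hc'
    obtain ⟨c, h1, h2⟩ := fixed23 (u := y • e8 none) fun g hg =>
      central_fixed hc' (pm23_le_co2 hg) (pm23_le_e8 hg)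
    have h3 := dt_fixed (x := e8 none) hz'
    rw [dt_m3, dt_m3, sum_e8, e8_apply, del_self] at h3
    rw [nrm_smul, nrm_e8] at h2
    have h5 := sq_small h2
    have h6 : y • e8 none = e8 none := eq_e8 (by rw [nrm_smul, nrm_e8]) (by omega)
    exact eq_one_of_central simple_pm23 (by rw [card_pm23]; norm_num)
      (stab_e8_m3 ▸ ⟨h6, hz'⟩) fun g hg => hc' g (pm23_le_co2 hg)

theorem simple_co2 {x : leechLattice} (hx : nrm x = 32) : IsSimpleGroup (stabilizer Co0 x) := by
  obtain ⟨g, hg⟩ := trans32 hx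
  obtain ⟨e⟩ := stab_equiv g x
  rw [hg] at e
  have := simple_co2_0
  exact e.isSimpleGroup

end Cfsg.Lib.Leech
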