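import Cfsg.Agent.Lib.Leech.SimpleC

/-! Simplicity of Co1. -/

set_option autoImplicit false

namespace Cfsg.Lib.Leech

open Finset MulAction
open scoped Pointwise symmDiff

theorem co0_normal (K : Subgroup Co0) (hK : K.Normal) : K = ⊤ ∨ K ≤ Subgroup.center Co0 := by
  refine normal_top_or_central (p := 11) (n := [16, 27, 5, 7, 13].prod) (by norm_num)
    (by rw [card_co0]; norm_num) ?_ ?_
    (primePow_check 11 _ (by decide) (by decide +kernel) (by decide)) K hK
  · intro K hK h11
    have hK' : NrmIn K ⊤ := ⟨le_top, fun g _ k hk => hK.conj_mem k hk g⟩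
    have h2 : ∀ x, nrm x = 32 → stabilizer Co0 x ≤ K := fun x hx =>
      hK'.simple_le (by norm_num) h11 (by rw [Subgroup.card_top, card_co0]; norm_num) le_top
        (simple_co2 hx) (by rw [card_co2 hx]; norm_num)
    have h3 : ∀ c (hc : c ∈ GC), c.card ≤ 16 → sgnEl c hc ∈ K := by
      intro c hc h
      obtain ⟨a, ha, b, hb, hab⟩ := Finset.one_lt_card.mp
        (show 1 < cᶜ.card by rw [card_compl_pt]; omega)
      exact h2 _ (nrm_v44 hab) (sgnEl_v44 hc (Finset.mem_compl.mp ha) (Finset.mem_compl.mp hb))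
    have h4 : ∀ c (hc : c ∈ GC), sgnEl c hc ∈ K := by
      intro c hc
      by_cases h : c.card ≤ 16
      · exact h3 c hc h
      · obtain ⟨O, hO⟩ := Set.nonempty_of_ncard_ne_zero (s := octads)
          (by rw [ncard_octads]; norm_num)
        have h5 : c = univ := by
          rw [← Finset.card_eq_iff_eq_univ, card_pt]
          have := gc_card hc
          omega
        have h6 := mul_mem (h3 O hO.1 (by rw [hO.2]; norm_num))
          (h3 Oᶜ (compl_mem_GC hO.1) (by rw [card_compl_pt, hO.2]))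
        rw [sgnEl_mul] at h6
        convert h6 using 2
        rw [h5]
        ext i
        simp [Finset.mem_symmDiff]
    rw [eq_top_iff]
    refine le_of_large_orbit' le_top (m3 none) (inf_le_right.trans (h2 _ (nrm_m3 _)))
      ((fun q : Finset GolayPt × GolayPt => sg q.1 • m3 q.2) '' (GC ×ˢ Set.univ)) ?_
      (a := 4096 * 24) ?_ (by rw [top_inf_eq, card_co2 (nrm_m3 _)])
      (by rw [Subgroup.card_top, card_co0]) (by norm_num)
    · rintro _ ⟨⟨c, j⟩, ⟨hc, -⟩, rfl⟩
      obtain ⟨a, b, hab, h5, h6, h7, h8⟩ := exists_two_pts j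
      obtain ⟨σ, hσ, e1, e2, e3⟩ := Golay.M24_trans_three hab h5 h6 hab h7 h8
      refine ⟨sgnEl c hc * permEl σ hσ, mul_mem (h4 c hc) (h2 _ (nrm_v44 hab) ?_), ?_⟩
      · show permEl σ hσ • _ = _
        rw [permEl_v44, e1, e2]
      · simp only
        rw [mul_smul, permEl_m3, e3, sg_eq hc]
    · rw [Set.ncard_image_of_injOn,
        Set.ncard_prod, ncard_GC, Set.ncard_univ, Nat.card_eq_fintype_card, card_pt]
      · rintro ⟨c, k⟩ hc ⟨d, l⟩ hd h
        obtain ⟨rfl, rfl⟩ := sg_m3_inj hc.1 hd.1 h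
        rfl
  · intro K hK h11
    have hK' : NrmIn K ⊤ := ⟨le_top, fun g _ k hk => hK.conj_mem k hk g⟩
    have h := hK'.card_mul_dvd h11 le_top (simple_co2 (nrm_m3 none))
      (by rw [card_co2 (nrm_m3 _)]; norm_num)
    rw [card_co2 (nrm_m3 _), Subgroup.card_top, card_co0] at h
    exact dvd_of_mul_dvd' (by norm_num) h (by decide +kernel)

theorem card_co1 : Nat.card (Co0 ⧸ Subgroup.center Co0) = 4157776806543360000 := by
  have h := Subgroup.card_eq_card_quotient_mul_card_subgroup (Subgroup.center Co0)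
  rw [card_co0, card_center_co0] at h
  omega

theorem simple_co1 : IsSimpleGroup (Co0 ⧸ Subgroup.center Co0) := by
  have : Nontrivial (Co0 ⧸ Subgroup.center Co0) :=
    Finite.one_lt_card_iff_nontrivial.mp (by rw [card_co1]; norm_num)
  refine ⟨fun N hN => ?_⟩
  rcases co0_normal (N.comap (QuotientGroup.mk' _)) inferInstance with h | h
  · right
    rw [← Subgroup.map_comap_eq_self_of_surjective (QuotientGroup.mk'_surjective _) N, h]
    exact Subgroup.map_top_of_surjective _ (QuotientGroup.mk'_surjective _)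
  · left
    rw [eq_bot_iff]
    intro x hx
    obtain ⟨g, rfl⟩ := QuotientGroup.mk'_surjective _ x
    exact Subgroup.mem_bot.mpr ((QuotientGroup.eq_one_iff g).mpr (h hx))

end Cfsg.Lib.Leech
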