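import Cfsg.Agent.Lib.Leech.Index

/-! The numbers of Leech vectors of norms 32, 48, 64 (generating function, Kronecker substitution). -/

set_option autoImplicit false

namespace Cfsg.Lib.Leech

open Finset
open scoped Pointwise symmDiff

theorem digit_count {α : Type*} (S : Finset α) (f : α → ℕ) (B N : ℕ) (hB : S.card < B) :
    (∑ x ∈ S, B ^ f x) / B ^ N % B = (S.filter fun x => f x = N).card := by
  have hB0 : 0 < B := by omega
  have h1 : ∑ x ∈ S, B ^ f x = ∑ x ∈ S with f x < N, B ^ f x +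
      B ^ N * ((S.filter fun x => f x = N).card + B * ∑ x ∈ S with N < f x, B ^ (f x - N - 1)) := by
    rw [mul_add, Finset.card_eq_sum_ones, Finset.mul_sum, Finset.mul_sum, Finset.mul_sum,
      Finset.sum_filter, Finset.sum_filter, Finset.sum_filter, ← Finset.sum_add_distrib,
      ← Finset.sum_add_distrib]
    refine Finset.sum_congr rfl fun x _ => ?_
    rcases lt_trichotomy (f x) N with h | h | h
    · simp [h, h.ne, h.le.not_gt]
    · simp [h]
    · rw [if_neg h.le.not_gt, if_neg h.ne', if_pos h, ← pow_succ', ← pow_add]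
      simp only [zero_add]
      congr 1
      omega
  have h2 : ∑ x ∈ S with f x < N, B ^ f x < B ^ N := by
    rcases Nat.eq_zero_or_pos N with rfl | hN
    · simp
    · calc ∑ x ∈ S with f x < N, B ^ f x ≤ ∑ x ∈ S with f x < N, B ^ (N - 1) := by
            refine Finset.sum_le_sum fun x hx => ?_
            have := (Finset.mem_filter.mp hx).2
            exact Nat.pow_le_pow_right hB0 (by omega)
        _ = (S.filter fun x => f x < N).card * B ^ (N - 1) := by simp
        _ < B * B ^ (N - 1) := by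
            refine Nat.mul_lt_mul_of_pos_right ?_ (pow_pos hB0 _)
            exact lt_of_le_of_lt (Finset.card_filter_le _ _) hB
        _ = B ^ N := by rw [← pow_succ']; congr 1; omega
  have h3 : (S.filter fun x => f x = N).card < B := lt_of_le_of_lt (Finset.card_filter_le _ _) hB
  rw [h1, Nat.add_mul_div_left _ _ (pow_pos hB0 _), Nat.div_eq_of_lt h2, zero_add,
    Nat.add_mul_mod_self_left, Nat.mod_eq_of_lt h3]

/-- parity character -/
def chi (n : ℤ) : ℤ := 1 - 2 * (n % 2)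

theorem chi_add (a b : ℤ) : chi (a + b) = chi a * chi b := by
  unfold chi
  rcases Int.emod_two_eq_zero_or_one a with h | h <;>
    rcases Int.emod_two_eq_zero_or_one b with h' | h' <;>
    rw [Int.add_emod, h, h'] <;> norm_num

theorem chi_sum {α : Type*} (s : Finset α) (z : α → ℤ) :
    chi (∑ i ∈ s, z i) = ∏ i ∈ s, chi (z i) := by
  classical
  induction s using Finset.induction_on with
  | empty => simp [chi]
  | insert a s ha ih => rw [Finset.sum_insert ha, Finset.prod_insert ha, chi_add, ih]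

/-- weight of a coordinate value in a residue class -/
def thP (B r a : ℤ) : ℤ := if (a - r) % 4 = 0 then B ^ (a ^ 2).toNat else 0

/-- signed weight of a coordinate value in a residue class -/
def thQ (B r a : ℤ) : ℤ := chi ((a - r) / 4) * thP B r a

theorem pow_sqNorm (B : ℤ) (x : GolayPt → ℤ) :
    B ^ (sqNorm x).toNat = ∏ i, B ^ (x i ^ 2).toNat := by
  have h : ((∑ i, (x i ^ 2).toNat : ℕ) : ℤ) = sqNorm x := by
    push_cast
    exact Finset.sum_congr rfl fun i _ => Int.toNat_of_nonneg (sq_nonneg _)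
  rw [Finset.prod_pow_eq_pow_sum, ← h, Int.toNat_natCast]

open Classical in
theorem th_term (B : ℤ) (r x : GolayPt → ℤ) (e : ℤ) (he : e = 0 ∨ e = 1) :
    ∏ i, thP B (r i) (x i) + chi e * ∏ i, thQ B (r i) (x i) =
      if ∃ z : GolayPt → ℤ, (∀ i, x i = r i + 4 * z i) ∧ (∑ i, z i) % 2 = e then
        2 * B ^ (sqNorm x).toNat else 0 := by
  by_cases h : ∀ i, (x i - r i) % 4 = 0
  · have h1 : ∏ i, thP B (r i) (x i) = B ^ (sqNorm x).toNat := by
      rw [pow_sqNorm]
      exact Finset.prod_congr rfl fun i _ => by unfold thP; rw [if_pos (h i)]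
    have h2 : ∏ i, thQ B (r i) (x i) = chi (∑ i, (x i - r i) / 4) * B ^ (sqNorm x).toNat := by
      unfold thQ
      rw [Finset.prod_mul_distrib, h1, chi_sum]
    rw [h1, h2]
    split_ifs with h3
    · obtain ⟨z, h4, h5⟩ := h3
      have h6 : ∑ i, (x i - r i) / 4 = ∑ i, z i :=
        Finset.sum_congr rfl fun i _ => by have := h4 i; omega
      rw [h6]
      unfold chi
      rw [h5]
      rcases he with rfl | rfl <;> norm_num <;> ring
    · have h4 : (∑ i, (x i - r i) / 4) % 2 ≠ e := fun h5 =>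
        h3 ⟨fun i => (x i - r i) / 4, fun i => by have := h i; beta_reduce; omega, h5⟩
      have h5 : (∑ i, (x i - r i) / 4) % 2 = 1 - e := by omega
      unfold chi
      rw [h5]
      rcases he with rfl | rfl <;> norm_num
  · push Not at h
    obtain ⟨i, hi⟩ := h
    have h1 : thP B (r i) (x i) = 0 := by unfold thP; rw [if_neg hi]
    have h2 : thQ B (r i) (x i) = 0 := by unfold thQ; rw [h1, mul_zero]
    rw [Finset.prod_eq_zero (mem_univ i) h1, Finset.prod_eq_zero (mem_univ i) h2, if_neg]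
    · simp
    · rintro ⟨z, h4, -⟩
      have := h4 i
      omega

theorem ind_inj {c d : Finset GolayPt} {x z z' : GolayPt → ℤ}
    (h : ∀ i, x i = 2 * ind c i + 4 * z i) (h' : ∀ i, x i = 2 * ind d i + 4 * z' i) : c = d := by
  ext i
  have h1 := h i
  have h2 := h' i
  unfold ind at h1 h2
  split_ifs at h1 h2 <;> first | omega | tauto

theorem sgn_inj {c d : Finset GolayPt} {x z z' : GolayPt → ℤ}
    (h : ∀ i, x i = sgn c i + 4 * z i) (h' : ∀ i, x i = sgn d i + 4 * z' i) : c = d := by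
  ext i
  have h1 := h i
  have h2 := h' i
  unfold sgn at h1 h2
  split_ifs at h1 h2 <;> first | omega | tauto

theorem ind_sgn_false {c d : Finset GolayPt} {x z z' : GolayPt → ℤ}
    (h : ∀ i, x i = 2 * ind c i + 4 * z i) (h' : ∀ i, x i = sgn d i + 4 * z' i) : False := by
  have h1 := h none
  have h2 := h' none
  unfold sgn ind at *
  split_ifs at h1 h2 <;> omega

open Classical in
theorem th_point (B : ℤ) (x : GolayPt → ℤ) :
    ∑ c ∈ GCf, ((∏ i, thP B (2 * ind c i) (x i) + chi 0 * ∏ i, thQ B (2 * ind c i) (x i)) +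
      (∏ i, thP B (sgn c i) (x i) + chi 1 * ∏ i, thQ B (sgn c i) (x i))) =
      if x ∈ leechLattice then 2 * B ^ (sqNorm x).toNat else 0 := by
  simp only [th_term B _ x 0 (Or.inl rfl), th_term B _ x 1 (Or.inr rfl)]
  split_ifs with hx
  · rcases leech_cases hx with ⟨c, hc, z, h1, h2⟩ | ⟨c, hc, z, h1, h2⟩
    · rw [Finset.sum_eq_single c]
      · rw [if_pos ⟨z, h1, h2⟩, if_neg, add_zero]
        rintro ⟨z', h3, -⟩
        exact ind_sgn_false h1 h3
      · intro d _ hdc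
        rw [if_neg, if_neg, add_zero]
        · rintro ⟨z', h3, -⟩
          exact ind_sgn_false h1 h3
        · rintro ⟨z', h3, -⟩
          exact hdc (ind_inj h3 h1)
      · intro h
        exact absurd (mem_GCf.mpr hc) h
    · rw [Finset.sum_eq_single c]
      · rw [if_neg, if_pos ⟨z, h1, h2⟩, zero_add]
        rintro ⟨z', h3, -⟩
        exact ind_sgn_false h3 h1
      · intro d _ hdc
        rw [if_neg, if_neg, add_zero]
        · rintro ⟨z', h3, -⟩
          exact hdc (sgn_inj h3 h1)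
        · rintro ⟨z', h3, -⟩
          exact ind_sgn_false h3 h1
      · intro h
        exact absurd (mem_GCf.mpr hc) h
  · refine Finset.sum_eq_zero fun c hc => ?_
    rw [if_neg, if_neg, add_zero]
    · rintro ⟨z, h1, h2⟩
      exact hx (odd_mem (mem_GCf.mp hc) z h2 h1)
    · rintro ⟨z, h1, h2⟩
      exact hx (even_mem (mem_GCf.mp hc) z h2 h1)

theorem prod_ite_mem (c : Finset GolayPt) (a b : ℤ) :
    ∏ i, (if i ∈ c then a else b) = a ^ c.card * b ^ (24 - c.card) := by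
  rw [Finset.prod_ite, Finset.prod_const, Finset.prod_const, ← card_compl_pt]
  congr 2
  · congr 1; ext i; simp
  · congr 1; ext i; simp

/-- the box of vectors with coordinates in `[-8, 8]` -/
noncomputable def thBox : Finset (GolayPt → ℤ) := Fintype.piFinset fun _ => Finset.Icc (-8 : ℤ) 8

/-- the weight enumerator of the Golay code -/
def wtEnum (a b : ℤ) : ℤ :=
  b ^ 24 + 759 * (a ^ 8 * b ^ 16) + 2576 * (a ^ 12 * b ^ 12) + 759 * (a ^ 16 * b ^ 8) + a ^ 24

/-- twice the truncated theta series -/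
def theta2 (B : ℤ) : ℤ :=
  wtEnum (2 * B ^ 4 + 2 * B ^ 36) (1 + 2 * B ^ 16 + 2 * B ^ 64) + (1 - 2 * B ^ 16 + 2 * B ^ 64) ^ 24
    + 4096 * ((B + B ^ 9 + B ^ 25 + B ^ 49) ^ 24 - (B - B ^ 9 - B ^ 25 + B ^ 49) ^ 24)

theorem Icc_eight : Finset.Icc (-8 : ℤ) 8 =
    {-8, -7, -6, -5, -4, -3, -2, -1, 0, 1, 2, 3, 4, 5, 6, 7, 8} := by decide

open Classical in
theorem theta_sum (B : ℤ) :
    2 * ∑ x ∈ thBox with x ∈ leechLattice, B ^ (sqNorm x).toNat = theta2 B := by
  rw [Finset.mul_sum, Finset.sum_filter]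
  simp only [← th_point]
  rw [Finset.sum_comm]
  have hP : ∀ r : GolayPt → ℤ, ∑ x ∈ thBox, ∏ i, thP B (r i) (x i) =
      ∏ i, ∑ a ∈ Finset.Icc (-8 : ℤ) 8, thP B (r i) a := fun r =>
    (Finset.prod_univ_sum (fun _ => Finset.Icc (-8 : ℤ) 8) (fun i a => thP B (r i) a)).symm
  have hQ : ∀ r : GolayPt → ℤ, ∑ x ∈ thBox, ∏ i, thQ B (r i) (x i) =
      ∏ i, ∑ a ∈ Finset.Icc (-8 : ℤ) 8, thQ B (r i) a := fun r =>
    (Finset.prod_univ_sum (fun _ => Finset.Icc (-8 : ℤ) 8) (fun i a => thQ B (r i) a)).symm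
  have p0 : ∑ a ∈ Finset.Icc (-8 : ℤ) 8, thP B 0 a = 1 + 2 * B ^ 16 + 2 * B ^ 64 := by
    rw [Icc_eight]; simp [thP]; ring
  have p2 : ∑ a ∈ Finset.Icc (-8 : ℤ) 8, thP B 2 a = 2 * B ^ 4 + 2 * B ^ 36 := by
    rw [Icc_eight]; simp [thP]; ring
  have p1 : ∑ a ∈ Finset.Icc (-8 : ℤ) 8, thP B 1 a = B + B ^ 9 + B ^ 25 + B ^ 49 := by
    rw [Icc_eight]; simp [thP]; ring
  have p3 : ∑ a ∈ Finset.Icc (-8 : ℤ) 8, thP B (-1) a = B + B ^ 9 + B ^ 25 + B ^ 49 := by
    rw [Icc_eight]; simp [thP]; ring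
  have q0 : ∑ a ∈ Finset.Icc (-8 : ℤ) 8, thQ B 0 a = 1 - 2 * B ^ 16 + 2 * B ^ 64 := by
    rw [Icc_eight]; simp [thP, thQ, chi]; ring
  have q2 : ∑ a ∈ Finset.Icc (-8 : ℤ) 8, thQ B 2 a = 0 := by
    rw [Icc_eight]; simp [thP, thQ, chi]
  have q1 : ∑ a ∈ Finset.Icc (-8 : ℤ) 8, thQ B 1 a = B - B ^ 9 - B ^ 25 + B ^ 49 := by
    rw [Icc_eight]; simp [thP, thQ, chi]; ring
  have q3 : ∑ a ∈ Finset.Icc (-8 : ℤ) 8, thQ B (-1) a = B - B ^ 9 - B ^ 25 + B ^ 49 := by
    rw [Icc_eight]; simp [thP, thQ, chi]; ring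
  have key : ∀ c : Finset GolayPt,
      ∑ x ∈ thBox, ((∏ i, thP B (2 * ind c i) (x i) + chi 0 * ∏ i, thQ B (2 * ind c i) (x i)) +
      (∏ i, thP B (sgn c i) (x i) + chi 1 * ∏ i, thQ B (sgn c i) (x i))) =
      (2 * B ^ 4 + 2 * B ^ 36) ^ c.card * (1 + 2 * B ^ 16 + 2 * B ^ 64) ^ (24 - c.card) +
      0 ^ c.card * (1 - 2 * B ^ 16 + 2 * B ^ 64) ^ (24 - c.card) +
      ((B + B ^ 9 + B ^ 25 + B ^ 49) ^ 24 - (B - B ^ 9 - B ^ 25 + B ^ 49) ^ 24) := by
    intro c
    rw [Finset.sum_add_distrib, Finset.sum_add_distrib, Finset.sum_add_distrib, ← Finset.mul_sum,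
      ← Finset.mul_sum, hP, hP, hQ, hQ, ← prod_ite_mem, ← prod_ite_mem]
    have e1 : ∀ i, ∑ a ∈ Finset.Icc (-8 : ℤ) 8, thP B (2 * ind c i) a =
        if i ∈ c then 2 * B ^ 4 + 2 * B ^ 36 else 1 + 2 * B ^ 16 + 2 * B ^ 64 := by
      intro i; unfold ind; split_ifs
      · rw [mul_one, p2]
      · rw [mul_zero, p0]
    have e2 : ∀ i, ∑ a ∈ Finset.Icc (-8 : ℤ) 8, thQ B (2 * ind c i) a =
        if i ∈ c then 0 else 1 - 2 * B ^ 16 + 2 * B ^ 64 := by
      intro i; unfold ind; split_ifs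
      · rw [mul_one, q2]
      · rw [mul_zero, q0]
    have e3 : ∀ i, ∑ a ∈ Finset.Icc (-8 : ℤ) 8, thP B (sgn c i) a =
        B + B ^ 9 + B ^ 25 + B ^ 49 := by
      intro i; unfold sgn; split_ifs
      · rw [p3]
      · rw [p1]
    have e4 : ∀ i, ∑ a ∈ Finset.Icc (-8 : ℤ) 8, thQ B (sgn c i) a =
        B - B ^ 9 - B ^ 25 + B ^ 49 := by
      intro i; unfold sgn; split_ifs
      · rw [q3]
      · rw [q1]
    simp only [e1, e2, e3, e4, Finset.prod_const, Finset.card_univ, card_pt]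
    rw [show chi 0 = 1 from rfl, show chi 1 = -1 from rfl]
    ring
  simp only [key]
  generalize hu : (B + B ^ 9 + B ^ 25 + B ^ 49) ^ 24 - (B - B ^ 9 - B ^ 25 + B ^ 49) ^ 24 = u
  generalize ha : 2 * B ^ 4 + 2 * B ^ 36 = a
  generalize hb : 1 + 2 * B ^ 16 + 2 * B ^ 64 = b
  generalize hb' : 1 - 2 * B ^ 16 + 2 * B ^ 64 = b'
  rw [sum_GCf (fun w => a ^ w * b ^ (24 - w) + 0 ^ w * b' ^ (24 - w) + u)]
  unfold theta2 wtEnum
  rw [hu, ha, hb, hb']
  norm_num
  ring

theorem card_thBox : thBox.card = 17 ^ 24 := by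
  rw [thBox, Fintype.card_piFinset, Finset.prod_const, Finset.card_univ, card_pt]
  rfl

theorem leech_count (B : ℕ) (hB : 17 ^ 24 < B) (N : ℕ) (hN : N ≤ 64) :
    {x : GolayPt → ℤ | x ∈ leechLattice ∧ sqNorm x = N}.ncard =
      (theta2 B).toNat / 2 / B ^ N % B := by
  classical
  have h1 := digit_count (thBox.filter fun x => x ∈ leechLattice) (fun x => (sqNorm x).toNat)
    B N (lt_of_le_of_lt (Finset.card_filter_le _ _) (by rw [card_thBox]; exact hB))
  have h2 : (theta2 B).toNat / 2 =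
      ∑ x ∈ thBox with x ∈ leechLattice, B ^ (sqNorm x).toNat := by
    rw [← theta_sum]
    have : (2 : ℤ) * ∑ x ∈ thBox with x ∈ leechLattice, (B : ℤ) ^ (sqNorm x).toNat =
        ((2 * ∑ x ∈ thBox with x ∈ leechLattice, B ^ (sqNorm x).toNat : ℕ) : ℤ) := by
      push_cast; rfl
    rw [this, Int.toNat_natCast, Nat.mul_div_cancel_left _ (by norm_num)]
  rw [h2, h1, ← Set.ncard_coe_finset]
  refine congrArg Set.ncard ?_
  ext x
  simp only [Set.mem_setOf_eq, Finset.coe_filter, Finset.mem_filter, thBox, Fintype.mem_piFinset,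
    Finset.mem_Icc]
  constructor
  · rintro ⟨h3, h4⟩
    refine ⟨⟨fun i => ?_, h3⟩, by rw [h4]; simp⟩
    have := sq_le_sqNorm x i
    constructor <;> nlinarith [(Int.ofNat_le.mpr hN : (N : ℤ) ≤ (64 : ℕ))]
  · rintro ⟨⟨-, h3⟩, h4⟩
    refine ⟨h3, ?_⟩
    rw [← h4, Int.toNat_of_nonneg (sqNorm_nonneg x)]

theorem leech_count32 : {x : GolayPt → ℤ | x ∈ leechLattice ∧ sqNorm x = 32}.ncard = 196560 := by
  refine (leech_count (2 ^ 100) (by norm_num) 32 (by norm_num)).trans ?_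
  decide +kernel

theorem leech_count48 : {x : GolayPt → ℤ | x ∈ leechLattice ∧ sqNorm x = 48}.ncard = 16773120 := by
  refine (leech_count (2 ^ 100) (by norm_num) 48 (by norm_num)).trans ?_
  decide +kernel

theorem leech_count64 :
    {x : GolayPt → ℤ | x ∈ leechLattice ∧ sqNorm x = 64}.ncard = 398034000 := by
  refine (leech_count (2 ^ 100) (by norm_num) 64 (by norm_num)).trans ?_
  decide +kernel

end Cfsg.Lib.Leech
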