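import Cfsg.Agent.Lib.Leech.Trans8

/-! Transitivity of `Co0` on short vectors and on the relevant pairs and triples. -/

set_option autoImplicit false

namespace Cfsg.Lib.Leech

open Finset
open scoped Pointwise symmDiff

theorem none_ne_zero : (none : GolayPt) ≠ some 0 := by simp

theorem exists_sep {i j : GolayPt} (h : i ≠ j) : ∃ c ∈ GC, i ∉ c ∧ j ∈ c := by
  obtain ⟨σ, hσ, h1, h2⟩ := Golay.M24_trans_two none_ne_zero h
  have h3 : support₂ (qrWord 0) ∈ GC :=
    support_mem_GC_iff.mpr (Submodule.subset_span (Set.mem_union_left _ ⟨0, rfl⟩))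
  refine ⟨σ • support₂ (qrWord 0), smul_mem_GC hσ h3, ?_, ?_⟩
  · rw [← h1, apply_mem_smul_iff]; decide
  · rw [← h2, apply_mem_smul_iff]; decide

theorem card_mul_le_sqNorm {α : Type*} [Fintype α] {x : α → ℤ} {c : Finset α} {k : ℤ}
    (h : ∀ i ∈ c, k ≤ x i ^ 2) : k * c.card ≤ sqNorm x :=
  calc k * (c.card : ℤ) = ∑ _i ∈ c, k := by simp [mul_comm]
    _ ≤ ∑ i ∈ c, x i ^ 2 := Finset.sum_le_sum h
    _ ≤ ∑ i, x i ^ 2 := Finset.sum_le_sum_of_subset_of_nonneg (Finset.subset_univ _)
      fun _ _ _ => sq_nonneg _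

theorem sum_le_sqNorm {α : Type*} [Fintype α] (x : α → ℤ) : ∑ i, x i ≤ sqNorm x :=
  Finset.sum_le_sum fun i _ => Int.le_self_sq (x i)

theorem shape44 {x : leechLattice} {i : GolayPt} (hx : nrm x = 32) (hi : x.1 i = 4) :
    ∃ j, j ≠ i ∧ (x = v44 i j ∨ x = v4m i j) := by
  obtain ⟨j, hj⟩ := frame_lemma (u := e8 i - (x + x)) (w := -x) (i := i) (by
    rw [nrm_sub, nrm_e8, nrm_add, dt_self, dt_comm, dt_add_left, dt_e8, hx, hi]; rfl) (by abel)
  have hij : j ≠ i := by
    rintro rfl
    rcases hj with h | h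
    · have h1 : (e8 j).1 j - (x.1 j + x.1 j) = (e8 j).1 j := congrArg (fun z : leechLattice => z.1 j) h
      omega
    · have h1 : (e8 j).1 j - (x.1 j + x.1 j) = -(e8 j).1 j :=
        congrArg (fun z : leechLattice => z.1 j) h
      rw [e8_apply, del_self] at h1
      omega
  refine ⟨j, hij, ?_⟩
  rcases hj with h | h
  · right
    refine Subtype.ext (funext fun k => ?_)
    have h1 : (e8 i).1 k - (x.1 k + x.1 k) = (e8 j).1 k := congrArg (fun z : leechLattice => z.1 k) h
    rw [e8_apply, e8_apply] at h1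
    rw [v4m_apply]; omega
  · left
    refine Subtype.ext (funext fun k => ?_)
    have h1 : (e8 i).1 k - (x.1 k + x.1 k) = -(e8 j).1 k := congrArg (fun z : leechLattice => z.1 k) h
    rw [e8_apply, e8_apply] at h1
    rw [v44_apply]; omega

theorem shape5 {s : leechLattice} {i : GolayPt} (hs : nrm s = 48) (hi : s.1 i = 5) :
    ∃ c, ∃ hc : c ∈ GC, i ∉ c ∧ sgnEl c hc • s = s5 i := by
  have hodd : ∀ k, s.1 k % 2 = 1 := fun k => by rw [parity_eq s.2 k i, hi]; rfl
  obtain ⟨-, h⟩ := odd_rest card_pt hodd i (by rw [hi]; exact hs.le)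
  refine ⟨_, filter_mem_GC s.2 3, by simp [hi], Subtype.ext (funext fun k => ?_)⟩
  rw [sgnEl_apply, s5_apply]
  simp only [sgn, Finset.mem_filter, mem_univ, true_and]
  by_cases hk : k = i
  · subst hk; rw [hi, del_self]; rfl
  · rw [del_ne hk]
    rcases sq_eq_one_cases (h k hk) with h1 | h1 <;> rw [h1] <;> rfl

theorem dt_v44_s5 {j : GolayPt} (h : j ≠ none) : dt (v44 none j) (s5 none) = 24 := by
  rw [dt_s5, sum_v44, v44_apply, del_self, del_ne h.symm]; rfl

theorem dt_v4m_s5 {j : GolayPt} (h : j ≠ none) : dt (v4m none j) (s5 none) = 16 := by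
  rw [dt_s5, sum_v4m, v4m_apply, del_self, del_ne h.symm]; rfl

theorem trans86 {u s : leechLattice} (hu : nrm u = 64) (hs : nrm s = 48) (h : dt s u = 40) :
    ∃ g : Co0, g • u = e8 none ∧ g • s = s5 none := by
  obtain ⟨g, hg⟩ := trans64 hu
  have h1 := dt_smul g s u
  rw [hg, dt_e8, h] at h1
  obtain ⟨c, hc, h2, h3⟩ := shape5 (s := g • s) (i := none) (by rw [nrm_smul, hs]) (by omega)
  exact ⟨sgnEl c hc * g, by rw [mul_smul, hg, sgnEl_e8 c hc h2], by rw [mul_smul, h3]⟩

theorem trans864p {u s x : leechLattice} (hu : nrm u = 64) (hs : nrm s = 48) (h : dt s u = 40)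
    (hx : nrm x = 32) (h1 : dt x u = 32) (h2 : dt x s = 24) :
    ∃ g : Co0, g • u = e8 none ∧ g • s = s5 none ∧ g • x = v44 none (some 0) := by
  obtain ⟨g, hg, hg'⟩ := trans86 hu hs h
  have h3 := dt_smul g x u
  rw [hg, dt_e8, h1] at h3
  obtain ⟨j, hj, h4⟩ := shape44 (x := g • x) (i := none) (by rw [nrm_smul, hx]) (by omega)
  have h5 := dt_smul g x s
  rw [hg', h2] at h5
  have h6 : g • x = v44 none j := h4.resolve_right fun h7 => by
    rw [h7, dt_v4m_s5 hj] at h5; omega
  obtain ⟨σ, hσ, e1, e2⟩ := Golay.M24_trans_two hj.symm none_ne_zero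
  exact ⟨permEl σ hσ * g, by rw [mul_smul, hg, permEl_e8, e1],
    by rw [mul_smul, hg', permEl_s5, e1], by rw [mul_smul, h6, permEl_v44, e1, e2]⟩

theorem trans864m {u s x : leechLattice} (hu : nrm u = 64) (hs : nrm s = 48) (h : dt s u = 40)
    (hx : nrm x = 32) (h1 : dt x u = 32) (h2 : dt x s = 16) :
    ∃ g : Co0, g • u = e8 none ∧ g • s = s5 none ∧ g • x = v4m none (some 0) := by
  obtain ⟨g, hg, hg'⟩ := trans86 hu hs h
  have h3 := dt_smul g x u
  rw [hg, dt_e8, h1] at h3
  obtain ⟨j, hj, h4⟩ := shape44 (x := g • x) (i := none) (by rw [nrm_smul, hx]) (by omega)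
  have h5 := dt_smul g x s
  rw [hg', h2] at h5
  have h6 : g • x = v4m none j := h4.resolve_left fun h7 => by
    rw [h7, dt_v44_s5 hj] at h5; omega
  obtain ⟨σ, hσ, e1, e2⟩ := Golay.M24_trans_two hj.symm none_ne_zero
  exact ⟨permEl σ hσ * g, by rw [mul_smul, hg, permEl_e8, e1],
    by rw [mul_smul, hg', permEl_s5, e1], by rw [mul_smul, h6, permEl_v4m, e1, e2]⟩

theorem trans84 {u x : leechLattice} (hu : nrm u = 64) (hx : nrm x = 32) (h1 : dt x u = 32) :
    ∃ g : Co0, g • u = e8 none ∧ g • x = v44 none (some 0) := by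
  obtain ⟨g, hg⟩ := trans64 hu
  have h3 := dt_smul g x u
  rw [hg, dt_e8, h1] at h3
  obtain ⟨j, hj, h4⟩ := shape44 (x := g • x) (i := none) (by rw [nrm_smul, hx]) (by omega)
  obtain ⟨σ, hσ, e1, e2⟩ := Golay.M24_trans_two hj.symm none_ne_zero
  rcases h4 with h4 | h4
  · exact ⟨permEl σ hσ * g, by rw [mul_smul, hg, permEl_e8, e1],
      by rw [mul_smul, h4, permEl_v44, e1, e2]⟩
  · obtain ⟨c, hc, h5, h6⟩ := exists_sep hj.symm
    have h7 : sgnEl c hc • v4m none j = v44 none j := Subtype.ext (funext fun k => by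
      rw [sgnEl_apply, v4m_apply, v44_apply]
      unfold sgn del
      by_cases h8 : k = none
      · subst h8; simp [h5, hj.symm]
      · by_cases h9 : k = j
        · subst h9; simp [h6, h8]
        · simp [h8, h9])
    exact ⟨permEl σ hσ * (sgnEl c hc * g),
      by rw [mul_smul, mul_smul, hg, sgnEl_e8 c hc h5, permEl_e8, e1],
      by rw [mul_smul, mul_smul, h4, h7, permEl_v44, e1, e2]⟩

theorem trans32 {x : leechLattice} (hx : nrm x = 32) : ∃ g : Co0, g • x = v44 none (some 0) := by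
  obtain ⟨i, -, j, -, hij, h⟩ := Finset.exists_ne_map_eq_of_card_lt_of_maps_to
    (s := (univ : Finset GolayPt)) (t := Finset.Icc (0 : ℤ) 5) (f := fun i => |x.1 i|)
    (by rw [Finset.card_univ, card_pt]; decide) (fun i _ => by
      have h1 := sq_le_sqNorm x.1 i
      have h2 : |x.1 i| ^ 2 = x.1 i ^ 2 := sq_abs _
      have h3 := abs_nonneg (x.1 i)
      have h4 : sqNorm x.1 = 32 := hx
      simp only [Finset.coe_Icc, Set.mem_Icc]
      exact ⟨h3, by nlinarith⟩)
  have key : ∃ z, nrm z = 32 ∧ dt x z = 0 := by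
    rcases abs_eq_abs.mp h with h | h
    · exact ⟨v4m i j, nrm_v4m hij, by rw [dt_v4m]; omega⟩
    · exact ⟨v44 i j, nrm_v44 hij, by rw [dt_v44]; omega⟩
  obtain ⟨z, h1, h2⟩ := key
  obtain ⟨g, -, hg⟩ := trans84 (u := x + z) (by rw [nrm_add, hx, h1, h2]; rfl) hx
    (by rw [dt_add_right, dt_self, hx, h2]; rfl)
  exact ⟨g, hg⟩

theorem trans48 {s : leechLattice} (hs : nrm s = 48) : ∃ g : Co0, g • s = s5 none := by
  have hs' : sqNorm s.1 = 48 := hs
  have key : ∃ i j, i ≠ j ∧ (s.1 i + s.1 j = 2 ∨ s.1 i + s.1 j = -2 ∨ s.1 i - s.1 j = 2 ∨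
      s.1 i - s.1 j = -2) := by
    rcases leech_cases s.2 with ⟨c, hc, z, h1, h2⟩ | ⟨c, hc, z, h1, h2⟩
    · have hc0 : 8 ≤ c.card := by
        by_contra h
        have h3 := gc_eq_empty_of_lt hc (by omega)
        subst h3
        choose t ht using fun i => sq_mod_two (z i)
        have h5 : sqNorm s.1 = 16 * ∑ i, z i + 32 * ∑ i, t i := by
          rw [Finset.mul_sum, Finset.mul_sum, ← Finset.sum_add_distrib]
          refine Finset.sum_congr rfl fun i _ => ?_
          rw [h1 i]; simp only [ind, Finset.notMem_empty, if_false]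
          linear_combination 16 * ht i
        omega
      have h3 : ∃ i, s.1 i = 2 ∨ s.1 i = -2 := by
        by_contra h
        push Not at h
        have := card_mul_le_sqNorm (x := s.1) (c := c) (k := 36) fun i hi => by
          have h4 := h1 i
          have h5 := h i
          simp only [ind, hi, if_true] at h4
          have : 6 ≤ s.1 i ∨ s.1 i ≤ -6 := by omega
          rcases this with h6 | h6 <;> nlinarith
        omega
      have h4 : ∃ j, s.1 j = 0 := by
        by_contra h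
        push Not at h
        have := card_mul_le_sqNorm (x := s.1) (c := univ) (k := 4) fun i _ => by
          have h4 := h1 i
          have h5 := h i
          have : 2 ≤ s.1 i ∨ s.1 i ≤ -2 := by omega
          rcases this with h6 | h6 <;> nlinarith
        rw [Finset.card_univ, card_pt] at this
        omega
      obtain ⟨i, hi⟩ := h3
      obtain ⟨j, hj⟩ := h4
      exact ⟨i, j, by rintro rfl; omega, by omega⟩
    · have hodd : ∀ i, s.1 i % 2 = 1 := fun i => by
        rw [h1 i]; unfold sgn; split_ifs <;> omega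
      have h3 : 1 < (univ.filter fun i => s.1 i ^ 2 = 1).card := by
        by_contra h
        have h4 := card_mul_le_sqNorm (x := s.1) (c := (univ.filter fun i => s.1 i ^ 2 = 1)ᶜ)
          (k := 9) fun i hi => (sq_odd_cases (hodd i)).resolve_left (by simpa using hi)
        rw [card_compl_pt] at h4
        omega
      obtain ⟨i, hi, j, hj, hij⟩ := Finset.one_lt_card.mp h3
      have h4 := sq_eq_one_cases (Finset.mem_filter.mp hi).2
      have h5 := sq_eq_one_cases (Finset.mem_filter.mp hj).2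
      exact ⟨i, j, hij, by omega⟩
  obtain ⟨i, j, hij, h⟩ := key
  have key2 : ∃ w, nrm w = 32 ∧ dt s w = -8 := by
    rcases h with h | h | h | h
    · exact ⟨-v44 i j, by rw [nrm_neg, nrm_v44 hij], by rw [dt_neg_right, dt_v44]; omega⟩
    · exact ⟨v44 i j, nrm_v44 hij, by rw [dt_v44]; omega⟩
    · exact ⟨-v4m i j, by rw [nrm_neg, nrm_v4m hij], by rw [dt_neg_right, dt_v4m]; omega⟩
    · exact ⟨v4m i j, nrm_v4m hij, by rw [dt_v4m]; omega⟩
  obtain ⟨w, h1, h2⟩ := key2
  obtain ⟨g, -, hg⟩ := trans86 (u := s + w) (by rw [nrm_add, hs, h1, h2]; rfl) hs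
    (by rw [dt_add_right, dt_self, hs, h2]; rfl)
  exact ⟨g, hg⟩

/-- the even minimal vectors at inner product `24` with `(5, 1^23)` -/
theorem even552 {x : leechLattice} (hx : nrm x = 32) (h : dt x (s5 none) = 24)
    (hev : x.1 none % 2 = 0) :
    (∃ j, j ≠ none ∧ x = v44 none j) ∨ ∃ c, ∃ hc : c ∈ octads, none ∈ c ∧ x = oct2 c hc.1 := by
  have hx' : sqNorm x.1 = 32 := hx
  have h0 := h
  rw [dt_s5] at h
  rcases leech_cases x.2 with ⟨c, hc, z, h1, h2⟩ | ⟨c, hc, z, h1, h2⟩
  · have h3 := four_card_le h1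
    have h4 : c.card = 0 ∨ c.card = 8 := by
      have := gc_card hc
      omega
    rcases h4 with h4 | h4
    · left
      rw [Finset.card_eq_zero] at h4
      subst h4
      simp only [ind, Finset.notMem_empty, if_false, mul_zero, zero_add] at h1
      have h5 : sqNorm x.1 = 16 * sqNorm z := by
        unfold sqNorm
        rw [Finset.mul_sum]
        exact Finset.sum_congr rfl fun i _ => by rw [h1 i]; ring
      have h6 : ∑ i, x.1 i = 4 * ∑ i, z i := by
        rw [Finset.mul_sum]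
        exact Finset.sum_congr rfl fun i _ => h1 i
      have h7 := sum_le_sqNorm z
      have h8 := sq_le_sqNorm z none
      have h9 := h1 none
      have h10 : z none ≤ 1 := by nlinarith
      obtain ⟨j, hj, h11⟩ := shape44 hx (i := none) (by omega)
      refine ⟨j, hj, h11.resolve_right fun h12 => ?_⟩
      rw [h12, dt_v4m_s5 hj] at h0
      omega
    · right
      obtain ⟨h5, h6⟩ := tight_shape (x := x.1) (c := c) (k := 4) (fun i hi => by
        have h7 := h1 i
        simp only [ind, hi, if_true] at h7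
        have : 2 ≤ x.1 i ∨ x.1 i ≤ -2 := by omega
        rcases this with h6 | h6 <;> nlinarith) (by rw [hx', h4]; norm_num)
      have h7 : ∀ i ∈ (univ : Finset GolayPt), x.1 i ≤ 2 * ind c i := by
        intro i _
        unfold ind
        split_ifs with hi
        · have := h5 i hi; nlinarith
        · rw [h6 i hi]; rfl
      have h8 := Finset.sum_le_sum h7
      have h9 : ∑ i, 2 * ind c i = 16 := by rw [← Finset.mul_sum, sum_ind, h4]; rfl
      have h10 := h7 none (mem_univ _)
      have h11 : ind c none ≤ 1 := by unfold ind; split_ifs <;> norm_num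
      refine ⟨c, ⟨hc, h4⟩, ?_, Subtype.ext (funext fun k => ?_)⟩
      · by_contra h12
        have := h6 none h12
        omega
      · exact (Finset.sum_eq_sum_iff_of_le h7).mp (by omega) k (mem_univ k)
  · exfalso
    have := h1 none
    unfold sgn at this
    split_ifs at this <;> omega

theorem s5_sub_v44 (i j : GolayPt) : s5 i - v44 i j = m3 j :=
  Subtype.ext (funext fun k => by
    show (s5 i).1 k - (v44 i j).1 k = _
    rw [s5_apply, v44_apply, m3_apply]; ring)

theorem trans64p {s x : leechLattice} (hs : nrm s = 48) (hx : nrm x = 32) (h : dt x s = 24) :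
    ∃ g : Co0, g • s = s5 none ∧ g • x = v44 none (some 0) := by
  have A : ∀ x : leechLattice, nrm x = 32 → dt x (s5 none) = 24 → (∃ j, j ≠ none ∧ x.1 j = x.1 none) →
      ∃ g : Co0, g • s5 none = s5 none ∧ g • x = v44 none (some 0) := by
    rintro x hx h ⟨j, hj, h1⟩
    have h2 : dt x (v4m none j) = 0 := by rw [dt_v4m]; omega
    obtain ⟨g, -, hg⟩ := trans864p (u := x + v4m none j) (s := s5 none) (x := x)
      (by rw [nrm_add, hx, h2, nrm_v4m hj.symm]; rfl) (nrm_s5 _)
      (by rw [dt_comm, dt_add_left, h, dt_v4m_s5 hj]; rfl) hx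
      (by rw [dt_add_right, dt_self, hx, h2]; rfl) h
    exact ⟨g, hg⟩
  have B : ∀ x : leechLattice, nrm x = 32 → dt x (s5 none) = 24 → x.1 none % 2 = 0 →
      ∃ g : Co0, g • s5 none = s5 none ∧ g • x = v44 none (some 0) := by
    intro x hx h hev
    refine A x hx h ?_
    rcases even552 hx h hev with ⟨j, hj, rfl⟩ | ⟨c, hc, h1, rfl⟩
    · exact ⟨j, hj, by rw [v44_apply, v44_apply, del_self, del_self, del_ne hj, del_ne hj.symm]; rfl⟩
    · obtain ⟨j, hj, h2⟩ := Finset.exists_mem_ne (s := c) (by rw [hc.2]; norm_num) none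
      exact ⟨j, h2, by simp [oct2_apply, ind, hj, h1]⟩
  obtain ⟨g, hg⟩ := trans48 hs
  have h1 : nrm (g • x) = 32 := by rw [nrm_smul, hx]
  have h2 : dt (g • x) (s5 none) = 24 := by rw [← hg, dt_smul, h]
  rcases Int.emod_two_eq_zero_or_one ((g • x).1 none) with h3 | h3
  · obtain ⟨g', e1, e2⟩ := B _ h1 h2 h3
    exact ⟨g' * g, by rw [mul_smul, hg, e1], by rw [mul_smul, e2]⟩
  · obtain ⟨g', e1, e2⟩ := B (s5 none - g • x) (by rw [nrm_sub, nrm_s5, dt_comm, h2, h1]; rfl)
      (by rw [dt_sub_left, dt_self, nrm_s5, h2]; rfl) (by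
        show ((s5 none).1 none - (g • x).1 none) % 2 = 0
        rw [s5_apply]; omega)
    rw [co_sub, e1, sub_eq_iff_eq_add, ← sub_eq_iff_eq_add', s5_sub_v44] at e2
    obtain ⟨g'', e3, e4⟩ := A (m3 (some 0)) (nrm_m3 _)
      (by rw [dt_s5, sum_m3, m3_apply, del_ne none_ne_zero]; rfl)
      ⟨some 1, by simp, by
        rw [m3_apply, m3_apply, del_ne none_ne_zero, del_ne (by decide)]⟩
    exact ⟨g'' * (g' * g), by rw [mul_smul, mul_smul, hg, e1, e3],
      by rw [mul_smul, mul_smul, ← e2, e4]⟩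

theorem quad_sum {x : GolayPt → ℤ} (a b : ℤ) (h : ∀ j, j ≠ none → 0 ≤ x j ^ 2 + a * x j + b) :
    0 ≤ (sqNorm x - x none ^ 2) + a * (∑ i, x i - x none) + 23 * b := by
  have h1 : 0 ≤ ∑ j ∈ univ.erase none, (x j ^ 2 + a * x j + b) :=
    Finset.sum_nonneg fun j hj => h j (Finset.mem_erase.mp hj).1
  rw [Finset.sum_add_distrib, Finset.sum_add_distrib, ← Finset.mul_sum, Finset.sum_const,
    Finset.card_erase_of_mem (mem_univ _), Finset.card_univ, card_pt] at h1
  rw [sqNorm_split x none, ← Finset.add_sum_erase univ x (mem_univ none)]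
  simp only [nsmul_eq_mul] at h1
  push_cast at h1
  linarith

theorem exists_partner {x : leechLattice} (hx : nrm x = 32) (h : dt x (s5 none) = 16) :
    ∃ j, j ≠ none ∧ (x.1 none + x.1 j = 0 ∨ x.1 none + x.1 j = 4) := by
  by_contra hc
  push Not at hc
  have hx' : sqNorm x.1 = 32 := hx
  rw [dt_s5] at h
  have hp := fun j => parity_eq x.2 j none
  have h1 := sq_le_sqNorm x.1 none
  have h2 : x.1 none ≤ 5 := by nlinarith
  have h3 : -5 ≤ x.1 none := by nlinarith
  generalize ha : x.1 none = a at *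
  have big : ∀ {t : ℤ}, 2 ≤ t ∨ t ≤ -2 → 0 ≤ t ^ 2 + 0 * t + -4 := by
    rintro t (h | h) <;> nlinarith
  have o1 : ∀ {t : ℤ}, 1 ≤ t ∨ t ≤ -1 → 0 ≤ t ^ 2 + 0 * t + -1 := by
    rintro t (h | h) <;> nlinarith
  have o2 : ∀ {t : ℤ}, 1 ≤ t ∨ t ≤ -3 → 0 ≤ t ^ 2 + 2 * t + -3 := by
    rintro t (h | h) <;> nlinarith
  have o3 : ∀ {t : ℤ}, 3 ≤ t ∨ t ≤ -1 → 0 ≤ t ^ 2 + -2 * t + -3 := by
    rintro t (h | h) <;> nlinarith
  have o4 : ∀ {t : ℤ}, 4 ≤ t ∨ t ≤ 0 → 0 ≤ t ^ 2 + -4 * t + 0 := by
    rintro t (h | h) <;> nlinarith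
  have o5 : ∀ {t : ℤ}, 1 ≤ t ∨ t ≤ 0 → 0 ≤ t ^ 2 + -1 * t + 0 := by
    rintro t (h | h) <;> nlinarith
  interval_cases a
  · have := quad_sum (x := x.1) _ _ fun j hj => o1 (by have := hp j; omega)
    rw [ha] at this; omega
  · have := quad_sum (x := x.1) _ _ fun j hj => o5 (by omega)
    rw [ha] at this; omega
  · have := quad_sum (x := x.1) _ _ fun j hj => o5 (by omega)
    rw [ha] at this; omega
  · have := quad_sum (x := x.1) _ _ fun j hj => o4 (by have := hp j; have := hc j hj; omega)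
    rw [ha] at this; omega
  · have := quad_sum (x := x.1) _ _ fun j hj => o3 (by have := hp j; have := hc j hj; omega)
    rw [ha] at this; omega
  · have := quad_sum (x := x.1) _ _ fun j hj => big (by have := hp j; have := hc j hj; omega)
    rw [ha] at this; omega
  · have := quad_sum (x := x.1) _ _ fun j hj => o2 (by have := hp j; have := hc j hj; omega)
    rw [ha] at this; omega
  · have h4 := filter_mem_GC x.2 2
    have h5 : (univ.filter fun i => x.1 i % 4 = 2 % 4) = {none} := by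
      ext j
      simp only [Finset.mem_filter, mem_univ, true_and, Finset.mem_singleton]
      constructor
      · intro h6
        by_contra hj
        have h7 := hc j hj
        have h8 := sq_le_sqNorm x.1 j
        have : 6 ≤ x.1 j ∨ x.1 j ≤ -6 := by omega
        rcases this with h9 | h9 <;> nlinarith
      · rintro rfl; rw [ha]
    rw [h5] at h4
    have := gc_four_dvd h4
    simp at this
  · have := quad_sum (x := x.1) _ _ fun j hj => o3 (by have := hp j; have := hc j hj; omega)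
    rw [ha] at this; omega
  · have := quad_sum (x := x.1) _ _ fun j hj => big (by have := hp j; have := hc j hj; omega)
    rw [ha] at this; omega
  · have := quad_sum (x := x.1) _ _ fun j hj => o1 (by have := hp j; omega)
    rw [ha] at this; omega

theorem dt_m3_s5 {j : GolayPt} (h : j ≠ none) : dt (m3 j) (s5 none) = 24 := by
  rw [dt_s5, sum_m3, m3_apply, del_ne h.symm]; rfl

theorem trans64m {s x : leechLattice} (hs : nrm s = 48) (hx : nrm x = 32) (h : dt x s = 16) :
    ∃ g : Co0, g • s = s5 none ∧ g • x = v4m none (some 0) := by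
  obtain ⟨g, hg⟩ := trans48 hs
  have h1 : nrm (g • x) = 32 := by rw [nrm_smul, hx]
  have h2 : dt (g • x) (s5 none) = 16 := by rw [← hg, dt_smul, h]
  obtain ⟨j, hj, h3⟩ := exists_partner h1 h2
  have key : ∃ z, nrm z = 32 ∧ dt (g • x) z = 0 ∧ dt z (s5 none) = 24 := by
    rcases h3 with h3 | h3
    · exact ⟨v44 none j, nrm_v44 hj.symm, by rw [dt_v44]; omega, dt_v44_s5 hj⟩
    · exact ⟨m3 j, nrm_m3 _, by rw [← s5_sub_v44 none, dt_sub_right, h2, dt_v44]; omega,
        dt_m3_s5 hj⟩
  obtain ⟨z, e1, e2, e3⟩ := key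
  obtain ⟨g', -, e4, e5⟩ := trans864m (u := g • x + z) (s := s5 none) (x := g • x)
    (by rw [nrm_add, h1, e1, e2]; rfl) (nrm_s5 _)
    (by rw [dt_comm, dt_add_left, h2, e3]; rfl) h1
    (by rw [dt_add_right, dt_self, h1, e2]; rfl) h2
  exact ⟨g' * g, by rw [mul_smul, hg, e4], by rw [mul_smul, e5]⟩

end Cfsg.Lib.Leech
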