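import Cfsg.Agent.Lib.Leech.UniqueC
import Cfsg.Agent.Lib.Leech.Theta

/-! `Co0` is transitive on the vectors of norm 64. -/

set_option autoImplicit false

namespace Cfsg.Lib.Leech

open Finset
open scoped Pointwise symmDiff

theorem dot_smul_left {α : Type*} [Fintype α] (k : ℤ) (x y : α → ℤ) :
    dotInt (k • x) y = k * dotInt x y := by
  simp only [dotInt, Pi.smul_apply, smul_eq_mul, mul_assoc, Finset.mul_sum]

/-- the customary bilinear form on the Leech lattice -/
def leechForm : LinearMap.BilinForm ℤ leechLattice :=
  LinearMap.mk₂ ℤ (fun x y => dt x y / 8)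
    (fun x y z => by
      have h1 := eight_dvd_dt x z
      have h2 := dt_add_left x y z
      omega)
    (fun k x y => by
      obtain ⟨t, ht⟩ := eight_dvd_dt x y
      have h2 : dt (k • x) y = k * dt x y := dot_smul_left k _ _
      rw [h2, ht, smul_eq_mul, mul_left_comm]; simp)
    (fun x y z => by
      have h1 := eight_dvd_dt x z
      have h2 := dt_add_right x y z
      omega)
    (fun k x y => by
      obtain ⟨t, ht⟩ := eight_dvd_dt x y
      have h2 : dt x (k • y) = k * dt x y := by
        rw [dt_comm, dt_comm x]; exact dot_smul_left k _ _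
      rw [h2, ht, smul_eq_mul, mul_left_comm]; simp)

theorem leechForm_self (x : leechLattice) : 8 * leechForm x x = nrm x := by
  show 8 * (dt x x / 8) = _
  have := eight_dvd_dt x x
  rw [dt_self] at *
  omega

theorem exists_leech_coord : Nonempty (leechLattice ≃+ (Fin 24 → ℤ)) := by
  have hinj : Function.Injective leechLattice.subtype.toIntLinearMap := Subtype.val_injective
  have : Module.Finite ℤ leechLattice := Module.Finite.of_injective _ hinj
  have : Module.Free ℤ leechLattice := Module.free_of_finite_type_torsion_free'
  have h1 := LinearMap.finrank_le_finrank_of_injective hinj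
  let m : (GolayPt → ℤ) →+ leechLattice := AddMonoidHom.mk'
    (fun x => ⟨fun i => 8 * x i, even_mem empty_mem_GC (fun i => 2 * x i)
      (by rw [← Finset.mul_sum]; omega) fun i => by simp [ind]; ring⟩)
    fun x y => Subtype.ext (funext fun i => mul_add _ _ _)
  have hm : Function.Injective m.toIntLinearMap := by
    intro x y h
    funext i
    have : 8 * x i = 8 * y i := congrArg (fun z : leechLattice => z.1 i) h
    omega
  have h2 := LinearMap.finrank_le_finrank_of_injective hm
  rw [Module.finrank_fintype_fun_eq_card, card_pt] at h1 h2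
  exact ⟨(Module.finBasisOfFinrankEq ℤ leechLattice (le_antisymm h1 h2)).equivFun.toAddEquiv⟩

theorem ncard_nrm (N : ℤ) : {x : leechLattice | nrm x = N}.ncard =
    {x : GolayPt → ℤ | x ∈ leechLattice ∧ sqNorm x = N}.ncard := by
  rw [← Set.ncard_image_of_injective _ Subtype.val_injective]
  congr 1
  ext x
  simp [nrm, and_comm]

theorem ncard_nrm32 : {x : leechLattice | nrm x = 32}.ncard = 196560 := by
  rw [ncard_nrm, leech_count32]

theorem ncard_nrm48 : {x : leechLattice | nrm x = 48}.ncard = 16773120 := by
  rw [ncard_nrm, leech_count48]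

theorem ncard_nrm64 : {x : leechLattice | nrm x = 64}.ncard = 398034000 := by
  rw [ncard_nrm, leech_count64]

theorem leechLike_leech (e : leechLattice ≃+ (Fin 24 → ℤ)) : LeechLike leechForm e where
  symm x y := by
    show dt x y / 8 = dt y x / 8
    rw [dt_comm]
  pos x hx := by
    have h1 := leechForm_self x
    have h2 := nrm_min hx
    omega
  even x := by
    have h1 := leechForm_self x
    have h2 : (16 : ℤ) ∣ nrm x := leech_sixteen_dvd x.2
    omega
  no2 x h := by
    have h1 := leechForm_self x
    have h2 := nrm_min (x := x) (by rintro rfl; simp at h)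
    omega
  h4 := by
    rw [← ncard_nrm32]; congr 1; ext x
    have h1 := leechForm_self x
    simp only [Set.mem_ofPred_eq]; omega
  h6 := by
    rw [← ncard_nrm48]; congr 1; ext x
    have h1 := leechForm_self x
    simp only [Set.mem_ofPred_eq]; omega
  h8 := by
    rw [← ncard_nrm64]; congr 1; ext x
    have h1 := leechForm_self x
    simp only [Set.mem_ofPred_eq]; omega

theorem trans64 {u : leechLattice} (hu : nrm u = 64) : ∃ g : Co0, g • u = e8 none := by
  obtain ⟨e⟩ := exists_leech_coord
  obtain ⟨f, hf, i, hi⟩ := (leechLike_leech e).exists_iso (v := u) (by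
    have := leechForm_self u; omega)
  let g : Co0 := ⟨f.toEquiv, fun v w => f.map_add v w, fun v => (hf v).trans (leechForm_self v)⟩
  obtain ⟨σ, hσ, h⟩ := Golay.M24_trans_one i none
  rcases hi with hi | hi
  · refine ⟨permEl σ hσ * g, ?_⟩
    rw [mul_smul, show g • u = e8 i from hi, permEl_e8, h]
  · refine ⟨permEl σ hσ * (sgnEl univ univ_mem_GC * g), ?_⟩
    rw [mul_smul, mul_smul, show g • u = -e8 i from hi, sgnEl_univ, neg_neg, permEl_e8, h]

end Cfsg.Lib.Leech
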