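import Cfsg.Agent.Lib.Leech.Mono

/-! Lattices in `ℤ^24` containing `4 D₂₄` with the Leech invariants: the code and its dimension. -/

set_option autoImplicit false

namespace Cfsg.Lib.Leech

open Finset
open scoped Pointwise symmDiff

section shapes
variable {ι : Type*} [Fintype ι] [DecidableEq ι]

theorem tight_shape {x : ι → ℤ} {c : Finset ι} {k : ℤ} (h1 : ∀ i ∈ c, k ≤ x i ^ 2)
    (h2 : sqNorm x ≤ k * c.card) : (∀ i ∈ c, x i ^ 2 = k) ∧ ∀ i, i ∉ c → x i = 0 := by
  have h3 : ∀ i ∈ (univ : Finset ι), (if i ∈ c then k else 0) ≤ x i ^ 2 := by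
    intro i _
    split_ifs with h
    · exact h1 i h
    · exact sq_nonneg _
  have h4 : ∑ i, (if i ∈ c then k else 0) = k * c.card := by
    simp [mul_comm]
  have h5 : ∑ i, (if i ∈ c then k else 0) = ∑ i, x i ^ 2 :=
    le_antisymm (Finset.sum_le_sum h3) (h4 ▸ h2)
  have h6 := (Finset.sum_eq_sum_iff_of_le h3).mp h5
  constructor
  · intro i hi
    have := h6 i (mem_univ i)
    rw [if_pos hi] at this
    exact this.symm
  · intro i hi
    have := h6 i (mem_univ i)
    rw [if_neg hi] at this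
    exact pow_eq_zero_iff (two_ne_zero) |>.mp this.symm

theorem one_le_sq_of_odd {a : ℤ} (h : a % 2 = 1) : 1 ≤ a ^ 2 :=
  (one_le_sq_iff_one_le_abs _).mpr (Int.one_le_abs (by omega))

theorem sq_odd_cases {a : ℤ} (h : a % 2 = 1) : a ^ 2 = 1 ∨ 9 ≤ a ^ 2 := by
  have : a = 1 ∨ a = -1 ∨ 3 ≤ a ∨ a ≤ -3 := by omega
  rcases this with h | h | h | h
  · left; rw [h]; rfl
  · left; rw [h]; rfl
  · right; nlinarith
  · right; nlinarith

theorem sqNorm_split (x : ι → ℤ) (p : ι) :
    sqNorm x = x p ^ 2 + ∑ i ∈ univ.erase p, x i ^ 2 :=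
  (Finset.add_sum_erase univ (fun i => x i ^ 2) (mem_univ p)).symm

/-- an odd vector whose other coordinates contribute at most `23` has them all `±1` -/
theorem odd_rest (hι : Fintype.card ι = 24) {x : ι → ℤ} (h : ∀ i, x i % 2 = 1) (p : ι)
    (h2 : sqNorm x ≤ x p ^ 2 + 23) : sqNorm x = x p ^ 2 + 23 ∧ ∀ i, i ≠ p → x i ^ 2 = 1 := by
  have h3 : ∀ i ∈ univ.erase p, (1 : ℤ) ≤ x i ^ 2 := fun i _ => one_le_sq_of_odd (h i)
  have h4 : ∑ _i ∈ univ.erase p, (1 : ℤ) = 23 := by
    simp [Finset.card_erase_of_mem, hι]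
  have h5 := Finset.sum_le_sum h3
  have h6 := sqNorm_split x p
  refine ⟨by omega, fun i hi => ?_⟩
  exact ((Finset.sum_eq_sum_iff_of_le h3).mp (by omega) i (by simp [hi])).symm

theorem odd32_shape (hι : Fintype.card ι = 24) {x : ι → ℤ} (h : ∀ i, x i % 2 = 1)
    (h2 : sqNorm x = 32) : ∃ p, x p ^ 2 = 9 ∧ ∀ i, i ≠ p → x i ^ 2 = 1 := by
  have : ∃ p, 9 ≤ x p ^ 2 := by
    by_contra hc
    push Not at hc
    have : sqNorm x = ∑ _i : ι, (1 : ℤ) := Finset.sum_congr rfl fun i _ =>
      (sq_odd_cases (h i)).resolve_right (not_le.mpr (hc i))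
    simp [hι] at this
    omega
  obtain ⟨p, hp⟩ := this
  obtain ⟨h3, h4⟩ := odd_rest hι h p (by omega)
  exact ⟨p, by omega, h4⟩

theorem sq_eq_one_cases {a : ℤ} (h : a ^ 2 = 1) : a = 1 ∨ a = -1 := by
  have : (a - 1) * (a + 1) = 0 := by linarith
  rcases mul_eq_zero.mp this with h | h
  · left; omega
  · right; omega

theorem sq_eq_sq_cases {a b : ℤ} (h : a ^ 2 = b ^ 2) : a = b ∨ a = -b :=
  sq_eq_sq_iff_eq_or_eq_neg.mp h

/-- an integer vector of norm `2` has two nonzero coordinates, both `±1` -/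
theorem norm2_shape {z : ι → ℤ} (h : sqNorm z = 2) :
    (univ.filter fun i => z i ≠ 0).card = 2 ∧ ∀ i, z i ≠ 0 → z i ^ 2 = 1 := by
  have h1 : ∀ i, z i ≠ 0 → z i ^ 2 = 1 := by
    intro i hi
    have h2 := sq_le_sqNorm z i
    have : z i = 1 ∨ z i = -1 ∨ 2 ≤ z i ∨ z i ≤ -2 := by omega
    rcases this with h3 | h3 | h3 | h3
    · rw [h3]; rfl
    · rw [h3]; rfl
    · nlinarith
    · nlinarith
  refine ⟨?_, h1⟩
  have h2 : sqNorm z = ((univ.filter fun i => z i ≠ 0).card : ℤ) := by
    rw [Finset.card_filter]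
    push_cast
    refine Finset.sum_congr rfl fun i _ => ?_
    split_ifs with h3
    · exact h1 i h3
    · rw [not_not.mp h3]; rfl
  omega

end shapes

/-- The properties of the coordinate image of a lattice with respect to a frame. -/
structure FrameLat {ι : Type*} [Fintype ι] (M : AddSubgroup (ι → ℤ)) : Prop where
  card : Fintype.card ι = 24
  dvd : ∀ x ∈ M, (16 : ℤ) ∣ sqNorm x
  ne16 : ∀ x ∈ M, sqNorm x ≠ 16
  four : ∀ z : ι → ℤ, (∑ i, z i) % 2 = 0 → (fun i => 4 * z i) ∈ M
  cnt : {x | x ∈ M ∧ sqNorm x = 32}.ncard = 196560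

variable {ι : Type*} [Fintype ι] [DecidableEq ι] {M : AddSubgroup (ι → ℤ)}

theorem FrameLat.dvd_dot (H : FrameLat M) {x y : ι → ℤ} (hx : x ∈ M) (hy : y ∈ M) :
    (8 : ℤ) ∣ dotInt x y := by
  have h1 := H.dvd x hx
  have h2 := H.dvd y hy
  have h3 := H.dvd _ (M.add_mem hx hy)
  rw [sqNorm_add] at h3
  omega

theorem FrameLat.par (H : FrameLat M) {x : ι → ℤ} (hx : x ∈ M) (i j : ι) : x i % 2 = x j % 2 := by
  have h1 := H.dvd_dot hx (H.four (fun k => (if k = i then 1 else 0) - (if k = j then 1 else 0))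
    (by simp [Finset.sum_sub_distrib]))
  have h2 : dotInt x (fun k => 4 * ((if k = i then 1 else 0) - (if k = j then 1 else 0))) =
      4 * x i - 4 * x j := by
    simp only [dotInt, mul_sub, Finset.sum_sub_distrib, mul_ite, mul_one, mul_zero,
      Finset.sum_ite_eq', mem_univ, if_true]
    ring
  omega

theorem FrameLat.four_even (H : FrameLat M) {z : ι → ℤ} (hz : (fun i => 4 * z i) ∈ M) :
    (∑ i, z i) % 2 = 0 := by
  by_contra hc
  obtain ⟨a⟩ : Nonempty ι := Fintype.card_pos_iff.mp (by rw [H.card]; norm_num)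
  have h1 := M.sub_mem hz (H.four (fun k => z k - (if k = a then 1 else 0))
    (by simp [Finset.sum_sub_distrib]; omega))
  refine H.ne16 _ h1 ?_
  simp [sqNorm, mul_sub]

/-- the binary code of a frame lattice -/
def frameCode (M : AddSubgroup (ι → ℤ)) : Submodule (ZMod 2) (ι → ZMod 2) where
  carrier := {w | ∃ y : ι → ℤ, (fun i => 2 * y i) ∈ M ∧ w = fun i => (y i : ZMod 2)}
  zero_mem' := ⟨0, by convert M.zero_mem using 1; funext i; simp, by funext i; simp⟩
  add_mem' := by
    rintro _ _ ⟨y, hy, rfl⟩ ⟨y', hy', rfl⟩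
    refine ⟨y + y', ?_, by funext i; simp⟩
    convert M.add_mem hy hy' using 1
    funext i; simp [mul_add]
  smul_mem' := by
    rintro a _ ⟨y, hy, rfl⟩
    rcases zmod2_cases a with rfl | rfl
    · exact ⟨0, by convert M.zero_mem using 1; funext i; simp, by funext i; simp⟩
    · exact ⟨y, hy, by simp⟩

theorem mem_support_cast (y : ι → ℤ) (i : ι) :
    i ∈ support₂ (fun i => (y i : ZMod 2)) ↔ y i % 2 = 1 := by
  rw [← intCast_zmod2_ne_zero]
  simp only [support₂, Finset.mem_filter, Finset.mem_univ, true_and]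

theorem FrameLat.code_wt (H : FrameLat M) {w : ι → ZMod 2} (hw : w ∈ frameCode M) :
    4 ∣ (support₂ w).card ∧ (support₂ w).card ≠ 4 := by
  obtain ⟨y, hy, rfl⟩ := hw
  set c := support₂ (fun i => (y i : ZMod 2)) with hc
  have hmem : ∀ i, i ∈ c ↔ y i % 2 = 1 := mem_support_cast y
  have hcc : (c.card : ℤ) = ∑ i, if i ∈ c then 1 else 0 := by simp
  have key : ∃ x ∈ M, sqNorm x = 4 * c.card := by
    let t : ι → ℤ := fun i => y i / 2
    by_cases ht : (∑ i, t i) % 2 = 0
    · refine ⟨_, M.sub_mem hy (H.four t ht), ?_⟩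
      rw [hcc, Finset.mul_sum]
      refine Finset.sum_congr rfl fun i _ => ?_
      simp only [Pi.sub_apply, t, hmem]
      split_ifs with h
      · rw [show 2 * y i - 4 * (y i / 2) = 2 by omega]; rfl
      · rw [show 2 * y i - 4 * (y i / 2) = 0 by omega]; rfl
    · rcases c.eq_empty_or_nonempty with h0 | ⟨a, ha⟩
      · exfalso
        refine ht (H.four_even ?_)
        convert hy using 2 with i
        have := hmem i
        simp only [h0, Finset.notMem_empty, false_iff] at this
        simp only [t]; omega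
      · refine ⟨_, M.sub_mem hy (H.four (fun k => t k + if k = a then 1 else 0)
          (by simp [Finset.sum_add_distrib]; omega)), ?_⟩
        rw [hcc, Finset.mul_sum]
        refine Finset.sum_congr rfl fun i _ => ?_
        have ha' := (hmem a).mp ha
        simp only [Pi.sub_apply, t, hmem]
        by_cases hia : i = a
        · subst hia
          rw [if_pos rfl, if_pos ha', show 2 * y i - 4 * (y i / 2 + 1) = -2 by omega]; rfl
        · rw [if_neg hia]
          split_ifs with h
          · rw [show 2 * y i - 4 * (y i / 2 + 0) = 2 by omega]; rfl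
          · rw [show 2 * y i - 4 * (y i / 2 + 0) = 0 by omega]; rfl
  obtain ⟨x, hx, h⟩ := key
  have h1 := H.dvd x hx
  have h2 := H.ne16 x hx
  omega

theorem FrameLat.code_orth (H : FrameLat M) {v w : ι → ZMod 2} (hv : v ∈ frameCode M)
    (hw : w ∈ frameCode M) : ∑ i, v i * w i = 0 := by
  obtain ⟨y, hy, rfl⟩ := hv
  obtain ⟨y', hy', rfl⟩ := hw
  have h1 := H.dvd_dot hy hy'
  have h2 : dotInt (fun i => 2 * y i) (fun i => 2 * y' i) = 4 * ∑ i, y i * y' i := by
    rw [Finset.mul_sum]
    exact Finset.sum_congr rfl fun i _ => by ring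
  have h3 : ((∑ i, y i * y' i : ℤ) : ZMod 2) = 0 := by
    rw [ZMod.intCast_zmod_eq_zero_iff_dvd]; omega
  push_cast at h3
  exact h3

theorem FrameLat.finrank_le (H : FrameLat M) : Module.finrank (ZMod 2) (frameCode M) ≤ 12 := by
  have h1 := finrank_dot2_orth (frameCode M)
  have h2 : frameCode M ≤ (dot2 ι).orthogonal (frameCode M) :=
    fun w hw v hv => H.code_orth hv hw
  have h3 := Submodule.finrank_mono h2
  rw [H.card] at h1
  omega

theorem FrameLat.octads_le (H : FrameLat M) (O : Finset (Finset ι))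
    (hO : ∀ c ∈ O, c.card = 8 ∧ ∃ w ∈ frameCode M, c = support₂ w) : O.card ≤ 759 := by
  have h1 : (O.biUnion fun c => Finset.powersetCard 5 c).card = ∑ c ∈ O, 56 := by
    rw [Finset.card_biUnion]
    · exact Finset.sum_congr rfl fun c hc => by rw [Finset.card_powersetCard, (hO c hc).1]; rfl
    · intro c hc d hd hcd
      rw [Function.onFun, Finset.disjoint_left]
      intro s hs hs'
      rw [Finset.mem_powersetCard] at hs hs'
      obtain ⟨h8, v, hv, rfl⟩ := hO c hc
      obtain ⟨h8', w, hw, rfl⟩ := hO d hd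
      have h2 := H.code_wt (add_mem hv hw)
      rw [Golay.support₂_add] at h2
      have h3 : 5 ≤ (support₂ v ∩ support₂ w).card :=
        hs.2 ▸ Finset.card_le_card (Finset.subset_inter hs.1 hs'.1)
      have h4 : (support₂ v ∆ support₂ w).card + 2 * (support₂ v ∩ support₂ w).card =
          (support₂ v).card + (support₂ w).card := by
        have h1 : (support₂ v ∆ support₂ w) = (support₂ v ∪ support₂ w) \
            (support₂ v ∩ support₂ w) := by
          ext i; simp [Finset.mem_symmDiff]; tauto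
        have h2 : support₂ v ∩ support₂ w ⊆ support₂ v ∪ support₂ w :=
          Finset.inter_subset_left.trans Finset.subset_union_left
        have h3 := Finset.card_union_add_card_inter (support₂ v) (support₂ w)
        have h4 := Finset.card_sdiff_add_card_eq_card h2
        rw [h1]; omega
      have h5 : (support₂ v ∆ support₂ w).card = 0 := by omega
      exact hcd (symmDiff_eq_bot.mp (Finset.card_eq_zero.mp h5))
  have h2 : (O.biUnion fun c => Finset.powersetCard 5 c) ⊆ Finset.powersetCard 5 univ := by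
    intro s hs
    obtain ⟨c, -, h⟩ := Finset.mem_biUnion.mp hs
    exact Finset.mem_powersetCard.mpr ⟨Finset.subset_univ _, (Finset.mem_powersetCard.mp h).2⟩
  have h3 := Finset.card_le_card h2
  rw [h1, Finset.card_powersetCard, Finset.card_univ, H.card, Finset.sum_const,
    show Nat.choose 24 5 = 42504 by decide +kernel, smul_eq_mul] at h3
  omega

/-- shape of the even minimal vectors -/
theorem FrameLat.even32 (H : FrameLat M) {x : ι → ℤ} (hx : x ∈ M) (h32 : sqNorm x = 32)
    (hev : ∀ i, x i % 2 = 0) :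
    ((univ.filter fun i => x i ≠ 0).card = 2 ∧ ∀ i, x i ≠ 0 → x i ^ 2 = 16) ∨
    (((univ.filter fun i => x i ≠ 0).card = 8 ∧
      ∃ w ∈ frameCode M, (univ.filter fun i => x i ≠ 0) = support₂ w) ∧
      ∀ i, x i ≠ 0 → x i ^ 2 = 4) := by
  have hx2 : (fun i => 2 * (x i / 2)) = x := funext fun i => by have := hev i; omega
  have hw : (fun i => ((x i / 2 : ℤ) : ZMod 2)) ∈ frameCode M := ⟨_, hx2.symm ▸ hx, rfl⟩
  have h1 := H.code_wt hw
  set c := support₂ (fun i => ((x i / 2 : ℤ) : ZMod 2)) with hc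
  have hmem : ∀ i, i ∈ c ↔ (x i / 2) % 2 = 1 := mem_support_cast _
  have h2 : ∀ i ∈ c, 4 ≤ x i ^ 2 := by
    intro i hi
    have h3 := (hmem i).mp hi
    have h4 := hev i
    have : 2 ≤ x i ∨ x i ≤ -2 := by omega
    rcases this with h | h <;> nlinarith
  have h3 : 4 * (c.card : ℤ) ≤ 32 := by
    rw [← h32]
    calc 4 * (c.card : ℤ) = ∑ i ∈ c, 4 := by simp [mul_comm]
      _ ≤ ∑ i ∈ c, x i ^ 2 := Finset.sum_le_sum h2
      _ ≤ ∑ i, x i ^ 2 := Finset.sum_le_sum_of_subset_of_nonneg (Finset.subset_univ _)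
        fun _ _ _ => sq_nonneg _
  have h4 : c.card = 0 ∨ c.card = 8 := by omega
  rcases h4 with h4 | h4
  · left
    have h5 : ∀ i, x i = 4 * (x i / 4) := by
      intro i
      have h6 := hmem i
      rw [Finset.card_eq_zero.mp h4] at h6
      simp only [Finset.notMem_empty, false_iff] at h6
      have := hev i
      omega
    have h6 : sqNorm x = 16 * sqNorm (fun i => x i / 4) := by
      unfold sqNorm
      rw [Finset.mul_sum]
      exact Finset.sum_congr rfl fun i _ => by
        conv_lhs => rw [h5 i]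
        ring
    obtain ⟨h7, h8⟩ := norm2_shape (z := fun i => x i / 4) (by omega)
    constructor
    · rw [← h7]
      congr 1
      ext i
      have := h5 i
      simp only [Finset.mem_filter, mem_univ, true_and]
      omega
    · intro i hi
      have h9 := h8 i (by have := h5 i; omega)
      rw [h5 i, mul_pow, h9]; rfl
  · right
    obtain ⟨h5, h6⟩ := tight_shape h2 (by rw [h4, h32]; norm_num)
    have h7 : (univ.filter fun i => x i ≠ 0) = c := by
      ext i
      simp only [Finset.mem_filter, mem_univ, true_and]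
      constructor
      · intro h; by_contra h'; exact h (h6 i h')
      · intro h h'
        have := h5 i h
        rw [h'] at this
        omega
    refine ⟨⟨by rw [h7, h4], _, hw, h7⟩, fun i hi => h5 i ?_⟩
    by_contra h'
    exact hi (h6 i h')

theorem FrameLat.finrank_and_odd (H : FrameLat M) :
    Module.finrank (ZMod 2) (frameCode M) = 12 ∧ ∃ x ∈ M, ∀ i, x i % 2 = 1 := by
  classical
  let sp : (ι → ℤ) → Finset ι := fun x => univ.filter fun i => x i ≠ 0
  let ng : (ι → ℤ) → Finset ι := fun x => univ.filter fun i => x i < 0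
  let T1 : Set (ι → ℤ) := {x | (sp x).card = 2 ∧ ∀ i, x i ≠ 0 → x i ^ 2 = 16}
  let O : Finset (Finset ι) := univ.filter fun c => c.card = 8 ∧ ∃ w ∈ frameCode M, c = support₂ w
  let T2 : Set (ι → ℤ) := {x | x ∈ M ∧ sp x ∈ O ∧ ∀ i, x i ≠ 0 → x i ^ 2 = 4}
  let T3 : Set (ι → ℤ) := {x | x ∈ M ∧ sqNorm x = 32 ∧ ∀ i, x i % 2 = 1}
  obtain ⟨a0⟩ : Nonempty ι := Fintype.card_pos_iff.mp (by rw [H.card]; norm_num)
  have hsub : {x | x ∈ M ∧ sqNorm x = 32} ⊆ T1 ∪ T2 ∪ T3 := by
    rintro x ⟨hx, h32⟩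
    rcases Int.emod_two_eq_zero_or_one (x a0) with h | h
    · left
      rcases H.even32 hx h32 (fun i => (H.par hx i a0).trans h) with h1 | h1
      · exact Or.inl h1
      · exact Or.inr ⟨hx, Finset.mem_filter.mpr ⟨mem_univ _, h1.1⟩, h1.2⟩
    · exact Or.inr ⟨hx, h32, fun i => (H.par hx i a0).trans h⟩
  have hsq : ∀ (k : ℤ) (x y : ι → ℤ) (i : ι), (∀ i, x i ≠ 0 → x i ^ 2 = k) →
      (∀ i, y i ≠ 0 → y i ^ 2 = k) → sp x = sp y → (i ∈ ng x ↔ i ∈ ng y) → x i = y i := by
    intro k x y i hx hy h1 h2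
    have h3 : i ∈ sp x ↔ i ∈ sp y := by rw [h1]
    simp only [sp, ng, Finset.mem_filter, mem_univ, true_and] at h2 h3
    by_cases h0 : x i = 0
    · by_contra h4
      exact (h3.mpr fun h5 => h4 (h0.trans h5.symm)) h0
    · rcases sq_eq_sq_cases ((hx i h0).trans (hy i (h3.mp h0)).symm) with h4 | h4
      · exact h4
      · omega
  have hng : ∀ x, ng x ⊆ sp x := by
    intro x i hi
    simp only [sp, ng, Finset.mem_filter, mem_univ, true_and] at hi ⊢
    omega
  have b1 : T1.Finite ∧ T1.ncard ≤ 1104 := by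
    let S := (Finset.powersetCard 2 (univ : Finset ι)).sigma fun s => s.powerset
    have hS : S.card = 1104 := by
      rw [Finset.card_sigma, Finset.sum_congr rfl (g := fun _ => 4) fun s hs => by
        rw [Finset.card_powerset, (Finset.mem_powersetCard.mp hs).2]; rfl]
      rw [Finset.sum_const, Finset.card_powersetCard, Finset.card_univ, H.card]
      decide +kernel
    have hm : ∀ x ∈ T1, (⟨sp x, ng x⟩ : Σ _ : Finset ι, Finset ι) ∈ (S : Set _) := by
      intro x hx
      simp only [S, Finset.coe_sigma, Set.mem_sigma_iff, Finset.mem_coe, Finset.mem_powersetCard,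
        Finset.mem_powerset]
      exact ⟨⟨Finset.subset_univ _, hx.1⟩, hng x⟩
    have hi : Set.InjOn (fun x => (⟨sp x, ng x⟩ : Σ _ : Finset ι, Finset ι)) T1 := by
      intro x hx y hy h
      simp only [Sigma.mk.injEq, heq_eq_eq] at h
      exact funext fun i => hsq 16 x y i hx.2 hy.2 h.1 (by rw [h.2])
    refine ⟨Set.Finite.of_injOn hm hi S.finite_toSet, ?_⟩
    rw [← hS, ← Set.ncard_coe_finset]
    exact Set.ncard_le_ncard_of_injOn _ hm hi S.finite_toSet
  have b2 : T2.Finite ∧ T2.ncard ≤ 759 * 128 := by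
    have hch : ∀ c : Finset ι, ∃ a, c.Nonempty → a ∈ c := by
      intro c
      by_cases h : c.Nonempty
      · obtain ⟨a, ha⟩ := h; exact ⟨a, fun _ => ha⟩
      · exact ⟨a0, fun h' => absurd h' h⟩
    choose a ha using hch
    let S := O.sigma fun s => (s.erase (a s)).powerset
    have hS : S.card ≤ 759 * 128 := by
      rw [Finset.card_sigma, Finset.sum_congr rfl (g := fun _ => 128) fun s hs => by
        have h8 := (Finset.mem_filter.mp hs).2.1
        rw [Finset.card_powerset, Finset.card_erase_of_mem (ha s (Finset.card_pos.mp (by omega))),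
          h8]; rfl]
      rw [Finset.sum_const, smul_eq_mul]
      exact Nat.mul_le_mul_right _ (H.octads_le O fun c hc => (Finset.mem_filter.mp hc).2)
    have hm : ∀ x ∈ T2, (⟨sp x, (ng x).erase (a (sp x))⟩ : Σ _ : Finset ι, Finset ι) ∈
        (S : Set _) := by
      intro x hx
      simp only [S, Finset.coe_sigma, Set.mem_sigma_iff, Finset.mem_coe, Finset.mem_powerset]
      exact ⟨hx.2.1, Finset.erase_subset_erase _ (hng x)⟩
    have hi : Set.InjOn (fun x => (⟨sp x, (ng x).erase (a (sp x))⟩ : Σ _ : Finset ι, Finset ι))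
        T2 := by
      intro x hx y hy h
      simp only [Sigma.mk.injEq, heq_eq_eq] at h
      obtain ⟨h1, h2⟩ := h
      rw [← h1] at h2
      set b := a (sp x)
      have h3 : ∀ i, i ≠ b → x i = y i := by
        intro i hi
        refine hsq 4 x y i hx.2.2 hy.2.2 h1 ?_
        have : i ∈ (ng x).erase b ↔ i ∈ (ng y).erase b := by rw [h2]
        simpa [hi] using this
      by_contra hne
      have h4 : x b ≠ y b := fun h5 => hne (funext fun i => by
        by_cases hi : i = b
        · rw [hi, h5]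
        · exact h3 i hi)
      have h5 : b ∈ sp x ↔ b ∈ sp y := by rw [h1]
      simp only [sp, Finset.mem_filter, mem_univ, true_and] at h5
      have h6 : x b ≠ 0 := fun h7 => h4 (by
        by_contra h8
        exact (h5.mpr fun h9 => h8 (h7.trans h9.symm)) h7)
      have h7 := hx.2.2 b h6
      have h8 := hy.2.2 b (h5.mp h6)
      refine H.ne16 _ (M.sub_mem hx.1 hy.1) ?_
      rw [sqNorm_split _ b, Finset.sum_eq_zero fun i hi => by
        rw [Pi.sub_apply, h3 i (Finset.mem_erase.mp hi).1]; simp]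
      rcases sq_eq_sq_cases (h7.trans h8.symm) with h9 | h9
      · exact absurd h9 h4
      · rw [Pi.sub_apply, h9]; linarith
    refine ⟨Set.Finite.of_injOn hm hi S.finite_toSet, ?_⟩
    refine le_trans ?_ hS
    rw [← Set.ncard_coe_finset]
    exact Set.ncard_le_ncard_of_injOn _ hm hi S.finite_toSet
  have hcard := Module.natCard_eq_pow_finrank (K := ZMod 2) (V := frameCode M)
  rw [Nat.card_zmod] at hcard
  have b3 : ∀ x0 ∈ T3, T3.Finite ∧ T3.ncard ≤ 24 * Nat.card (frameCode M) := by
    intro x0 hx0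
    have hch : ∀ x : ι → ℤ, ∃ p, x ∈ T3 → x p ^ 2 = 9 ∧ ∀ i, i ≠ p → x i ^ 2 = 1 := by
      intro x
      by_cases h : x ∈ T3
      · obtain ⟨p, hp⟩ := odd32_shape H.card h.2.2 h.2.1; exact ⟨p, fun _ => hp⟩
      · exact ⟨a0, fun h' => absurd h' h⟩
    choose p hp using hch
    let S : Set (ι × (ι → ZMod 2)) := Set.univ ×ˢ (frameCode M : Set (ι → ZMod 2))
    have hS : S.ncard = 24 * Nat.card (frameCode M) := by
      rw [Set.ncard_prod, Set.ncard_univ, Nat.card_eq_fintype_card, H.card]; rfl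
    have hm : ∀ x ∈ T3, (p x, fun i => (((x i - x0 i) / 2 : ℤ) : ZMod 2)) ∈ S := by
      intro x hx
      refine ⟨trivial, fun i => (x i - x0 i) / 2, ?_, rfl⟩
      convert M.sub_mem hx.1 hx0.1 using 2 with i
      have h1 := hx.2.2 i
      have h2 := hx0.2.2 i
      rw [Pi.sub_apply]; beta_reduce; omega
    have hi : Set.InjOn (fun x => (p x, fun i => (((x i - x0 i) / 2 : ℤ) : ZMod 2))) T3 := by
      intro x hx y hy h
      simp only [Prod.mk.injEq] at h
      obtain ⟨h1, h2⟩ := h
      funext i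
      have h3 := (ZMod.intCast_eq_intCast_iff' _ _ 2).mp (congrFun h2 i)
      have h4 := hx.2.2 i
      have h5 := hy.2.2 i
      have h6 := hx0.2.2 i
      have h7 : x i ^ 2 = y i ^ 2 := by
        by_cases hi : i = p x
        · rw [hi, (hp x hx).1, h1, (hp y hy).1]
        · rw [(hp x hx).2 i hi, (hp y hy).2 i (h1 ▸ hi)]
      rcases sq_eq_sq_cases h7 with h8 | h8
      · exact h8
      · push_cast at h3
        omega
    refine ⟨Set.Finite.of_injOn hm hi (Set.toFinite _), ?_⟩
    rw [← hS]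
    exact Set.ncard_le_ncard_of_injOn _ hm hi (Set.toFinite _)
  have hle := H.finrank_le
  rcases T3.eq_empty_or_nonempty with h0 | ⟨x0, hx0⟩
  · exfalso
    rw [h0, Set.union_empty] at hsub
    have h1 := Set.ncard_le_ncard hsub (b1.1.union b2.1)
    have h2 := Set.ncard_union_le T1 T2
    rw [H.cnt] at h1
    omega
  · refine ⟨?_, x0, hx0.1, hx0.2.2⟩
    obtain ⟨b4, b5⟩ := b3 x0 hx0
    have h1 := Set.ncard_le_ncard hsub ((b1.1.union b2.1).union b4)
    have h2 := Set.ncard_union_le T1 T2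
    have h3 := Set.ncard_union_le (T1 ∪ T2) T3
    rw [H.cnt] at h1
    by_contra hne
    have h4 : 2 ^ Module.finrank (ZMod 2) (frameCode M) ≤ 2 ^ 11 :=
      Nat.pow_le_pow_right (by norm_num) (by omega)
    omega

end Cfsg.Lib.Leech
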