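import Cfsg.Agent.Lib.Leech.UniqueA

/-! A frame lattice whose code is the Golay code is the Leech lattice up to signs. -/

set_option autoImplicit false

namespace Cfsg.Lib.Leech

open Finset
open scoped Pointwise symmDiff

variable {M : AddSubgroup (GolayPt → ℤ)}

theorem cast_eq_wordOf {y : GolayPt → ℤ} {c : Finset GolayPt}
    (h : wordOf c = fun i => (y i : ZMod 2)) (i : GolayPt) : y i = ind c i + 2 * (y i / 2) := by
  have h1 := mem_support_cast y i
  rw [← h, support_wordOf] at h1
  unfold ind
  split_ifs with h2 <;> rw [h1] at h2 <;> omega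

theorem frameLat_eq_leech (H : FrameLat M) (hC : frameCode M = golayCode)
    (hP : ∀ y : GolayPt → ℤ, (fun i => 2 * y i) ∈ M → (∑ i, y i) % 4 = 0) : M = leechLattice := by
  have h1 : ∀ x ∈ M, x ∈ leechLattice := by
    intro x hx
    rcases Int.emod_two_eq_zero_or_one (x none) with h | h
    · have hx2 : (fun i => 2 * (x i / 2)) = x := funext fun i => by
        have := H.par hx i none; omega
      refine mem_leech_iff_isL.mpr ⟨0, fun i => x i / 2, fun i => by
        rw [zero_add]; exact (congrFun hx2 i).symm, hP _ (hx2.symm ▸ hx), ?_⟩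
      rw [← hC]
      exact ⟨_, hx2.symm ▸ hx, rfl⟩
    · have hodd : ∀ i, x i % 2 = 1 := fun i => (H.par hx i none).trans h
      let c := univ.filter fun i => x i % 4 = 3
      have hc : c ∈ GC := by
        refine gc_self_dual fun d hd => ?_
        obtain ⟨y, hy, hyd⟩ : wordOf d ∈ frameCode M := hC ▸ mem_GC_iff.mp hd
        have h2 := H.dvd_dot hx hy
        have h3 := hP y hy
        have h4 : dotInt x (fun i => 2 * y i) = 2 * ∑ i, y i + 4 * ∑ i, ind (d ∩ c) i +
            8 * ∑ i, (x i / 4 * y i + ind c i * (y i / 2)) := by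
          unfold dotInt
          rw [Finset.mul_sum, Finset.mul_sum, Finset.mul_sum, ← Finset.sum_add_distrib,
            ← Finset.sum_add_distrib]
          refine Finset.sum_congr rfl fun i _ => ?_
          have h5 := cast_eq_wordOf hyd i
          have h6 : x i = 1 + 2 * ind c i + 4 * (x i / 4) := by
            have := hodd i
            have h7 : i ∈ c ↔ x i % 4 = 3 := by simp [c]
            unfold ind
            split_ifs with h8 <;> rw [h7] at h8 <;> omega
          have h7 : ind (d ∩ c) i = ind d i * ind c i := by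
            unfold ind
            by_cases h8 : i ∈ d <;> by_cases h9 : i ∈ c <;> simp [h8, h9]
          rw [h7]
          beta_reduce
          generalize x i / 4 = q at *
          generalize y i / 2 = r at *
          rw [h6, h5]; ring
        rw [sum_ind] at h4
        rw [Nat.even_iff]
        omega
      have key : ∀ i, x i = sgn c i + 4 * ((x i - sgn c i) / 4) := by
        intro i
        have := hodd i
        have h5 : i ∈ c ↔ x i % 4 = 3 := by simp [c]
        unfold sgn
        split_ifs with h <;> rw [h5] at h <;> omega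
      refine odd_mem hc _ ?_ key
      have h5 : sqNorm x = 24 * 1 + 8 * ∑ i, (x i - sgn c i) / 4 + 16 * ∑ i,
          (((x i - sgn c i) / 4) ^ 2 - ind c i * ((x i - sgn c i) / 4)) := by
        rw [← sum_const_pt, Finset.mul_sum, Finset.mul_sum, ← Finset.sum_add_distrib,
          ← Finset.sum_add_distrib]
        refine Finset.sum_congr rfl fun i _ => ?_
        have h6 := key i
        generalize (x i - sgn c i) / 4 = q at *
        rw [h6]; unfold ind sgn; split_ifs <;> ring
      have := H.dvd x hx
      omega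
  have h2 : ∀ x ∈ leechLattice, x none % 2 = 0 → x ∈ M := by
    intro x hx h
    rcases leech_cases hx with ⟨c, hc, z, h3, h4⟩ | ⟨c, hc, z, h3, h4⟩
    · obtain ⟨y, hy, hyd⟩ : wordOf c ∈ frameCode M := hC ▸ mem_GC_iff.mp hc
      have h5 := hP y hy
      have h6 : ∑ i, y i = c.card + 2 * ∑ i, y i / 2 := by
        rw [← sum_ind, Finset.mul_sum, ← Finset.sum_add_distrib]
        exact Finset.sum_congr rfl fun i _ => cast_eq_wordOf hyd i
      have h7 := gc_four_dvd hc
      convert M.add_mem hy (H.four (fun i => z i - y i / 2)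
        (by rw [Finset.sum_sub_distrib]; omega)) using 1
      funext i
      have := cast_eq_wordOf hyd i
      rw [Pi.add_apply, h3 i]; omega
    · exfalso
      have := h3 none
      unfold sgn at this
      split_ifs at this <;> omega
  ext x
  refine ⟨h1 x, fun hx => ?_⟩
  rcases Int.emod_two_eq_zero_or_one (x none) with h | h
  · exact h2 x hx h
  · obtain ⟨-, x0, hx0, h3⟩ := H.finrank_and_odd
    have h4 := h2 (x - x0) (sub_mem hx (h1 x0 hx0)) (by
      have := h3 none
      rw [Pi.sub_apply]; omega)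
    simpa using M.add_mem h4 hx0

theorem frameLat_signs (H : FrameLat M) (hC : frameCode M = golayCode) :
    ∃ d : Finset GolayPt, ∀ y : GolayPt → ℤ, (fun i => 2 * y i) ∈ M →
      (∑ i, sgn d i * y i) % 4 = 0 := by
  have hev : ∀ y : GolayPt → ℤ, (fun i => 2 * y i) ∈ M → (∑ i, y i) % 2 = 0 := by
    intro y hy
    have h1 : (fun i => (y i : ZMod 2)) ∈ golayCode := hC ▸ ⟨y, hy, rfl⟩
    have h2 := gc_four_dvd (support_mem_GC_iff.mpr h1)
    have h6 : ∑ i, y i = (support₂ fun i => (y i : ZMod 2)).card + 2 * ∑ i, y i / 2 := by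
      rw [← sum_ind, Finset.mul_sum, ← Finset.sum_add_distrib]
      exact Finset.sum_congr rfl fun i _ => cast_eq_wordOf (wordOf_support _) i
    omega
  have hwd : ∀ y y' : GolayPt → ℤ, (fun i => 2 * y i) ∈ M → (fun i => 2 * y' i) ∈ M →
      (fun i => (y i : ZMod 2)) = (fun i => (y' i : ZMod 2)) →
      (∑ i, y i) % 4 = (∑ i, y' i) % 4 := by
    intro y y' hy hy' h
    have h1 : ∀ i, y i - y' i = 2 * ((y i - y' i) / 2) := by
      intro i
      have := (ZMod.intCast_eq_intCast_iff' _ _ 2).mp (congrFun h i)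
      push_cast at this
      omega
    have h2 := H.four_even (z := fun i => (y i - y' i) / 2) (by
      convert M.sub_mem hy hy' using 1
      funext i
      have := h1 i
      rw [Pi.sub_apply]; omega)
    have h3 : ∑ i, y i - ∑ i, y' i = 2 * ∑ i, (y i - y' i) / 2 := by
      rw [← Finset.sum_sub_distrib, Finset.mul_sum]
      exact Finset.sum_congr rfl fun i _ => h1 i
    omega
  have hch : ∀ w : frameCode M, ∃ y : GolayPt → ℤ, (fun i => 2 * y i) ∈ M ∧
      w.1 = fun i => (y i : ZMod 2) := fun w => w.2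
  choose Y hY1 hY2 using hch
  let δ : frameCode M →+ ZMod 2 := AddMonoidHom.mk' (fun w => (((∑ i, Y w i) / 2 : ℤ) : ZMod 2)) (by
    intro v w
    have h1 := hwd (Y (v + w)) (Y v + Y w) (hY1 _)
      (by convert M.add_mem (hY1 v) (hY1 w) using 1; funext i; simp [mul_add])
      (by
        rw [← hY2]; funext i
        rw [Submodule.coe_add, Pi.add_apply, hY2 v, hY2 w]; simp)
    simp only [Pi.add_apply, Finset.sum_add_distrib] at h1
    have h2 := hev _ (hY1 v)
    have h3 := hev _ (hY1 w)
    rw [← Int.cast_add]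
    refine (ZMod.intCast_eq_intCast_iff' _ _ 2).mpr ?_
    push_cast
    omega)
  obtain ⟨f, hf⟩ := LinearMap.exists_extend (δ.toZModLinearMap 2)
  refine ⟨univ.filter fun i => f (fun j => if i = j then 1 else 0) = 1, fun y hy => ?_⟩
  set d := univ.filter fun i => f (fun j => if i = j then 1 else 0) = 1 with hd
  have h1 : f (fun i => (y i : ZMod 2)) = (((∑ i, y i) / 2 : ℤ) : ZMod 2) := by
    have h2 := LinearMap.congr_fun hf ⟨_, y, hy, rfl⟩
    simp only [LinearMap.comp_apply, Submodule.subtype_apply] at h2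
    rw [h2]
    refine (ZMod.intCast_eq_intCast_iff' _ _ 2).mpr ?_
    have h3 := hwd _ _ (hY1 ⟨_, y, hy, rfl⟩) hy (hY2 _).symm
    have h4 := hev _ hy
    push_cast
    omega
  have h2 : f (fun i => (y i : ZMod 2)) = ((∑ i, ind d i * y i : ℤ) : ZMod 2) := by
    rw [LinearMap.pi_apply_eq_sum_univ]
    push_cast
    refine Finset.sum_congr rfl fun i _ => ?_
    have h3 : i ∈ d ↔ f (fun j => if i = j then 1 else 0) = 1 := by simp [hd]
    unfold ind
    rcases zmod2_cases (f (fun j => if i = j then 1 else 0)) with h4 | h4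
    · rw [if_neg (by rw [h3, h4]; decide), h4]; simp
    · rw [if_pos (h3.mpr h4), h4]; simp
  have h3 := (ZMod.intCast_eq_intCast_iff' _ _ 2).mp (h1.symm.trans h2)
  have h4 : ∑ i, sgn d i * y i = ∑ i, y i - 2 * ∑ i, ind d i * y i := by
    rw [Finset.mul_sum, ← Finset.sum_sub_distrib]
    exact Finset.sum_congr rfl fun i _ => by rw [sgn_eq]; ring
  have h5 := hev y hy
  push_cast at h3
  omega

/-- sign change as an additive map -/
def sgnMap (d : Finset GolayPt) : (GolayPt → ℤ) →+ (GolayPt → ℤ) :=
  AddMonoidHom.mk' (fun x i => sgn d i * x i) fun _ _ => funext fun _ => mul_add _ _ _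

theorem sgnMap_sgnMap (d : Finset GolayPt) (x : GolayPt → ℤ) : sgnMap d (sgnMap d x) = x :=
  funext fun i => sgn_mul_sgn_mul d i _

theorem sqNorm_sgnMap (d : Finset GolayPt) (x : GolayPt → ℤ) : sqNorm (sgnMap d x) = sqNorm x :=
  Finset.sum_congr rfl fun i _ => by
    show (sgn d i * x i) ^ 2 = _
    rw [mul_pow, sq (sgn d i), sgn_mul_self, one_mul]

theorem frameLat_golay (H : FrameLat M) (hC : frameCode M = golayCode) :
    ∃ d : Finset GolayPt, ∀ x, x ∈ M ↔ sgnMap d x ∈ leechLattice := by
  obtain ⟨d, hd⟩ := frameLat_signs H hC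
  have hmul : ∀ (k : ℤ) (y : GolayPt → ℤ), sgnMap d (fun i => k * y i) =
      fun i => k * (sgn d i * y i) := fun k y => funext fun i => by
    show sgn d i * (k * y i) = _
    ring
  have H' : FrameLat (M.comap (sgnMap d)) :=
    { card := H.card
      dvd := fun x hx => sqNorm_sgnMap d x ▸ H.dvd _ hx
      ne16 := fun x hx => sqNorm_sgnMap d x ▸ H.ne16 _ hx
      four := fun z hz => by
        rw [AddSubgroup.mem_comap, hmul]
        exact H.four _ (by rw [sum_sgn_mul_mod, hz])
      cnt := by
        rw [← H.cnt]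
        refine Set.ncard_congr (fun x _ => sgnMap d x) ?_ ?_ ?_
        · rintro x ⟨h1, h2⟩
          exact ⟨h1, by rw [sqNorm_sgnMap, h2]⟩
        · intro x y _ _ h
          rw [← sgnMap_sgnMap d x, h, sgnMap_sgnMap]
        · rintro x ⟨h1, h2⟩
          exact ⟨sgnMap d x, ⟨by rwa [AddSubgroup.mem_comap, sgnMap_sgnMap],
            by rw [sqNorm_sgnMap, h2]⟩, sgnMap_sgnMap d x⟩ }
  have hcast : ∀ y : GolayPt → ℤ, (fun i => ((sgn d i * y i : ℤ) : ZMod 2)) =
      fun i => (y i : ZMod 2) := by
    intro y
    funext i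
    unfold sgn
    split_ifs <;> simp
  have hC' : frameCode (M.comap (sgnMap d)) = golayCode := by
    rw [← hC]
    ext w
    constructor
    · rintro ⟨y, hy, rfl⟩
      rw [AddSubgroup.mem_comap, hmul] at hy
      exact ⟨_, hy, (hcast y).symm⟩
    · rintro ⟨y, hy, rfl⟩
      refine ⟨fun i => sgn d i * y i, ?_, (hcast y).symm⟩
      rw [AddSubgroup.mem_comap, hmul]
      simpa only [sgn_mul_sgn_mul] using hy
  have h := frameLat_eq_leech H' hC' fun y hy => by
    rw [AddSubgroup.mem_comap, hmul] at hy
    simpa only [sgn_mul_sgn_mul] using hd _ hy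
  refine ⟨d, fun x => ?_⟩
  rw [← h, AddSubgroup.mem_comap, sgnMap_sgnMap]

end Cfsg.Lib.Leech
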