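import Cfsg.Agent.Lib.Leech.UniqueB
import Cfsg.Agent.Lib.Golay.Unique
import Cfsg.Agent.Lib.Golay.Mathieu
import Cfsg.Agent.Lib.Steiner.Witt24

/-! Conway's characterisation of the Leech lattice, with a prescribed frame vector. -/

set_option autoImplicit false

namespace Cfsg.Lib.Leech

open Finset
open scoped Pointwise symmDiff

/-- An even lattice of rank 24 with the short-vector counts of the Leech lattice. -/
structure LeechLike {L : Type*} [AddCommGroup L] (b : LinearMap.BilinForm ℤ L)
    (e : L ≃+ (Fin 24 → ℤ)) : Prop where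
  symm : ∀ x y, b x y = b y x
  pos : ∀ x, x ≠ 0 → 0 < b x x
  even : ∀ x, (2 : ℤ) ∣ b x x
  no2 : ∀ x, b x x ≠ 2
  h4 : {x | b x x = 4}.ncard = 196560
  h6 : {x | b x x = 6}.ncard = 16773120
  h8 : {x | b x x = 8}.ncard = 398034000

variable {L : Type*} [AddCommGroup L] {b : LinearMap.BilinForm ℤ L} {e : L ≃+ (Fin 24 → ℤ)}

theorem LeechLike.four_le (H : LeechLike b e) {x : L} (hx : x ≠ 0) : 4 ≤ b x x := by
  have h1 := H.pos x hx
  have h2 := H.even x
  have h3 := H.no2 x
  omega

theorem LeechLike.orth_card_le (H : LeechLike b e) {ι : Type*} [Fintype ι] (v : ι → L)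
    (h0 : ∀ i, v i ≠ 0) (h : ∀ i j, i ≠ j → b (v i) (v j) = 0) : Fintype.card ι ≤ 24 := by
  have hli : LinearIndependent ℤ v := by
    rw [Fintype.linearIndependent_iff]
    intro g hg j
    have h1 : b (∑ i, g i • v i) (v j) = 0 := by rw [hg]; simp
    rw [map_sum, LinearMap.sum_apply, Finset.sum_eq_single j] at h1
    · simp only [map_smul, LinearMap.smul_apply, smul_eq_mul] at h1
      exact (mul_eq_zero.mp h1).resolve_right (H.pos _ (h0 j)).ne'
    · intro i _ hij
      simp [h i j hij]
    · simp
  have h2 := (hli.map' e.toIntLinearEquiv.toLinearMap e.toIntLinearEquiv.ker).fintype_card_le_finrank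
  simpa using h2

/-- classes modulo `2L` -/
def cls (e : L ≃+ (Fin 24 → ℤ)) (x : L) : Fin 24 → ZMod 2 := fun i => (e x i : ZMod 2)

theorem cls_eq {x y : L} (h : cls e x = cls e y) : ∃ z, x - y = z + z := by
  refine ⟨e.symm fun i => (e x i - e y i) / 2, e.injective ?_⟩
  funext i
  have := (ZMod.intCast_eq_intCast_iff' _ _ 2).mp (congrFun h i)
  push_cast at this
  simp only [map_sub, map_add, AddEquiv.apply_symm_apply, Pi.sub_apply, Pi.add_apply]
  omega

theorem cls_neg (x : L) : cls e (-x) = cls e x := by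
  funext i
  simp [cls]

theorem LeechLike.short (H : LeechLike b e) {x y : L} (hx : b x x ≤ 8) (hy : b y y ≤ 8)
    (h : cls e x = cls e y) (h1 : x ≠ y) (h2 : x ≠ -y) : b x x = 8 ∧ b y y = 8 ∧ b x y = 0 := by
  obtain ⟨z, hz⟩ := cls_eq h
  have hz' : x + y = (z + y) + (z + y) := by linear_combination (norm := abel) hz
  have h3 : z ≠ 0 := fun h0 => h1 (by rw [h0, add_zero, sub_eq_zero] at hz; exact hz)
  have h4 : z + y ≠ 0 := fun h0 => h2 (by
    rw [h0, add_zero, add_eq_zero_iff_eq_neg] at hz'; exact hz')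
  have h5 := H.four_le h3
  have h6 := H.four_le h4
  have h7 : b (x - y) (x - y) = 4 * b z z := by
    rw [hz]; simp only [map_add, LinearMap.add_apply]; ring
  have h8 : b (x + y) (x + y) = 4 * b (z + y) (z + y) := by
    rw [hz']; generalize z + y = w; simp only [map_add, LinearMap.add_apply]; ring
  simp only [map_sub, LinearMap.sub_apply] at h7
  generalize b (z + y) (z + y) = t at h6 h8
  simp only [map_add, LinearMap.add_apply] at h8
  have h9 := H.symm y x
  omega

theorem LeechLike.exists_frame (H : LeechLike b e) {v : L} (hv : b v v = 8) :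
    ∃ w : Fin 24 → L, (∀ i, b (w i) (w i) = 8) ∧ (∀ i j, i ≠ j → b (w i) (w j) = 0) ∧
      (∀ i j, cls e (w i) = cls e (w j)) ∧ ∃ i, v = w i ∨ v = -w i := by
  classical
  have : Countable L := e.injective.countable
  obtain ⟨ν, hν⟩ := exists_injective_nat L
  have f4 : {x | b x x = 4}.Finite := Set.finite_of_ncard_ne_zero (by rw [H.h4]; norm_num)
  have f6 : {x | b x x = 6}.Finite := Set.finite_of_ncard_ne_zero (by rw [H.h6]; norm_num)
  have f8 : {x | b x x = 8}.Finite := Set.finite_of_ncard_ne_zero (by rw [H.h8]; norm_num)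
  have c4 : f4.toFinset.card = 196560 := by rw [← Set.ncard_eq_toFinset_card _ f4, H.h4]
  have c6 : f6.toFinset.card = 16773120 := by rw [← Set.ncard_eq_toFinset_card _ f6, H.h6]
  have c8 : f8.toFinset.card = 398034000 := by rw [← Set.ncard_eq_toFinset_card _ f8, H.h8]
  have small : ∀ (k : ℤ) (hk : k < 8) (f : {x | b x x = k}.Finite),
      f.toFinset.card ≤ 2 * (f.toFinset.image (cls e)).card := by
    intro k hk f
    refine Finset.card_le_mul_card_image _ _ fun a ha => ?_
    obtain ⟨x, hx, rfl⟩ := Finset.mem_image.mp ha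
    refine le_trans (Finset.card_le_card (t := {x, -x}) fun y hy => ?_) Finset.card_le_two
    simp only [Finset.mem_filter, Set.Finite.mem_toFinset, Set.mem_setOf_eq] at hx hy
    by_contra hc
    simp only [Finset.mem_insert, Finset.mem_singleton, not_or] at hc
    have := H.short (by omega) (by omega) hy.2 hc.1 hc.2
    omega
  let half : (Fin 24 → ZMod 2) → Finset L := fun a =>
    (f8.toFinset.filter fun x => cls e x = a).filter fun x => ν x < ν (-x)
  have hhalf : ∀ a x, x ∈ half a ↔ (b x x = 8 ∧ cls e x = a) ∧ ν x < ν (-x) := by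
    intro a x
    simp [half]
  have horth : ∀ a, ∀ x ∈ half a, ∀ y ∈ half a, x ≠ y → b x y = 0 := by
    intro a x hx y hy hxy
    rw [hhalf] at hx hy
    refine (H.short hx.1.1.le hy.1.1.le (hx.1.2.trans hy.1.2.symm) hxy fun h => ?_).2.2
    have h1 := hx.2
    have h2 := hy.2
    rw [h, neg_neg] at h1
    omega
  have hle : ∀ a, (half a).card ≤ 24 := by
    intro a
    have := H.orth_card_le (fun x : half a => (x : L)) (fun x h0 => by
      have := ((hhalf a x).mp x.2).1.1
      rw [h0] at this
      simp at this) fun x y hxy => horth a x x.2 y y.2 fun h => hxy (Subtype.ext h)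
    simpa using this
  have hcov : ∀ a x, b x x = 8 → cls e x = a → x ∈ half a ∨ -x ∈ half a := by
    intro a x h1 h2
    have h3 : x ≠ -x := by
      intro h
      have h4 : b x (-x) = -b x x := map_neg _ _
      rw [← h] at h4
      omega
    rcases lt_or_gt_of_ne (hν.ne h3) with h4 | h4
    · exact Or.inl ((hhalf a x).mpr ⟨⟨h1, h2⟩, h4⟩)
    · exact Or.inr ((hhalf a _).mpr ⟨⟨by simpa using h1, by rw [cls_neg, h2]⟩, by
        rw [neg_neg]; exact h4⟩)
  have hfib : ∀ a, (f8.toFinset.filter fun x => cls e x = a).card ≤ 2 * (half a).card := by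
    intro a
    refine le_trans (Finset.card_le_card (t := half a ∪ (half a).image Neg.neg) fun x hx => ?_) ?_
    · simp only [Finset.mem_filter, Set.Finite.mem_toFinset, Set.mem_setOf_eq] at hx
      rcases hcov a x hx.1 hx.2 with h | h
      · exact Finset.mem_union_left _ h
      · exact Finset.mem_union_right _ (Finset.mem_image.mpr ⟨_, h, neg_neg x⟩)
    · have h1 := Finset.card_union_le (half a) ((half a).image Neg.neg)
      have h2 := Finset.card_image_le (s := half a) (f := Neg.neg)
      omega
  have hdisj : ∀ (k l : ℤ) (hk : k < l) (hl : l ≤ 8) (F G : Finset L), (∀ x ∈ F, b x x = k) →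
      (∀ x ∈ G, b x x = l) → Disjoint (F.image (cls e)) (G.image (cls e)) := by
    intro k l hk hl F G hF hG
    rw [Finset.disjoint_left]
    intro a ha ha'
    obtain ⟨x, hx, rfl⟩ := Finset.mem_image.mp ha
    obtain ⟨y, hy, h⟩ := Finset.mem_image.mp ha'
    have h1 := hF x hx
    have h2 := hG y hy
    have := H.short (x := x) (y := y) (by omega) (by omega) h.symm
      (fun h => by rw [h] at h1; omega) (fun h => by rw [h] at h1; simp at h1; omega)
    omega
  have m0 : ∀ x ∈ ({0} : Finset L), b x x = 0 := by simp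
  have m4 : ∀ x ∈ f4.toFinset, b x x = 4 := by simp
  have m6 : ∀ x ∈ f6.toFinset, b x x = 6 := by simp
  have m8 : ∀ x ∈ f8.toFinset, b x x = 8 := by simp
  have htot : 1 + (f4.toFinset.image (cls e)).card + (f6.toFinset.image (cls e)).card +
      (f8.toFinset.image (cls e)).card ≤ 2 ^ 24 := by
    have h1 := Finset.card_le_univ (({0} : Finset L).image (cls e) ∪ f4.toFinset.image (cls e) ∪
      f6.toFinset.image (cls e) ∪ f8.toFinset.image (cls e))
    rw [Finset.card_union_of_disjoint, Finset.card_union_of_disjoint,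
      Finset.card_union_of_disjoint] at h1
    · simpa using h1
    · exact hdisj 0 4 (by norm_num) (by norm_num) _ _ m0 m4
    · rw [Finset.disjoint_union_left]
      exact ⟨hdisj 0 6 (by norm_num) (by norm_num) _ _ m0 m6,
        hdisj 4 6 (by norm_num) (by norm_num) _ _ m4 m6⟩
    · rw [Finset.disjoint_union_left, Finset.disjoint_union_left]
      exact ⟨⟨hdisj 0 8 (by norm_num) (by norm_num) _ _ m0 m8,
        hdisj 4 8 (by norm_num) (by norm_num) _ _ m4 m8⟩,
        hdisj 6 8 (by norm_num) (by norm_num) _ _ m6 m8⟩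
  have s4 := small 4 (by norm_num) f4
  have s6 := small 6 (by norm_num) f6
  have hvm : cls e v ∈ f8.toFinset.image (cls e) := Finset.mem_image_of_mem _ (by simpa using hv)
  have h8 := Finset.card_eq_sum_card_image (cls e) f8.toFinset
  rw [← Finset.add_sum_erase _ _ hvm] at h8
  have h9 : ∑ a ∈ (f8.toFinset.image (cls e)).erase (cls e v),
      (f8.toFinset.filter fun x => cls e x = a).card ≤
      ((f8.toFinset.image (cls e)).erase (cls e v)).card * 48 := by
    rw [← smul_eq_mul, ← Finset.sum_const]
    refine Finset.sum_le_sum fun a _ => ?_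
    have := hfib a
    have := hle a
    omega
  rw [Finset.card_erase_of_mem hvm] at h9
  have h10 := hfib (cls e v)
  have h11 := hle (cls e v)
  have h12 : (half (cls e v)).card = 24 := by omega
  let q : half (cls e v) ≃ Fin 24 := Finset.equivFinOfCardEq h12
  refine ⟨fun i => (q.symm i : L), fun i => ((hhalf _ _).mp (q.symm i).2).1.1,
    fun i j hij => horth _ _ (q.symm i).2 _ (q.symm j).2 fun h => hij (q.symm.injective
      (Subtype.ext h)),
    fun i j => ((hhalf _ _).mp (q.symm i).2).1.2.trans ((hhalf _ _).mp (q.symm j).2).1.2.symm, ?_⟩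
  rcases hcov _ v hv rfl with h | h
  · exact ⟨q ⟨v, h⟩, Or.inl (by simp)⟩
  · exact ⟨q ⟨-v, h⟩, Or.inr (by simp)⟩

/-- coordinates with respect to a frame -/
def frameMap (b : LinearMap.BilinForm ℤ L) {ι : Type*} (w : ι → L) : L →+ (ι → ℤ) :=
  AddMonoidHom.mk' (fun x i => b x (w i)) fun x y => funext fun i => by simp

theorem frameMap_apply {ι : Type*} (w : ι → L) (x : L) (i : ι) : frameMap b w x i = b x (w i) := rfl

section frame
variable {ι : Type*} [Fintype ι] [DecidableEq ι] {w : ι → L}

theorem LeechLike.parseval (H : LeechLike b e) (hι : Fintype.card ι = 24)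
    (h1 : ∀ i, b (w i) (w i) = 8) (h2 : ∀ i j, i ≠ j → b (w i) (w j) = 0) (x : L) :
    sqNorm (frameMap b w x) = 8 * b x x := by
  have key : ∀ y : L, (∀ i, b y (w i) = 0) → y = 0 := by
    intro y hy
    by_contra h0
    have := H.orth_card_le (fun o : Option ι => o.elim y w) (by
      rintro (_ | i)
      · exact h0
      · intro h
        have := h1 i
        simp only [Option.elim] at h
        rw [h] at this
        simp at this) (by
      rintro (_ | i) (_ | j) hij
      · exact absurd rfl hij
      · exact hy j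
      · exact (H.symm _ _).trans (hy i)
      · exact h2 i j fun h => hij (by rw [h]))
    rw [Fintype.card_option, hι] at this
    omega
  have h3 : (8 : ℤ) • x = ∑ i, b x (w i) • w i := by
    rw [← sub_eq_zero]
    refine key _ fun j => ?_
    rw [map_sub, LinearMap.sub_apply, map_sum, LinearMap.sum_apply, Finset.sum_eq_single j]
    · simp [h1 j, mul_comm]
    · intro i _ hij
      simp [h2 i j hij]
    · simp
  have h4 : b x ((8 : ℤ) • x) = ∑ i, b x (w i) * b x (w i) := by
    rw [h3, map_sum]
    simp
  rw [map_smul, smul_eq_mul] at h4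
  rw [h4]
  exact Finset.sum_congr rfl fun i _ => sq _

theorem LeechLike.frameMap_inj (H : LeechLike b e) (hι : Fintype.card ι = 24)
    (h1 : ∀ i, b (w i) (w i) = 8) (h2 : ∀ i j, i ≠ j → b (w i) (w j) = 0) :
    Function.Injective (frameMap b w) := by
  rw [injective_iff_map_eq_zero]
  intro x hx
  by_contra h0
  have h3 := H.parseval hι h1 h2 x
  have h4 := H.pos x h0
  rw [hx] at h3
  simp [sqNorm] at h3
  omega

theorem LeechLike.frameLat (H : LeechLike b e) (hι : Fintype.card ι = 24)
    (h1 : ∀ i, b (w i) (w i) = 8) (h2 : ∀ i j, i ≠ j → b (w i) (w j) = 0)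
    (h3 : ∀ i j, cls e (w i) = cls e (w j)) : FrameLat (frameMap b w).range where
  card := hι
  dvd := by
    rintro _ ⟨x, rfl⟩
    have := H.even x
    rw [H.parseval hι h1 h2]; omega
  ne16 := by
    rintro _ ⟨x, rfl⟩
    have := H.no2 x
    rw [H.parseval hι h1 h2]; omega
  four := by
    intro z hz
    obtain ⟨a⟩ : Nonempty ι := Fintype.card_pos_iff.mp (by rw [hι]; norm_num)
    choose u hu using fun i => cls_eq (h3 i a)
    have hb : ∀ i j, b (w i) (w j) = if i = j then 8 else 0 := by
      intro i j
      split_ifs with h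
      · rw [h, h1]
      · exact h2 i j h
    have hu' : ∀ i j, b (u i) (w j) = (if i = j then 4 else 0) - (if a = j then 4 else 0) := by
      intro i j
      have := congrArg (fun x => b x (w j)) (hu i)
      simp only [map_sub, map_add, LinearMap.sub_apply, LinearMap.add_apply, hb] at this
      split_ifs at this ⊢ <;> omega
    refine ⟨∑ i, z i • u i + ((∑ i, z i) / 2) • w a, funext fun j => ?_⟩
    simp only [frameMap_apply, map_add, map_sum, map_smul, LinearMap.add_apply,
      LinearMap.sum_apply, LinearMap.smul_apply, smul_eq_mul, hu', hb, mul_sub,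
      Finset.sum_sub_distrib, mul_ite, mul_zero, Finset.sum_ite_eq', mem_univ, if_true]
    split_ifs
    · rw [← Finset.sum_mul]; omega
    · simp; ring
  cnt := by
    rw [← H.h4]
    symm
    refine Set.ncard_congr (fun x _ => frameMap b w x) ?_ ?_ ?_
    · intro x hx
      exact ⟨⟨x, rfl⟩, by rw [H.parseval hι h1 h2, hx]; rfl⟩
    · intro x y _ _ h
      exact H.frameMap_inj hι h1 h2 h
    · rintro _ ⟨⟨x, rfl⟩, hx⟩
      refine ⟨x, ?_, rfl⟩
      rw [H.parseval hι h1 h2] at hx
      show b x x = 4
      omega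

end frame

theorem LeechLike.exists_iso (H : LeechLike b e) {v : L} (hv : b v v = 8) :
    ∃ f : L ≃+ leechLattice, (∀ x, nrm (f x) = 8 * b x x) ∧ ∃ i, f v = e8 i ∨ f v = -e8 i := by
  obtain ⟨w, h1, h2, h3, i0, hi0⟩ := H.exists_frame hv
  have H1 := H.frameLat (by simp) h1 h2 h3
  have hdim := H1.finrank_and_odd.1
  obtain ⟨q, hq⟩ := Golay.code_equiv_of_iso _ hdim (Steiner.unique24 (by simp) card_pt
    (Golay.steiner_of_code _ hdim
      (fun c hc => by rw [Golay.hammingNorm_eq_card]; exact (H1.code_wt hc).1)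
      (fun c hc => by rw [Golay.hammingNorm_eq_card]; exact (H1.code_wt hc).2))
    Golay.octads_steiner)
  let w' : GolayPt → L := fun p => w (q.symm p)
  have h1' : ∀ i, b (w' i) (w' i) = 8 := fun i => h1 _
  have h2' : ∀ i j, i ≠ j → b (w' i) (w' j) = 0 := fun i j h => h2 _ _ (q.symm.injective.ne h)
  have H2 := H.frameLat card_pt h1' h2' fun i j => h3 _ _
  have hC : frameCode (frameMap b w').range = golayCode := by
    ext c
    rw [hq]
    constructor
    · rintro ⟨y, ⟨x, hx⟩, rfl⟩
      refine ⟨fun i => y (q i), ⟨x, funext fun i => ?_⟩, rfl⟩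
      have := congrFun hx (q i)
      simpa [frameMap_apply, w'] using this
    · rintro ⟨y, ⟨x, hx⟩, hy⟩
      refine ⟨fun p => y (q.symm p), ⟨x, funext fun p => congrFun hx (q.symm p)⟩, funext fun p => ?_⟩
      have := congrFun hy (q.symm p)
      simpa using this
  obtain ⟨d, hd⟩ := frameLat_golay H2 hC
  let f : L →+ leechLattice := ((sgnMap d).comp (frameMap b w')).codRestrict _
    fun x => (hd _).mp ⟨x, rfl⟩
  have hf : ∀ x, (f x).1 = sgnMap d (frameMap b w' x) := fun x => rfl
  have hbij : Function.Bijective f := by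
    constructor
    · intro x y h
      refine H.frameMap_inj card_pt h1' h2' ?_
      rw [← sgnMap_sgnMap d (frameMap b w' x), ← hf, h, hf, sgnMap_sgnMap]
    · intro y
      obtain ⟨x, hx⟩ := (hd (sgnMap d y.1)).mpr (by rw [sgnMap_sgnMap]; exact y.2)
      exact ⟨x, Subtype.ext (by rw [hf, hx, sgnMap_sgnMap])⟩
  refine ⟨AddEquiv.ofBijective f hbij, fun x => ?_, q i0, ?_⟩
  · show sqNorm (f x).1 = _
    rw [hf, sqNorm_sgnMap, H.parseval card_pt h1' h2']
  · have key : f (w i0) = e8 (q i0) ∨ f (w i0) = -e8 (q i0) := by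
      have h5 : ∀ p, (f (w i0)).1 p = sgn d (q i0) * (e8 (q i0)).1 p := by
        intro p
        show sgn d p * b (w i0) (w (q.symm p)) = _
        rw [e8_apply]
        by_cases hp : p = q i0
        · rw [hp, del_self]; simp [h1]
        · rw [del_ne hp, h2 _ _ fun h => hp (by rw [h]; simp)]; simp
      unfold sgn at h5
      split_ifs at h5
      · exact Or.inr (Subtype.ext (funext fun p => by rw [h5]; simp))
      · exact Or.inl (Subtype.ext (funext fun p => by rw [h5]; simp))
    show f v = _ ∨ f v = _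
    rcases hi0 with rfl | rfl
    · exact key
    · rw [map_neg]
      rcases key with h | h <;> rw [h] <;> simp

end Cfsg.Lib.Leech
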